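import Cfsg.Agent.ClassicalMax.SympType.Step
import Cfsg.Agent.Classical.LinearBasic
import Cfsg.Prelude.Def_GeometricClasses

/-!
Facts on the special linear group used in the induction on two-groups of symplectic type.
-/

set_option autoImplicit false
set_option linter.unusedSectionVars false

namespace Cfsg.Agent.ClassicalMax.SympType

open Matrix
open scoped commutatorElement

/-- In a perfect group some iterated commutator of three commutators is non-trivial. -/
theorem exists_triple {S : Type*} [Group S] (hp : commutator S = ⊤) (hne : ∃ g : S, g ≠ 1) :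
    ∃ a ∈ commutatorSet S, ∃ b ∈ commutatorSet S, ∃ c ∈ commutatorSet S, ⁅⁅a, b⁆, c⁆ ≠ 1 := by
  by_contra hc
  push Not at hc
  have hgen : ∀ g : S, (∀ c ∈ commutatorSet S, g * c = c * g) → g ∈ Subgroup.center S := fun g hg => by
    refine Subgroup.mem_center_iff.2 fun x => ?_
    have hle : Subgroup.closure (commutatorSet S) ≤ Subgroup.centralizer {g} := (Subgroup.closure_le _).2 fun c hc' =>
      Subgroup.mem_centralizer_singleton_iff.2 (hg c hc').symm
    rw [← commutator_eq_closure, hp] at hle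
    exact Subgroup.mem_centralizer_singleton_iff.1 (hle (Subgroup.mem_top x))
  have hcen : ∀ a ∈ commutatorSet S, ∀ b ∈ commutatorSet S, ⁅a, b⁆ ∈ Subgroup.center S := fun a ha b hb =>
    hgen _ fun c hc' => commutatorElement_eq_one_iff_mul_comm.1 (hc a ha b hb c hc')
  -- so the quotient by the centre is abelian
  have hab : ∀ a ∈ commutatorSet S, ∀ x : S, ⁅a, x⁆ ∈ Subgroup.center S := by
    intro a ha x
    have hx : x ∈ Subgroup.closure (commutatorSet S) := by rw [← commutator_eq_closure, hp]; trivial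
    induction hx using Subgroup.closure_induction with
    | mem y hy => exact hcen a ha y hy
    | one => rw [commutatorElement_one_right]; exact one_mem _
    | mul y z _ _ ihy ihz =>
      have : ⁅a, y * z⁆ = ⁅a, y⁆ * (y * ⁅a, z⁆ * y⁻¹) := by simp only [commutatorElement_def]; group
      rw [this]
      exact mul_mem ihy ((inferInstance : (Subgroup.center S).Normal).conj_mem _ ihz y)
    | inv y _ ih =>
      have : ⁅a, y⁻¹⁆ = y⁻¹ * ⁅a, y⁆⁻¹ * y⁻¹⁻¹ := by simp only [commutatorElement_def]; group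
      rw [this]
      exact (inferInstance : (Subgroup.center S).Normal).conj_mem _ (inv_mem ih) _
  have hall : ∀ a x : S, ⁅a, x⁆ ∈ Subgroup.center S := by
    intro a x
    have ha : a ∈ Subgroup.closure (commutatorSet S) := by rw [← commutator_eq_closure, hp]; trivial
    induction ha using Subgroup.closure_induction with
    | mem y hy => exact hab y hy x
    | one => rw [commutatorElement_one_left]; exact one_mem _
    | mul y z _ _ ihy ihz =>
      have : ⁅y * z, x⁆ = y * ⁅z, x⁆ * y⁻¹ * ⁅y, x⁆ := by simp only [commutatorElement_def]; group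
      rw [this]
      exact mul_mem ((inferInstance : (Subgroup.center S).Normal).conj_mem _ ihz y) ihy
    | inv y _ ih =>
      have : ⁅y⁻¹, x⁆ = y⁻¹ * ⁅y, x⁆⁻¹ * y⁻¹⁻¹ := by simp only [commutatorElement_def]; group
      rw [this]
      exact (inferInstance : (Subgroup.center S).Normal).conj_mem _ (inv_mem ih) _
  have hZ : ∀ g : S, g ∈ Subgroup.center S := by
    intro g
    have hg : g ∈ Subgroup.closure (commutatorSet S) := by rw [← commutator_eq_closure, hp]; trivial
    refine (Subgroup.closure_le _).2 ?_ hg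
    rintro _ ⟨u, v, rfl⟩
    exact hall u v
  obtain ⟨g, hg⟩ := hne
  have h1 : g ∈ Subgroup.closure (commutatorSet S) := by rw [← commutator_eq_closure, hp]; trivial
  refine hg (Subgroup.mem_bot.1 ((Subgroup.closure_le _).2 ?_ h1))
  rintro _ ⟨u, v, rfl⟩
  exact Subgroup.mem_bot.2 (commutatorElement_eq_one_iff_mul_comm.2 (Subgroup.mem_center_iff.1 (hZ v) u))

variable {κ : Type*} [Fintype κ] [DecidableEq κ] {F : Type*} [Field F]

/-- A subgroup normalised by the special linear group is central or contains it. -/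
theorem le_of_normalised [Fintype F] (h : 3 ≤ Fintype.card κ ∨ (2 ≤ Fintype.card κ ∧ ∃ x : F, x ≠ 0 ∧ x ^ 2 ≠ 1))
    (L : Subgroup (GL κ F))
    (hn : ∀ l ∈ L, ∀ s : SpecialLinearGroup κ F, SpecialLinearGroup.toGL s * l * (SpecialLinearGroup.toGL s)⁻¹ ∈ L)
    (hl : ∃ l ∈ L, ∀ c : F, (l : Matrix κ κ F) ≠ c • 1) : ∀ s : SpecialLinearGroup κ F, SpecialLinearGroup.toGL s ∈ L := by
  classical
  have hperf : commutator (SpecialLinearGroup κ F) = ⊤ := Classical.commutator_sl_eq_top (h.imp id And.right)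
  obtain ⟨N, hN⟩ : ∃ N, N = L.comap (SpecialLinearGroup.toGL (n := κ) (R := F)) := ⟨_, rfl⟩
  have hnor : N.Normal := ⟨fun n hn' s => by
    rw [hN, Subgroup.mem_comap] at hn' ⊢
    rw [map_mul, map_mul, map_inv]
    exact hn _ hn' s⟩
  haveI := Classical.isSimpleGroup_psl (ι := κ) (F := F) h
  obtain ⟨π, hπ⟩ : ∃ π, π = QuotientGroup.mk' (Subgroup.center (SpecialLinearGroup κ F)) := ⟨_, rfl⟩
  rcases (hnor.map π (hπ ▸ QuotientGroup.mk'_surjective _)).eq_bot_or_eq_top with e | e
  · exfalso
    have hcen : N ≤ Subgroup.center (SpecialLinearGroup κ F) := fun n hn' => by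
      have h1 := Subgroup.mem_map_of_mem π hn'
      rw [e, Subgroup.mem_bot, hπ] at h1
      exact (QuotientGroup.eq_one_iff n).1 h1
    obtain ⟨l, hlL, hlc⟩ := hl
    -- the commutator map is a homomorphism into the centre
    have hmem : ∀ s : SpecialLinearGroup κ F, ∃ z ∈ Subgroup.center (SpecialLinearGroup κ F),
        SpecialLinearGroup.toGL z = SpecialLinearGroup.toGL s * l * (SpecialLinearGroup.toGL s)⁻¹ * l⁻¹ := by
      intro s
      have hd : (((SpecialLinearGroup.toGL s * l * (SpecialLinearGroup.toGL s)⁻¹ * l⁻¹ : GL κ F)) : Matrix κ κ F).det = 1 := by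
        have : Matrix.GeneralLinearGroup.det (SpecialLinearGroup.toGL s * l * (SpecialLinearGroup.toGL s)⁻¹ * l⁻¹) = 1 := by
          rw [map_mul, map_mul, map_mul, map_inv, map_inv, mul_comm (Matrix.GeneralLinearGroup.det _)
            (Matrix.GeneralLinearGroup.det l), mul_inv_cancel_right, mul_inv_cancel]
        have := congrArg Units.val this
        rwa [Matrix.GeneralLinearGroup.val_det_apply] at this
      refine ⟨⟨_, hd⟩, hcen ?_, Units.ext rfl⟩
      rw [hN]
      show SpecialLinearGroup.toGL (⟨_, hd⟩ : SpecialLinearGroup κ F) ∈ L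
      have e' : SpecialLinearGroup.toGL (⟨_, hd⟩ : SpecialLinearGroup κ F) =
          SpecialLinearGroup.toGL s * l * (SpecialLinearGroup.toGL s)⁻¹ * l⁻¹ := Units.ext rfl
      rw [e']
      exact mul_mem (hn l hlL s) (inv_mem hlL)
    choose z hz hze using hmem
    have hzc : ∀ s (g : GL κ F), (∃ t, g = SpecialLinearGroup.toGL t) →
        g * SpecialLinearGroup.toGL (z s) = SpecialLinearGroup.toGL (z s) * g := by
      rintro s g ⟨t, rfl⟩
      rw [← map_mul, ← map_mul, Subgroup.mem_center_iff.1 (hz s) t]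
    let f : SpecialLinearGroup κ F →* Subgroup.center (SpecialLinearGroup κ F) :=
      MonoidHom.mk' (fun s => ⟨z s, hz s⟩) fun s t => Subtype.ext (SpecialLinearGroup.toGL_injective (by
        show SpecialLinearGroup.toGL (z (s * t)) = SpecialLinearGroup.toGL (z s * z t)
        rw [map_mul SpecialLinearGroup.toGL (z s), hze, map_mul]
        calc SpecialLinearGroup.toGL s * SpecialLinearGroup.toGL t * l *
              (SpecialLinearGroup.toGL s * SpecialLinearGroup.toGL t)⁻¹ * l⁻¹
            = SpecialLinearGroup.toGL s * (SpecialLinearGroup.toGL (z t)) * l * (SpecialLinearGroup.toGL s)⁻¹ * l⁻¹ := by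
              rw [hze t]; group
          _ = SpecialLinearGroup.toGL (z t) * (SpecialLinearGroup.toGL s * l * (SpecialLinearGroup.toGL s)⁻¹ * l⁻¹) := by
              rw [hzc t _ ⟨s, rfl⟩]; group
          _ = _ := by rw [← hze s]; exact (hzc s _ ⟨z t, rfl⟩)))
    have htriv : ∀ s, f s = 1 := by
      intro s
      have hs : s ∈ commutator (SpecialLinearGroup κ F) := by rw [hperf]; trivial
      have h1 := Subgroup.mem_map_of_mem f hs
      rw [commutator_def, Subgroup.map_commutator] at h1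
      have hb : (⁅Subgroup.map f ⊤, Subgroup.map f ⊤⁆ : Subgroup _) ≤ ⊥ :=
        Subgroup.commutator_le.2 fun a _ b _ => Subgroup.mem_bot.2 (commutatorElement_eq_one_iff_mul_comm.2
          (Subtype.ext (Subgroup.mem_center_iff.1 b.2 a.1)))
      exact Subgroup.mem_bot.1 (hb h1)
    obtain ⟨c, hc⟩ := Matrix.mem_range_scalar_of_commute_transvectionStruct (M := (l : Matrix κ κ F)) fun t => by
      have h1 := hze ⟨t.toMatrix, t.det⟩
      have h2 : z ⟨t.toMatrix, t.det⟩ = 1 := congrArg Subtype.val (htriv _)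
      rw [h2, map_one] at h1
      have h3 : SpecialLinearGroup.toGL (⟨t.toMatrix, t.det⟩ : SpecialLinearGroup κ F) * l =
          l * SpecialLinearGroup.toGL (⟨t.toMatrix, t.det⟩ : SpecialLinearGroup κ F) :=
        mul_inv_eq_iff_eq_mul.1 (mul_inv_eq_one.1 h1.symm)
      exact congrArg Units.val h3
    exact hlc c (by rw [← hc, Matrix.scalar_apply, Matrix.smul_one_eq_diagonal])
  · intro s
    have hs : s ∈ commutator (SpecialLinearGroup κ F) := by rw [hperf]; trivial
    suffices commutator (SpecialLinearGroup κ F) ≤ N by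
      have := this hs
      rwa [hN, Subgroup.mem_comap] at this
    rw [commutator_eq_closure, Subgroup.closure_le]
    rintro _ ⟨u, v, rfl⟩
    have hdec : ∀ u : SpecialLinearGroup κ F, ∃ n ∈ N, ∃ w ∈ Subgroup.center (SpecialLinearGroup κ F), u = n * w := by
      intro u
      obtain ⟨n, hn', hnu⟩ : π u ∈ N.map π := by rw [e]; trivial
      rw [hπ] at hnu
      exact ⟨n, hn', n⁻¹ * u, QuotientGroup.eq.1 hnu, by group⟩
    obtain ⟨n, hn1, w, hw, rfl⟩ := hdec u
    obtain ⟨m, hm, w', hw', rfl⟩ := hdec v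
    have ew : ∀ x, w * x = x * w := fun x => (Subgroup.mem_center_iff.1 hw x).symm
    have ew' : ∀ x, w' * x = x * w' := fun x => (Subgroup.mem_center_iff.1 hw' x).symm
    have : ⁅n * w, m * w'⁆ = n * m * n⁻¹ * m⁻¹ := by
      rw [commutatorElement_def, _root_.mul_inv_rev, _root_.mul_inv_rev]
      calc n * w * (m * w') * (w⁻¹ * n⁻¹) * (w'⁻¹ * m⁻¹) = n * (w * m) * (w' * (w⁻¹ * n⁻¹)) * (w'⁻¹ * m⁻¹) := by group
        _ = n * (m * w) * ((w⁻¹ * n⁻¹) * w') * (w'⁻¹ * m⁻¹) := by rw [ew m, ew']
        _ = _ := by group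
    show ⁅n * w, m * w'⁆ ∈ N
    rw [this]
    exact mul_mem (mul_mem (mul_mem hn1 hm) (inv_mem hn1)) (inv_mem hm)

/-- Some element of determinant one fails to normalise. -/
theorem exists_not_normalise [Finite F] {R : Subgroup (GL κ F)} (h : PS R) (hd : 2 ≤ Fintype.card κ) :
    ∃ s : SpecialLinearGroup κ F, ¬ ∀ r ∈ R, SpecialLinearGroup.toGL s * r * (SpecialLinearGroup.toGL s)⁻¹ ∈ R := by
  classical
  haveI := h.nonempty
  obtain ⟨r, hr, hr1⟩ : ∃ r ∈ R, pr r ≠ 1 := by
    by_contra! hc
    have hle : Nat.card (R.map (pr (ι := κ) (E := F))) ≤ 1 :=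
      Finite.card_le_one_iff_subsingleton.2 ⟨fun u v => Subtype.ext (by
        obtain ⟨_, ru, hru, rfl⟩ := u
        obtain ⟨_, rv, hrv, rfl⟩ := v
        show pr ru = pr rv
        rw [hc ru hru, hc rv hrv])⟩
    have := h.card_sq_le
    have := Nat.mul_le_mul hd hd
    omega
  obtain ⟨c0, x, hx, e0, hxx⟩ := h.root r hr
  have hx1 : pr x ≠ 1 := fun e => hr1 (by rw [e0, map_mul, pr_sc, e, one_mul])
  obtain ⟨y, hy, hxy⟩ := h.exists_anti hx hx1
  obtain ⟨N, hN⟩ : ∃ N : Matrix κ κ F, N = (1 + (x : Matrix κ κ F)) * (y : Matrix κ κ F) := ⟨_, rfl⟩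
  have hx2 : (x : Matrix κ κ F) * x = 1 := congrArg Units.val hxx
  have hxy' : (x : Matrix κ κ F) * y = -((y : Matrix κ κ F) * x) := congrArg Units.val hxy
  have hxN : (x : Matrix κ κ F) * N = N := by
    rw [hN, ← Matrix.mul_assoc, mul_add, mul_one, hx2, add_comm]
  have hNx : N * (x : Matrix κ κ F) = -N := by
    rw [hN, Matrix.mul_assoc, show (y : Matrix κ κ F) * x = -((x : Matrix κ κ F) * y) by rw [hxy', neg_neg], mul_neg,
      ← Matrix.mul_assoc, add_mul, one_mul, hx2, add_comm]
  have hNN : N * N = 0 := by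
    have h1 : N * N = -(N * N) := by
      calc N * N = N * ((x : Matrix κ κ F) * N) := by rw [hxN]
        _ = -(N * N) := by rw [← Matrix.mul_assoc, hNx, neg_mul]
    exact (smul_eq_zero.1 (show (2 : F) • (N * N) = 0 by rw [two_smul]; exact add_eq_zero_iff_eq_neg.2 h1)).resolve_left h.two
  have inv1 : ∀ c : F, (1 + c • N) * (1 + (-c) • N) = 1 := fun c => by
    rw [mul_add, mul_one, add_mul, one_mul, smul_mul_smul_comm, hNN, smul_zero, add_zero, add_assoc, ← add_smul,
      add_neg_cancel, zero_smul, add_zero]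
  obtain ⟨v, hv⟩ : ∃ v : GL κ F, (v : Matrix κ κ F) = 1 + (4 : F)⁻¹ • N ∧
      ((v⁻¹ : GL κ F) : Matrix κ κ F) = 1 + (-(4 : F)⁻¹) • N :=
    ⟨⟨1 + (4 : F)⁻¹ • N, 1 + (-(4 : F)⁻¹) • N, inv1 _, by simpa using inv1 (-(4 : F)⁻¹)⟩, rfl, rfl⟩
  obtain ⟨u, hu⟩ : ∃ u, u = v * x * v⁻¹ * x := ⟨_, rfl⟩
  have hu' : (u : Matrix κ κ F) = 1 + (2 : F)⁻¹ • N := by
    have e1 : (x : Matrix κ κ F) * (1 + (-(4 : F)⁻¹) • N) * x = 1 + (4 : F)⁻¹ • N := by
      rw [mul_add, mul_one, Matrix.mul_smul, hxN, add_mul, hx2, Matrix.smul_mul, hNx, smul_neg, neg_smul, neg_neg]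
    rw [hu, mul_assoc, mul_assoc v, Units.val_mul, Units.val_mul, Units.val_mul, hv.1, hv.2, ← Matrix.mul_assoc (x : Matrix κ κ F),
      e1, mul_add, mul_one, add_mul, one_mul, smul_mul_smul_comm, hNN, smul_zero, add_zero, add_assoc, ← add_smul]
    congr 2
    have h4 : (4 : F) ≠ 0 := by rw [show (4 : F) = 2 * 2 by norm_num]; exact mul_ne_zero h.two h.two
    field_simp [h.two]
    ring
  have hdet : (u : Matrix κ κ F).det = 1 := by
    have h1 : (Matrix.GeneralLinearGroup.det u : Fˣ) = Matrix.GeneralLinearGroup.det x * Matrix.GeneralLinearGroup.det x := by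
      rw [hu, map_mul, map_mul, map_mul, map_inv, mul_comm (Matrix.GeneralLinearGroup.det v), mul_inv_cancel_right]
    rw [← map_mul, hxx, map_one] at h1
    have := congrArg Units.val h1
    rwa [Matrix.GeneralLinearGroup.val_det_apply] at this
  refine ⟨⟨(u : Matrix κ κ F), hdet⟩, fun hall => ?_⟩
  obtain ⟨m, hm⟩ : ∃ m, m = u * x * u⁻¹ := ⟨_, rfl⟩
  have hmR : m ∈ R := by
    have := hall x hx
    rw [show SpecialLinearGroup.toGL (⟨(u : Matrix κ κ F), hdet⟩ : SpecialLinearGroup κ F) = u from Units.ext rfl,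
      ← hm] at this
    exact this
  have hm' : (m : Matrix κ κ F) = x - N := by
    have hui : ((u⁻¹ : GL κ F) : Matrix κ κ F) = 1 + (-(2 : F)⁻¹) • N :=
      Units.inv_eq_of_mul_eq_one_right (by rw [hu']; exact inv1 _)
    rw [hm, Units.val_mul, Units.val_mul, hu', hui, add_mul, one_mul, Matrix.smul_mul, hNx, smul_neg, mul_add, mul_one,
      Matrix.mul_smul, add_mul, hxN, Matrix.neg_mul, Matrix.smul_mul, hNN, smul_zero, neg_zero, add_zero, neg_smul,
      add_assoc, ← neg_add, ← add_smul, ← sub_eq_add_neg,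
      show (2 : F)⁻¹ + (2 : F)⁻¹ = 1 by field_simp [h.two]; norm_num, one_smul]
  have hne : N ≠ 0 := hN ▸ h.cancel hx1
  rcases h.comm m hmR x hx with e | e
  · have e' := congrArg Units.val e
    rw [Units.val_mul, Units.val_mul, hm', sub_mul, mul_sub, hNx, hxN, sub_neg_eq_add, sub_eq_add_neg] at e'
    have e2 : N = -N := add_left_cancel e'
    exact hne ((smul_eq_zero.1 (show (2 : F) • N = 0 by rw [two_smul]; exact add_eq_zero_iff_eq_neg.2 e2)).resolve_left h.two)
  · have e' := congrArg Units.val e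
    rw [Units.val_neg, Units.val_mul, Units.val_mul, hm', sub_mul, mul_sub, hNx, hxN, sub_neg_eq_add, hx2, neg_sub] at e'
    have e2 : (2 : F) • (1 : Matrix κ κ F) = 0 := by
      rw [two_smul]
      have : (1 : Matrix κ κ F) + N + 1 = N := by rw [e', sub_add_cancel]
      calc (1 : Matrix κ κ F) + 1 = (1 + N + 1) - N := by abel
        _ = 0 := by rw [this, sub_self]
    exact one_ne_zero ((smul_eq_zero.1 e2).resolve_left h.two)

end Cfsg.Agent.ClassicalMax.SympType
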