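import Mathlib

/-!
A dihedral ascent: two involutions each fixing a single common point generate nothing beyond the point stabiliser
provided the products with conjugates of one of them fix no second point.
-/

set_option autoImplicit false

namespace Cfsg.Agent.ClassicalMax.SympType

variable {K : Type*} [Group K]

/-- An element of `K` normalises only the base point among the cosets of `N`. -/
def Lone (N : Subgroup K) (g : K) : Prop := ∀ k, k⁻¹ * g * k ∈ N → k ∈ N

theorem Lone.of_sq {N : Subgroup K} {g : K} (h : Lone N (g * g)) : Lone N g := fun k hk =>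
  h k (by have := N.mul_mem hk hk; rwa [show k⁻¹ * g * k * (k⁻¹ * g * k) = k⁻¹ * (g * g) * k by group] at this)

theorem Lone.conj {N : Subgroup K} {g a : K} (h : Lone N g) (ha : a ∈ N) : Lone N (a * g * a⁻¹) := fun k hk => by
  have := h (a⁻¹ * k) (by rwa [show (a⁻¹ * k)⁻¹ * g * (a⁻¹ * k) = k⁻¹ * (a * g * a⁻¹) * k by group])
  simpa using N.mul_mem ha this

/-- The dihedral ascent. -/
theorem ascent [Finite K] (N : Subgroup K) {r z : K} (hr : r * r = 1) (hz : z * z = 1) (hrN : r ∈ N) (hzN : z ∈ N)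
    (hrl : Lone N r) (hzl : Lone N z) (hprod : ∀ g ∈ N, Lone N (r * (g * z * g⁻¹))) : N = ⊤ := by
  by_contra hne
  obtain ⟨k, hk⟩ : ∃ k, k ∉ N := by
    by_contra h
    push Not at h
    exact hne (eq_top_iff.2 fun k _ => h k)
  obtain ⟨y, hy⟩ : ∃ y, y = k * z * k⁻¹ := ⟨_, rfl⟩
  have hy2 : y * y = 1 := by
    calc y * y = k * (z * z) * k⁻¹ := by rw [hy]; group
      _ = 1 := by rw [hz, mul_one, mul_inv_cancel]
  have ri : r⁻¹ = r := inv_eq_of_mul_eq_one_right hr
  have yi : y⁻¹ = y := inv_eq_of_mul_eq_one_right hy2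
  let S : Set (Subgroup K) := {P | (∀ p ∈ P, p ∈ N ∧ k⁻¹ * p * k ∈ N ∧ r * p * r ∈ P ∧ y * p * y ∈ P)}
  have hS : S.Nonempty := ⟨⊥, fun p hp => by
    rw [Subgroup.mem_bot.1 hp]; simp [hr, hy2]⟩
  obtain ⟨P, hP, hmax⟩ := S.toFinite.exists_maximal hS
  set c := r * y with hc
  have hrn : r ∈ Subgroup.normalizer (P : Set K) := Subgroup.mem_normalizer_iff.2 fun p => by
    rw [ri]
    exact ⟨fun h => (hP p h).2.2.1, fun h => by
      have := (hP _ h).2.2.1
      rwa [show r * (r * p * r) * r = r * r * p * (r * r) by simp only [mul_assoc], hr, one_mul, mul_one] at this⟩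
  have hyn : y ∈ Subgroup.normalizer (P : Set K) := Subgroup.mem_normalizer_iff.2 fun p => by
    rw [yi]
    exact ⟨fun h => (hP p h).2.2.2, fun h => by
      have := (hP _ h).2.2.2
      rwa [show y * (y * p * y) * y = y * y * p * (y * y) by simp only [mul_assoc], hy2, one_mul, mul_one] at this⟩
  have hcn : c ∈ Subgroup.normalizer (P : Set K) := mul_mem hrn hyn
  have hrc : r * c * r⁻¹ = c⁻¹ := by
    rw [hc, ri, _root_.mul_inv_rev, ri, yi, ← mul_assoc r r y, hr, one_mul]
  have hyc : y * c * y⁻¹ = c⁻¹ := by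
    rw [hc, _root_.mul_inv_rev, ri, yi, mul_assoc y (r * y), mul_assoc r, hy2, mul_one]
  have hex : ∃ j, 0 < j ∧ c ^ j ∈ P := ⟨orderOf c, orderOf_pos c, by rw [pow_orderOf_eq_one]; exact one_mem P⟩
  classical
  obtain ⟨hj0, hjP⟩ := Nat.find_spec hex
  set j := Nat.find hex with hj
  rcases Nat.even_or_odd j with ⟨i, hi⟩ | ⟨i, hi⟩
  · set w := c ^ i with hw
    have hi0 : 0 < i := by omega
    have hwP : w ∉ P := fun h => Nat.find_min hex (show i < j by omega) ⟨hi0, h⟩
    have hw2 : w * w ∈ P := by rwa [hw, ← pow_add, ← hi]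
    have hrw : r * w * r⁻¹ = w⁻¹ := by rw [hw, ← conj_pow, hrc, inv_pow]
    have hyw : y * w * y⁻¹ = w⁻¹ := by rw [hw, ← conj_pow, hyc, inv_pow]
    have hwN : w ∈ N := hrl w (by
      have e : w⁻¹ * r * w = (w * w)⁻¹ * r := by
        calc w⁻¹ * r * w = w⁻¹ * (r * w * r⁻¹) * r := by group
          _ = _ := by rw [hrw]; group
      rw [e]
      exact mul_mem (inv_mem (hP _ hw2).1) hrN)
    have hwN' : k⁻¹ * w * k ∈ N := hzl _ (by
      have e : (k⁻¹ * w * k)⁻¹ * z * (k⁻¹ * w * k) = (k⁻¹ * (w * w) * k)⁻¹ * z := by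
        calc (k⁻¹ * w * k)⁻¹ * z * (k⁻¹ * w * k) = k⁻¹ * w⁻¹ * (y * w * y⁻¹) * k * z := by rw [hy]; group
          _ = _ := by rw [hyw]; group
      rw [e]
      exact mul_mem (inv_mem (hP _ hw2).2.1) hzN)
    set P' := P ⊔ Subgroup.zpowers w with hP'
    have hwn : Subgroup.zpowers w ≤ Subgroup.normalizer (P : Set K) := Subgroup.zpowers_le.2 (pow_mem hcn i)
    have hmem : P' ∈ S := by
      intro p hp
      refine ⟨?_, ?_, ?_, ?_⟩
      · exact sup_le (fun q hq => (hP q hq).1) (Subgroup.zpowers_le.2 hwN) hp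
      · have : P' ≤ N.comap (MulAut.conj k⁻¹).toMonoidHom :=
          sup_le (fun q hq => by simpa using (hP q hq).2.1) (Subgroup.zpowers_le.2 (by simpa using hwN'))
        simpa using this hp
      · have : P' ≤ P'.comap (MulAut.conj r).toMonoidHom :=
          sup_le (fun q hq => Subgroup.mem_sup_left (by simpa [ri] using (hP q hq).2.2.1))
            (Subgroup.zpowers_le.2 (Subgroup.mem_sup_right (by simp [hrw])))
        simpa [ri] using this hp
      · have : P' ≤ P'.comap (MulAut.conj y).toMonoidHom :=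
          sup_le (fun q hq => Subgroup.mem_sup_left (by simpa [yi] using (hP q hq).2.2.2))
            (Subgroup.zpowers_le.2 (Subgroup.mem_sup_right (by simp [hyw])))
        simpa [yi] using this hp
    exact hwP (hmax hmem le_sup_left (Subgroup.mem_sup_right (Subgroup.mem_zpowers w)))
  · set e := c ^ (i + 1) with he
    have hye : y * e⁻¹ * y⁻¹ = e := by
      rw [he, ← inv_pow, ← conj_pow, show y * c⁻¹ * y⁻¹ = (y * c * y⁻¹)⁻¹ by group, hyc, inv_inv]
    have key : e * y * e⁻¹ = c ^ j * r := by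
      calc e * y * e⁻¹ = e * (y * e⁻¹ * y⁻¹) * y := by group
        _ = e * e * y := by rw [hye]
        _ = c ^ j * c * y := by rw [he, ← pow_add, ← pow_succ]; congr 2; omega
        _ = c ^ j * r := by rw [hc, mul_assoc, mul_assoc r, hy2, mul_one]
    set g := e * k with hg
    have hgz : g * z * g⁻¹ = c ^ j * r := by rw [← key, hg, hy]; group
    have hgN : g ∈ N := inv_mem_iff.1 (hzl g⁻¹ (by
      rw [inv_inv, hgz]
      exact mul_mem (hP _ hjP).1 hrN))
    exact hk (hprod g hgN k (by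
      rw [hgz]
      have := (hP _ ((hP _ hjP).2.2.1)).2.1
      simpa [mul_assoc] using this))

end Cfsg.Agent.ClassicalMax.SympType
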