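import Cfsg.Agent.ClassicalMax.SympType.Core

/-!
If all centralisers of non-trivial elements normalise the subgroup then it is normal: the case of an invariant
quadratic function with two classes, and the case of lifted transvections.
-/

set_option autoImplicit false

namespace Cfsg.Agent.ClassicalMax.SympType

variable {K : Type*} [Group K] [Finite K] {A : Subgroup K} {Perp : K → K → Prop}

/-- An invariant quadratic function whose polarisation is the pairing. -/
structure QuadOn (A : Subgroup K) (Perp : K → K → Prop) (Q : K → Prop) : Prop where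
  pol : ∀ x ∈ A, ∀ y ∈ A, (Perp x y ↔ (Q (x * y) ↔ (Q x ↔ Q y)))
  inv : ∀ g ∈ nz A, ∀ x ∈ A, (Q (g * x * g⁻¹) ↔ Q x)

/-- `T` acts as the transvection of `a`. -/
def IsTv (A : Subgroup K) (Perp : K → K → Prop) (T a : K) : Prop :=
  T ∈ nz A ∧ ∀ x ∈ A, (Perp x a → T * x * T⁻¹ = x) ∧ (¬ Perp x a → T * x * T⁻¹ = x * a)

/-- Lifts of all transvections with the behaviour of `(1 + i x) / √2`. -/
def HasTrans (A : Subgroup K) (Perp : K → K → Prop) : Prop :=
  ∀ a ∈ A, a ≠ 1 → ∃ T, IsTv A Perp T a ∧ T * T = a ∧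
    ∀ b ∈ nz A, b * b = 1 → b * a = a * b →
      (T * b * T⁻¹ = b ∨ T * b * T⁻¹ = a * b) ∧
      (T * b * T⁻¹ = b → ∀ u ∈ A, u * (b * u * b) = a → Perp u a)

namespace Data

variable (D : Data A Perp)
include D

theorem eq_of_perp_imp {e u : K} (he : e ∈ A) (hu : u ∈ A) (he1 : e ≠ 1) (hu1 : u ≠ 1)
    (h : ∀ y ∈ A, Perp y e → Perp y u) : e = u := by
  obtain ⟨y₀, hy₀, hy₀u⟩ : ∃ y ∈ A, ¬ Perp y u := by
    by_contra hc
    push Not at hc
    exact hu1 (D.nondeg u hu fun y hy => D.symm y hy u hu (hc y hy))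
  have hy₀e : ¬ Perp y₀ e := fun hc => hy₀u (h y₀ hy₀ hc)
  have hall : ∀ y ∈ A, (Perp y e ↔ Perp y u) := by
    intro y hy
    refine ⟨h y hy, fun hyu => ?_⟩
    by_contra hye
    have := h _ (mul_mem hy hy₀) ((D.mul y hy y₀ hy₀ e he).2 (iff_of_false hye hy₀e))
    exact hy₀u (((D.mul y hy y₀ hy₀ u hu).1 this).1 hyu)
  have : e * u = 1 := D.nondeg _ (mul_mem he hu) fun y hy => (D.mul e he u hu y hy).2
    ⟨fun hh => D.symm y hy u hu ((hall y hy).1 (D.symm e he y hy hh)),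
     fun hh => D.symm y hy e he ((hall y hy).2 (D.symm u hu y hy hh))⟩
  rw [← inv_eq_of_mul_eq_one_right this, D.inv_eq he]

theorem move_of_trans (hT : HasTrans A Perp) : Move A Perp := by
  intro e he u hu he1 hu1 heu
  obtain ⟨v, hv, hve, hvu⟩ : ∃ v ∈ A, Perp v e ∧ ¬ Perp v u := by
    by_contra hc
    push Not at hc
    exact heu (D.eq_of_perp_imp he hu he1 hu1 hc)
  have hv1 : v ≠ 1 := fun h => hvu (h ▸ D.perp_one hu)
  obtain ⟨T, ⟨hTN, hT⟩, -⟩ := hT v hv hv1
  refine ⟨T, hTN, (hT e he).1 (D.symm v hv e he hve), fun hp => hvu ?_⟩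
  rw [(hT u hu).2 fun hh => hvu (D.symm u hu v hv hh)] at hp
  exact ((D.mul u hu v hv u hu).1 hp).1 (D.self u hu)

/-- Elements fix a single conjugate, two classes. -/
theorem lone_of_quad {Q : K → Prop} (hQ : QuadOn A Perp Q) (hmove : Move A Perp) (hcard : 4 < Nat.card A)
    (hC : ∀ a ∈ A, a ≠ 1 → ∀ g, g * a = a * g → g ∈ nz A) {a : K} (ha : a ∈ A) (ha1 : a ≠ 1) :
    Lone (nz A) a := by
  intro k hak
  by_contra hk
  obtain ⟨A₀, B₀, hA₀, hBk, hB₀, hne, -, hsq, -, hperp, -, hsurj, -, -⟩ :=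
    D.lagrangian hmove hcard hC ha ha1 hak hk
  have hb2 : ∀ b ∈ B₀, b * b = 1 := fun b hb => by
    have h := D.sq _ (mem_cj.1 (hBk hb))
    rw [show k⁻¹ * b * k * (k⁻¹ * b * k) = k⁻¹ * (b * b) * k by group] at h
    exact eq_one_of_conj h
  have hB2 : ∀ b ∈ B₀, ∀ u ∈ A, u ∉ A₀ → ∀ w ∈ A₀, u * (b * u * b) = w → b * u * b = u * w := fun b _ u hu _ w _ h => by
    rw [← h, ← mul_assoc u u, D.sq u hu, one_mul]
  have key : ∀ u ∈ A, u ∉ A₀ → ∀ w ∈ A₀, (Perp u w ↔ Q w) := by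
    intro u hu hun w hw
    obtain ⟨b, hb, hbw⟩ := hsurj u hu hun w hw
    have e : b * u * b = u * w := hB2 b hb u hu hun w hw hbw
    rw [hQ.pol u hu w (hA₀ hw)]
    have hinv : Q (u * w) ↔ Q u := by
      have hbb : b⁻¹ = b := inv_eq_of_mul_eq_one_right (hb2 b hb)
      rw [← e]
      have := hQ.inv b (hB₀ hb) u hu
      rwa [hbb] at this
    tauto
  have h4 : ∀ x ∈ A, ∀ w ∈ A₀, Perp x w := by
    intro x hx w hw
    by_cases hxA : x ∈ A₀
    · exact (hperp x hx).2 hxA w hw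
    obtain ⟨u', hu', hu'n, hu'x⟩ : ∃ u' ∈ A, u' ∉ A₀ ∧ x * u' ∉ A₀ := by
      by_contra hc
      push Not at hc
      have hsub : (A : Set K) ⊆ (A₀ : Set K) ∪ (fun t => x * t) '' (A₀ : Set K) := fun t ht => by
        by_cases h : t ∈ A₀
        · exact Or.inl h
        · exact Or.inr ⟨x * t, hc t ht h, show x * (x * t) = t by rw [← mul_assoc, D.sq x hx, one_mul]⟩
      have h5 := (Set.ncard_le_ncard hsub (Set.toFinite _)).trans (Set.ncard_union_le _ _)
      rw [Set.ncard_image_of_injective _ (mul_right_injective x), ← Nat.card_coe_set_eq, ← Nat.card_coe_set_eq] at h5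
      change Nat.card A ≤ Nat.card A₀ + Nat.card A₀ at h5
      nlinarith
    have e : x = x * u' * u' := by rw [mul_assoc, D.sq u' hu', mul_one]
    rw [e]
    exact (D.mul _ (mul_mem hx hu') u' hu' w (hA₀ hw)).2
      ((key _ (mul_mem hx hu') hu'x w hw).trans (key u' hu' hu'n w hw).symm)
  exact hne (eq_bot_iff.2 fun w hw => Subgroup.mem_bot.2 (D.nondeg w (hA₀ hw) fun y hy =>
    D.symm y hy w (hA₀ hw) (h4 y hy w hw)))

/-- The normaliser is everything, two classes. -/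
theorem eq_top_of_quad {Q : K → Prop} (hQ : QuadOn A Perp Q) (hmove : Move A Perp) (hcard : 4 < Nat.card A)
    (hC : ∀ a ∈ A, a ≠ 1 → ∀ g, g * a = a * g → g ∈ nz A) {r z : K} (hr : r ∈ A) (hr1 : r ≠ 1) (hrQ : Q r)
    (hz : z ∈ A) (hzQ : ¬ Q z) (hz1 : z ≠ 1) : nz A = ⊤ := by
  refine ascent (nz A) (D.sq r hr) (D.sq z hz) (D.le_nz hr) (D.le_nz hz)
    (D.lone_of_quad hQ hmove hcard hC hr hr1) (D.lone_of_quad hQ hmove hcard hC hz hz1) fun g hg => ?_
  have hm := D.conj_mem hg hz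
  refine D.lone_of_quad hQ hmove hcard hC (mul_mem hr hm) fun h => hzQ ?_
  rw [← hQ.inv g hg z hz, ← inv_eq_of_mul_eq_one_right h, D.inv_eq hr]
  exact hrQ

/-- Elements fix a single conjugate, lifted transvections. -/
theorem lone_of_trans (hT : HasTrans A Perp) (hcard : 4 < Nat.card A)
    (hC : ∀ a ∈ A, a ≠ 1 → ∀ g, g * a = a * g → g ∈ nz A) {a : K} (ha : a ∈ A) (ha1 : a ≠ 1) :
    Lone (nz A) a := by
  intro k hak
  by_contra hk
  obtain ⟨A₀, B₀, hA₀, hBk, hB₀, hne, hcB, hsq, hcomm, hperp, hE, hsurj, hval, hB1⟩ :=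
    D.lagrangian (D.move_of_trans hT) hcard hC ha ha1 hak hk
  have hb2 : ∀ b ∈ B₀, b * b = 1 := fun b hb => by
    have h := D.sq _ (mem_cj.1 (hBk hb))
    rw [show k⁻¹ * b * k * (k⁻¹ * b * k) = k⁻¹ * (b * b) * k by group] at h
    exact eq_one_of_conj h
  have key : ∀ u ∈ A, u ∉ A₀ → ∀ w ∈ A₀, Perp u w := by
    intro u hu hun w hw
    by_cases hw1 : w = 1
    · exact D.symm w (hA₀ hw) u hu (hw1 ▸ D.perp_one hu)
    obtain ⟨b, hb, hbw⟩ := hsurj u hu hun w hw
    have hb1 : b ≠ 1 := fun h => hw1 (by rw [← hbw, h, one_mul, mul_one, D.sq u hu])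
    obtain ⟨T, ⟨hTN, hTA⟩, hTT, hTb⟩ := hT w (hA₀ hw) hw1
    obtain ⟨hor, himp⟩ := hTb b (hB₀ hb) (hb2 b hb) (hcomm b hb w hw)
    rcases hor with hfix | hflip
    · exact himp hfix u hu hbw
    exfalso
    set g := u * T with hg
    have hgN : g ∈ nz A := mul_mem (D.le_nz hu) hTN
    have hgb : g * b * g⁻¹ = b := by
      calc g * b * g⁻¹ = u * (T * b * T⁻¹) * u⁻¹ := by rw [hg]; group
        _ = u * (w * b) * u := by rw [hflip, D.inv_eq hu]
        _ = w * (u * b * u) := by rw [← mul_assoc u w, D.comm hu (hA₀ hw)]; simp only [mul_assoc]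
        _ = w * (u * (b * u * b) * b) := by simp only [mul_assoc, hb2 b hb, mul_one]
        _ = b := by rw [hbw, ← mul_assoc, D.sq w (hA₀ hw), one_mul]
    have hgB : k⁻¹ * g * k ∈ nz A := hC _ (mem_cj.1 (hBk hb)) (fun h => hb1 (eq_one_of_conj h)) _ (by
      have hc : g * b = b * g := mul_inv_eq_iff_eq_mul.1 hgb
      rw [show k⁻¹ * g * k * (k⁻¹ * b * k) = k⁻¹ * (g * b) * k by group,
        show k⁻¹ * b * k * (k⁻¹ * g * k) = k⁻¹ * (b * g) * k by group, hc])
    -- all commutators of `u` lie in a group of order two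
    have htwo : ∀ c ∈ B₀, u * (c * u * c) = 1 ∨ u * (c * u * c) = w := by
      intro c hc
      obtain ⟨hor', -⟩ := hTb c (hB₀ hc) (hb2 c hc) (hcomm c hc w hw)
      have hin : k⁻¹ * (g * c * g⁻¹ * c) * k ∈ A := by
        have h1 := mul_mem (D.conj_mem hgB (mem_cj.1 (hBk hc))) (mem_cj.1 (hBk hc))
        rwa [show k⁻¹ * g * k * (k⁻¹ * c * k) * (k⁻¹ * g * k)⁻¹ * (k⁻¹ * c * k) = k⁻¹ * (g * c * g⁻¹ * c) * k by group]
          at h1
      have hexp : g * c * g⁻¹ * c = u * (T * c * T⁻¹) * u * c := by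
        rw [hg, _root_.mul_inv_rev, D.inv_eq hu]; simp only [mul_assoc]
      rcases hor' with h | h
      · left
        have e : g * c * g⁻¹ * c = u * (c * u * c) := by rw [hexp, h]; simp only [mul_assoc]
        exact e ▸ hE _ (e ▸ D.cm_mem (hB₀ hc) (hb2 c hc) hu) hin
      · right
        have e : g * c * g⁻¹ * c = w * (u * (c * u * c)) := by
          rw [hexp, h, ← mul_assoc u w, D.comm hu (hA₀ hw)]; simp only [mul_assoc]
        have h1 := hE _ (e ▸ mul_mem (hA₀ hw) (D.cm_mem (hB₀ hc) (hb2 c hc) hu)) hin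
        rw [e] at h1
        rw [← inv_eq_of_mul_eq_one_right h1, D.inv_eq (hA₀ hw)]
    have hAle : (A₀ : Set K) ⊆ ({1, w} : Set K) := fun t ht => by
      obtain ⟨c, hc, hct⟩ := hsurj u hu hun t ht
      rcases htwo c hc with h | h <;> simp [← hct, h]
    have h5 : Nat.card A₀ ≤ 2 := by
      rw [show Nat.card A₀ = Nat.card (A₀ : Set K) from rfl, Nat.card_coe_set_eq]
      exact (Set.ncard_le_ncard hAle (Set.toFinite _)).trans (by
        exact (Set.ncard_insert_le _ _).trans (by rw [Set.ncard_singleton]))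
    nlinarith
  exact hne (eq_bot_iff.2 fun w hw => Subgroup.mem_bot.2 (D.nondeg w (hA₀ hw) fun y hy => by
    by_cases hyA : y ∈ A₀
    · exact D.symm y hy w (hA₀ hw) ((hperp y hy).2 hyA w hw)
    · exact D.symm y hy w (hA₀ hw) (key y hy hyA w hw)))

/-- An involution acting as a transvection fixes a single conjugate. -/
theorem lone_tv (hcard : 4 < Nat.card A) (hall : ∀ a ∈ A, a ≠ 1 → Lone (nz A) a) {z a : K} (ha : a ∈ A)
    (ha1 : a ≠ 1) (hz : IsTv A Perp z a) (hz2 : z * z = 1) : Lone (nz A) z := by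
  obtain ⟨hzN, hzA⟩ := hz
  have hza : z * a * z⁻¹ = a := (hzA a ha).1 (D.self a ha)
  obtain ⟨w, hw, hw1, hwa, hwp⟩ : ∃ w ∈ A, w ≠ 1 ∧ w ≠ a ∧ Perp w a := by
    by_contra hc
    push Not at hc
    have hsmall : (D.perpTo ({a} : Set K) : Set K) ⊆ ({1, a} : Set K) := fun w hw => by
      by_cases h1 : w = 1
      · exact Or.inl h1
      by_cases h2 : w = a
      · exact Or.inr h2
      exact absurd (hw.2 a rfl ha) (hc w hw.1 h1 h2)
    obtain ⟨y, hy, hya⟩ : ∃ y ∈ A, ¬ Perp y a := by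
      by_contra h
      push Not at h
      exact ha1 (D.nondeg a ha fun y hy => D.symm y hy a ha (h y hy))
    have hcov : (A : Set K) ⊆ ({1, a, y, y * a} : Set K) := fun x hx => by
      by_cases hxa : Perp x a
      · rcases hsmall (show x ∈ D.perpTo {a} from ⟨hx, fun t ht _ => Set.mem_singleton_iff.1 ht ▸ hxa⟩) with h | h
        · exact Or.inl h
        · exact Or.inr (Or.inl h)
      · have hxy : Perp (y * x) a := (D.mul y hy x hx a ha).2 (iff_of_false hya hxa)
        rcases hsmall (show y * x ∈ D.perpTo {a} from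
          ⟨mul_mem hy hx, fun t ht _ => Set.mem_singleton_iff.1 ht ▸ hxy⟩) with h | h
        · exact Or.inr (Or.inr (Or.inl (by rw [← inv_eq_of_mul_eq_one_right h, D.inv_eq hy])))
        · exact Or.inr (Or.inr (Or.inr (by rw [← Set.mem_singleton_iff.1 h, ← mul_assoc, D.sq y hy, one_mul]; rfl)))
    have h5 : Nat.card A ≤ 4 := by
      rw [show Nat.card A = Nat.card (A : Set K) from rfl, Nat.card_coe_set_eq]
      refine (Set.ncard_le_ncard hcov (Set.toFinite _)).trans ?_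
      refine (Set.ncard_insert_le _ _).trans (Nat.succ_le_succ ?_)
      refine (Set.ncard_insert_le _ _).trans (Nat.succ_le_succ ?_)
      refine (Set.ncard_insert_le _ _).trans (by rw [Set.ncard_singleton])
    omega
  have hzw : z * w * z⁻¹ = w := (hzA w hw).1 hwp
  -- the centraliser
  let X := Subgroup.centralizer ({z} : Set K)
  have memX : ∀ {g : K}, g ∈ X ↔ g * z = z * g := fun {g} => Subgroup.mem_centralizer_singleton_iff
  have hcz : ∀ g, g * z = z * g → g ∈ nz A := by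
    have haX : a ∈ X := memX.2 (mul_inv_eq_iff_eq_mul.1 hza).symm
    have hwX : w ∈ X := memX.2 (mul_inv_eq_iff_eq_mul.1 hzw).symm
    have hloneX : ∀ (c : K) (hc : c ∈ X), c ∈ A → c ≠ 1 → Lone ((nz A).subgroupOf X) ⟨c, hc⟩ :=
      fun c _ hcA hc1 k hk => Subgroup.mem_subgroupOf.2 (hall c hcA hc1 k.1 (Subgroup.mem_subgroupOf.1 hk))
    have htop := ascent ((nz A).subgroupOf X) (r := ⟨a, haX⟩) (z := ⟨w, hwX⟩) (Subtype.ext (D.sq a ha))
      (Subtype.ext (D.sq w hw)) (Subgroup.mem_subgroupOf.2 (D.le_nz ha)) (Subgroup.mem_subgroupOf.2 (D.le_nz hw))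
      (hloneX a haX ha ha1) (hloneX w hwX hw hw1) fun g hg => ?_
    · intro g hg
      have : (⟨g, memX.2 hg⟩ : X) ∈ (nz A).subgroupOf X := htop ▸ Subgroup.mem_top _
      exact Subgroup.mem_subgroupOf.1 this
    obtain ⟨g, hgX⟩ := g
    have hgN : g ∈ nz A := Subgroup.mem_subgroupOf.1 hg
    have hm := D.conj_mem hgN hw
    refine hloneX (a * (g * w * g⁻¹)) _ (mul_mem ha hm) fun h => ?_
    -- the centre of the transvection is fixed
    have hga : g * a * g⁻¹ = a := by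
      obtain ⟨y, hy, hya⟩ : ∃ y ∈ A, ¬ Perp y a := by
        by_contra hc
        push Not at hc
        exact ha1 (D.nondeg a ha fun y hy => D.symm y hy a ha (hc y hy))
      have hgz : g * z = z * g := memX.1 hgX
      have hy' := D.conj_mem hgN hy
      have hga' := D.conj_mem hgN ha
      have h1 : z * (g * y * g⁻¹) * z⁻¹ = g * y * g⁻¹ * (g * a * g⁻¹) := by
        calc z * (g * y * g⁻¹) * z⁻¹ = (z * g) * y * (z * g)⁻¹ := by group
          _ = g * (z * y * z⁻¹) * g⁻¹ := by rw [← hgz]; group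
          _ = g * (y * a) * g⁻¹ := by rw [(hzA y hy).2 hya]
          _ = g * y * g⁻¹ * (g * a * g⁻¹) := by group
      by_cases hp : Perp (g * y * g⁻¹) a
      · have h2 := ((hzA _ hy').1 hp).symm.trans h1
        exact absurd (by simpa using h2) ha1
      · exact (mul_left_cancel (((hzA _ hy').2 hp).symm.trans h1)).symm
    have h6 : g * w * g⁻¹ = g * a * g⁻¹ := by
      rw [← inv_eq_of_mul_eq_one_right h, D.inv_eq ha, hga]
    exact hwa (mul_left_cancel (mul_right_cancel h6))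
  intro k hk
  set z' := k⁻¹ * z * k
  have hz'2 : z' * z' = 1 := by
    show k⁻¹ * z * k * (k⁻¹ * z * k) = 1
    rw [show k⁻¹ * z * k * (k⁻¹ * z * k) = k⁻¹ * (z * z) * k by group, hz2]; group
  obtain ⟨c, hc, hc1, hcz'⟩ : ∃ c ∈ A, c ≠ 1 ∧ c * z' = z' * c := by
    by_cases h : w * (z' * w * z') = 1
    · refine ⟨w, hw, hw1, ?_⟩
      have h' := congrArg (fun t => w * t * z') h
      simp only [mul_one, ← mul_assoc, D.sq w hw, one_mul] at h'
      rw [mul_assoc (z' * w), hz'2, mul_one] at h'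
      exact h'.symm
    · refine ⟨_, D.cm_mem hk hz'2 hw, h, ?_⟩
      have hm : z' * w * z' ∈ A := by simpa [inv_eq_of_mul_eq_one_right hz'2] using D.conj_mem hk hw
      calc w * (z' * w * z') * z' = (z' * w * z') * w * z' := by rw [D.comm hw hm]
        _ = z' * (w * (z' * w * z')) := by simp only [mul_assoc]
  have h7 : k * c * k⁻¹ ∈ nz A := hcz _ (by
    have := congrArg (fun t => k * t * k⁻¹) hcz'
    simpa [z', mul_assoc] using this)
  exact inv_mem_iff.1 (hall c hc hc1 k⁻¹ (by rwa [inv_inv]))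

/-- The normaliser is everything, lifted transvections. -/
theorem eq_top_of_trans (hT : HasTrans A Perp) (hcard : 4 < Nat.card A)
    (hC : ∀ a ∈ A, a ≠ 1 → ∀ g, g * a = a * g → g ∈ nz A) : nz A = ⊤ := by
  have hall : ∀ a ∈ A, a ≠ 1 → Lone (nz A) a := fun a ha ha1 => D.lone_of_trans hT hcard hC ha ha1
  obtain ⟨a, ha, ha1⟩ : ∃ a ∈ A, a ≠ 1 := by
    by_contra h
    push Not at h
    have : A = ⊥ := eq_bot_iff.2 fun x hx => Subgroup.mem_bot.2 (h x hx)
    rw [this, Subgroup.card_bot] at hcard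
    omega
  obtain ⟨u, hu, hua⟩ : ∃ u ∈ A, ¬ Perp u a := by
    by_contra h
    push Not at h
    exact ha1 (D.nondeg a ha fun y hy => D.symm y hy a ha (h y hy))
  obtain ⟨T, ⟨hTN, hTA⟩, hTT, -⟩ := hT a ha ha1
  set z := u * T with hz
  have hTu : T * u = u * a * T := mul_inv_eq_iff_eq_mul.1 ((hTA u hu).2 hua)
  have hz2 : z * z = 1 := by
    calc z * z = u * (T * u) * T := by rw [hz]; simp only [mul_assoc]
      _ = u * u * (a * (T * T)) := by rw [hTu]; simp only [mul_assoc]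
      _ = 1 := by rw [hTT, D.sq a ha, D.sq u hu, one_mul]
  have hzN : z ∈ nz A := mul_mem (D.le_nz hu) hTN
  have hztv : IsTv A Perp z a := ⟨hzN, fun x hx => by
    have e : z * x * z⁻¹ = u * (T * x * T⁻¹) * u := by rw [hz, _root_.mul_inv_rev, D.inv_eq hu]; simp only [mul_assoc]
    constructor
    · intro h
      rw [e, (hTA x hx).1 h, D.comm hu hx, mul_assoc, D.sq u hu, mul_one]
    · intro h
      rw [e, (hTA x hx).2 h, D.comm hu (mul_mem hx ha), mul_assoc, D.sq u hu, mul_one]⟩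
  refine ascent (nz A) (D.sq a ha) hz2 (D.le_nz ha) hzN (hall a ha ha1) (D.lone_tv hcard hall ha ha1 hztv hz2)
    fun g hg => ?_
  set z' := g * z * g⁻¹ with hz'
  set a' := g * a * g⁻¹ with ha'
  have ha'A : a' ∈ A := D.conj_mem hg ha
  have ha'1 : a' ≠ 1 := fun h => ha1 (by rwa [ha', conj_eq_one_iff] at h)
  have hgi : g⁻¹ ∈ nz A := inv_mem hg
  have htv' : IsTv A Perp z' a' := by
    refine ⟨mul_mem (mul_mem hg hzN) hgi, fun x hx => ?_⟩
    have hx0 : g⁻¹ * x * g ∈ A := by simpa using D.conj_mem hgi hx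
    have hxx : g * (g⁻¹ * x * g) * g⁻¹ = x := by group
    have e : z' * x * z'⁻¹ = g * (z * (g⁻¹ * x * g) * z⁻¹) * g⁻¹ := by rw [hz']; group
    have hiff : Perp x a' ↔ Perp (g⁻¹ * x * g) a := by
      constructor
      · intro h
        have := D.inv g⁻¹ hgi x hx a' ha'A h
        rwa [inv_inv, show g⁻¹ * a' * g = a by rw [ha']; group] at this
      · intro h
        have := D.inv g hg _ hx0 a ha h
        rwa [hxx] at this
    constructor
    · intro h
      rw [e, (hztv.2 _ hx0).1 (hiff.1 h), hxx]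
    · intro h
      rw [e, (hztv.2 _ hx0).2 (mt hiff.2 h), ha']
      group
  have hz'2 : z' * z' = 1 := by
    calc z' * z' = g * (z * z) * g⁻¹ := by rw [hz']; group
      _ = 1 := by rw [hz2, mul_one, mul_inv_cancel]
  have hz'i : z'⁻¹ = z' := inv_eq_of_mul_eq_one_right hz'2
  have hsq : a * z' * (a * z') = a * (z' * a * z') := by simp only [mul_assoc]
  by_cases hp : Perp a a'
  · have h1 := (htv'.2 a ha).1 hp
    rw [hz'i] at h1
    refine D.lone_tv hcard hall ha'A ha'1 ⟨mul_mem (D.le_nz ha) htv'.1, fun x hx => ?_⟩ (by rw [hsq, h1, D.sq a ha])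
    have e : a * z' * x * (a * z')⁻¹ = a * (z' * x * z'⁻¹) * a := by
      rw [_root_.mul_inv_rev, D.inv_eq ha]; simp only [mul_assoc]
    constructor
    · intro h
      rw [e, (htv'.2 x hx).1 h, D.comm ha hx, mul_assoc, D.sq a ha, mul_one]
    · intro h
      rw [e, (htv'.2 x hx).2 h, D.comm ha (mul_mem hx ha'A), mul_assoc, D.sq a ha, mul_one]
  · have h1 := (htv'.2 a ha).2 hp
    rw [hz'i] at h1
    refine Lone.of_sq ?_
    rw [hsq, h1, ← mul_assoc, D.sq a ha, one_mul]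
    exact hall a' ha'A ha'1

end Data

end Cfsg.Agent.ClassicalMax.SympType
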