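import Cfsg.Agent.ClassicalMax.SympType.Pauli
import Cfsg.Agent.ClassicalMax.SympType.Finish

/-!
An overgroup containing all lifted transvections, whose centralisers of involutions act monomially on the two
eigenspaces, normalises the two-group.
-/

set_option autoImplicit false
set_option linter.unusedSectionVars false

namespace Cfsg.Agent.ClassicalMax.SympType

open Matrix

variable {ι : Type*} [Fintype ι] [DecidableEq ι] {E : Type*} [Field E]

local notation "G" => GL ι E
local notation "M" => Matrix ι ι E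

/-- On each eigenspace of an involution of `R` its centraliser in `K` acts monomially. -/
def Local (R K : Subgroup G) : Prop :=
  ∀ x ∈ R, x * x = 1 → pr x ≠ 1 → ∀ g ∈ K, g * x = x * g → ∀ u ∈ R, u * x = x * u →
    ∃ r ∈ R, (1 + (x : M)) * ((g * u * g⁻¹ : G) : M) = (1 + (x : M)) * (r : M)

/-- The lifts `1 + a` of transvections belong to `K`. -/
def Lifts (R K : Subgroup G) : Prop :=
  ∀ a ∈ R, a * a = -1 → ∀ T : G, (T : M) = 1 + (a : M) → T ∈ K

theorem eq_of_pr {a b : G} (e : pr a = pr b) : ∃ c : Eˣ, (b : M) = (c : E) • (a : M) := by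
  obtain ⟨c, rfl⟩ := pr_eq_iff.1 e
  exact ⟨c, by rw [Units.val_mul, sc_val, Matrix.smul_mul, one_mul]⟩

theorem sc_conj (c : Eˣ) (g : G) : sc c * g * (sc c)⁻¹ = g := by rw [sc_comm, mul_inv_cancel_right]

theorem sc_inj [Nonempty ι] {c d : Eˣ} (e : (sc c : G) = sc d) : c = d := by
  obtain ⟨i⟩ := (inferInstance : Nonempty ι)
  have h1 := congrArg (fun m : M => m i i) (congrArg Units.val e)
  rw [sc_val, sc_val, Matrix.smul_apply, Matrix.smul_apply, Matrix.one_apply_eq, smul_eq_mul, smul_eq_mul, mul_one,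
    mul_one] at h1
  exact Units.ext h1

theorem sc_sq_one [Nonempty ι] {d : Eˣ} (e : (sc (d * d) : G) = 1) : d = 1 ∨ d = -1 := by
  have h1 := congrArg Units.val (sc_inj (e.trans sc_one.symm))
  rcases mul_self_eq_one_iff.1 h1 with h2 | h2
  · exact Or.inl (Units.ext h2)
  · exact Or.inr (Units.ext h2)

theorem pcomm {v x : M} (hc : v * x = x * v) : v * (1 + x) = (1 + x) * v := by
  rw [mul_add, mul_one, add_mul, one_mul, hc]

theorem mcomm {v x : M} (hc : v * x = x * v) : v * (1 - x) = (1 - x) * v := by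
  rw [mul_sub, mul_one, sub_mul, one_mul, hc]

theorem two_parts (x m : M) : (1 + x) * m + (1 - x) * m = (2 : E) • m := by
  rw [two_smul, ← add_mul, add_add_sub_cancel, add_mul, one_mul]

theorem two_diff (x m : M) : (1 + x) * m - (1 - x) * m = (2 : E) • (x * m) := by
  rw [two_smul, ← sub_mul, add_sub_sub_cancel, add_mul]

namespace PS

variable {R : Subgroup (GL ι E)} (h : PS R)
include h

theorem exists_unit {a : G} (ha : a * a = -1) : ∃ T : G, (T : M) = 1 + (a : M) := by
  have e : (a : M) * (a : M) = -1 := by rw [← Units.val_mul, ha, Units.val_neg, Units.val_one]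
  refine ⟨⟨1 + (a : M), (2 : E)⁻¹ • (1 - (a : M)), ?_, ?_⟩, rfl⟩
  · rw [Matrix.mul_smul, show (1 + (a : M)) * (1 - a) = 1 - (a : M) * a by noncomm_ring, e, sub_neg_eq_add,
      ← two_smul E, smul_smul, inv_mul_cancel₀ h.two, one_smul]
  · rw [Matrix.smul_mul, show (1 - (a : M)) * (1 + a) = 1 - (a : M) * a by noncomm_ring, e, sub_neg_eq_add,
      ← two_smul E, smul_smul, inv_mul_cancel₀ h.two, one_smul]

theorem lift_conj {a x : G} (hx : x ∈ R) (ha : a ∈ R) (ha2 : a * a = -1) {T : G} (hT : (T : M) = 1 + (a : M)) :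
    (a * x = x * a → T * x * T⁻¹ = x) ∧ (a * x = -(x * a) → T * x * T⁻¹ = a * x) := by
  have e : (a : M) * (a : M) = -1 := by rw [← Units.val_mul, ha2, Units.val_neg, Units.val_one]
  constructor
  · intro hc
    rw [mul_inv_eq_iff_eq_mul]
    have hc' := congrArg Units.val hc
    simp only [Units.val_mul] at hc'
    refine Units.ext ?_
    simp only [Units.val_mul, hT, add_mul, mul_add, one_mul, mul_one, hc']
  · intro hc
    rw [mul_inv_eq_iff_eq_mul]
    have hc' := congrArg Units.val hc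
    simp only [Units.val_mul, Units.val_neg] at hc'
    refine Units.ext ?_
    simp only [Units.val_mul, hT, add_mul, mul_add, one_mul, mul_one]
    rw [Matrix.mul_assoc (a : M) (x : M), show (x : M) * (a : M) = -((a : M) * x) by rw [hc', neg_neg],
      Matrix.mul_neg, ← Matrix.mul_assoc (a : M) (a : M), e, Matrix.neg_mul, one_mul, neg_neg, add_comm]

theorem lift_sq {a : G} (ha2 : a * a = -1) {T : G} (hT : (T : M) = 1 + (a : M)) : pr (T * T) = pr a := by
  refine (pr_eq_iff.2 ⟨Units.mk0 2 h.two, Units.ext ?_⟩).symm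
  have e : (a : M) * (a : M) = -1 := by rw [← Units.val_mul, ha2, Units.val_neg, Units.val_one]
  simp only [Units.val_mul, hT, sc_val, Matrix.smul_mul, one_mul, Units.val_mk0, add_mul, mul_add, mul_one, e,
    two_smul]
  abel

/-- A scalar multiple with square minus one. -/
theorem scaled {x : G} (hx : x ∈ R) : ∃ c : Eˣ, ∃ a ∈ R, x = sc c * a ∧ a * a = -1 := by
  obtain ⟨c, y, hy, rfl, hyy⟩ := h.root x hx
  obtain ⟨j, hj⟩ := h.fourth
  have hj0 : j ≠ 0 := fun e => by simp [e] at hj
  refine ⟨c * (Units.mk0 j hj0)⁻¹, sc (Units.mk0 j hj0) * y, mul_mem (h.scal _) hy, ?_, ?_⟩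
  · rw [← mul_assoc, sc_mul, inv_mul_cancel_right]
  · rw [mul_assoc, ← mul_assoc y, ← sc_comm, mul_assoc (sc _) y y, hyy, mul_one, sc_mul,
      show Units.mk0 j hj0 * Units.mk0 j hj0 = -1 from Units.ext hj, sc_neg_one]

theorem pr_anti_ne_one {a b : G} (hab : a * b = -(b * a)) : pr a ≠ 1 := fun e => by
  obtain ⟨c, rfl⟩ := pr_eq_one_iff.1 e
  exact h.not_comm_of_anti hab (sc_comm c b)

variable [Finite E]

theorem closure_one {x y : PG ι E} (hx : x ∈ R.map pr) (hy : y ∈ Subgroup.closure {x}) : y = 1 ∨ y = x := by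
  rw [show ({x} : Set (PG ι E)) = insert x ∅ by simp] at hy
  rcases h.mem_closure_insert hx (Set.empty_subset _) hy with e | e
  · simp only [Subgroup.closure_empty, Subgroup.mem_bot] at e
    exact Or.inl e
  · simp only [Subgroup.closure_empty, Subgroup.mem_bot] at e
    exact Or.inr (by rw [← inv_eq_of_mul_eq_one_right e, inv_eq_of_mul_eq_one_right (h.map_sq hx)])

theorem closure_two {x z y : PG ι E} (hx : x ∈ R.map pr) (hz : z ∈ R.map pr)
    (hy : y ∈ Subgroup.closure {x, z}) : y = 1 ∨ y = x ∨ y = z ∨ y = x * z := by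
  rcases h.mem_closure_insert hx (Set.singleton_subset_iff.2 hz) hy with e | e <;> rcases h.closure_one hz e with e' | e'
  · exact Or.inl e'
  · exact Or.inr (Or.inr (Or.inl e'))
  · exact Or.inr (Or.inl (by rw [← inv_eq_of_mul_eq_one_right e', inv_eq_of_mul_eq_one_right (h.map_sq hx)]))
  · exact Or.inr (Or.inr (Or.inr (by rw [← e', ← mul_assoc, h.map_sq hx, one_mul])))

/-- The eigenprojection is not zero. -/
theorem proj_ne {x : G} (hx1 : pr x ≠ 1) : (1 + (x : M)) ≠ 0 := fun e => hx1 (by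
  rw [show x = -1 from Units.ext (by rw [eq_neg_of_add_eq_zero_right e]; simp), pr_neg, map_one])

theorem cancel {x r : G} (hx1 : pr x ≠ 1) : (1 + (x : M)) * (r : M) ≠ 0 := fun e => h.proj_ne hx1 (by
  have := congrArg (· * ((r⁻¹ : G) : M)) e
  simpa [Matrix.mul_assoc] using this)

/-- Two eigenprojections of independent classes have non-zero product. -/
theorem proj_mul_ne {x w : G} (hx : x ∈ R) (hw : w ∈ R) (hx1 : pr x ≠ 1) (hw1 : pr w ≠ 1) (hwx : pr w ≠ pr x) :
    (1 + (w : M)) * (1 + (x : M)) ≠ 0 := by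
  intro e
  obtain ⟨u, -, hu, huw⟩ := h.sep (S := {x}) (fun s hs => Set.mem_singleton_iff.1 hs ▸ hx) hw (fun hc => by
    rw [Set.image_singleton] at hc
    exact (h.closure_one ⟨x, hx, rfl⟩ hc).elim hw1 hwx)
  have hux : (u : M) * x = x * u := congrArg Units.val (hu x rfl)
  have huw' : (u : M) * w = -(w * u) := congrArg Units.val huw
  have e1 : (1 - (w : M)) * (1 + x) * (u : M) = 0 := by
    have h1 : (u : M) * (1 + (w : M)) = (1 - (w : M)) * u := by
      rw [mul_add, mul_one, huw', sub_mul, one_mul, sub_eq_add_neg]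
    calc (1 - (w : M)) * (1 + x) * (u : M) = (u : M) * ((1 + (w : M)) * (1 + x)) := by
          rw [Matrix.mul_assoc, ← pcomm hux, ← Matrix.mul_assoc, ← h1, Matrix.mul_assoc]
      _ = 0 := by rw [e, Matrix.mul_zero]
  have e2 : (1 - (w : M)) * (1 + x) = 0 := by
    have := congrArg (· * ((u⁻¹ : G) : M)) e1
    simpa [Matrix.mul_assoc] using this
  refine h.proj_ne hx1 ((smul_eq_zero.1 (show (2 : E) • (1 + (x : M)) = 0 from ?_)).resolve_left h.two)
  rw [two_smul]
  calc (1 + (x : M)) + (1 + x) = (1 + (w : M)) * (1 + x) + (1 - (w : M)) * (1 + x) := by noncomm_ring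
    _ = 0 := by rw [e, e2, add_zero]

/-- An eigenprojection determines a class up to the class of the involution. -/
theorem proj_inj {x r r' : G} (hx : x ∈ R) (hx1 : pr x ≠ 1) (hr : r ∈ R) (hr' : r' ∈ R)
    (e : (1 + (x : M)) * (r : M) = (1 + (x : M)) * (r' : M)) : pr r' = pr r ∨ pr r' = pr x * pr r := by
  set s := r' * r⁻¹ with hs
  have hsR : s ∈ R := mul_mem hr' (inv_mem hr)
  have e1 : (1 + (x : M)) * (s : M) = 1 + (x : M) := by
    rw [hs, Units.val_mul, ← Matrix.mul_assoc, ← e, Matrix.mul_assoc, Units.mul_inv, mul_one]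
  by_contra hne
  push Not at hne
  obtain ⟨u, -, hu, hus⟩ := h.sep (S := {x}) (fun t ht => Set.mem_singleton_iff.1 ht ▸ hx) hsR (fun hc => by
    rw [Set.image_singleton] at hc
    rcases h.closure_one ⟨x, hx, rfl⟩ hc with e' | e' <;> rw [hs, map_mul, map_inv, mul_inv_eq_iff_eq_mul] at e'
    · exact hne.1 (by rw [e', one_mul])
    · exact hne.2 e')
  have hux : (u : M) * x = x * u := congrArg Units.val (hu x rfl)
  have hus' : (u : M) * s = -(s * u) := congrArg Units.val hus
  have e2 : -((1 + (x : M)) * (u : M)) = (1 + (x : M)) * (u : M) := by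
    calc -((1 + (x : M)) * (u : M)) = -((1 + (x : M)) * (s : M) * (u : M)) := by rw [e1]
      _ = (1 + (x : M)) * ((u : M) * s) := by rw [hus', Matrix.mul_neg, Matrix.mul_assoc]
      _ = (u : M) * ((1 + (x : M)) * s) := by rw [← Matrix.mul_assoc, ← Matrix.mul_assoc (u : M), mul_add, mul_one, add_mul, one_mul, hux]
      _ = (1 + (x : M)) * (u : M) := by rw [e1, mul_add, mul_one, hux, add_mul, one_mul]
  refine h.cancel (r := u) hx1 ((smul_eq_zero.1 (show (2 : E) • ((1 + (x : M)) * (u : M)) = 0 from ?_)).resolve_left h.two)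
  rw [two_smul]
  nth_rw 1 [← e2]
  exact neg_add_cancel _

theorem proj_comm {x r : G} {m : M} (hx : x ∈ R) (hxx : x * x = 1) (hx1 : pr x ≠ 1) (hr : r ∈ R)
    (hm : m * (x : M) = (x : M) * m) (e : (1 + (x : M)) * m = (1 + (x : M)) * (r : M)) : r * x = x * r := by
  refine (h.comm r hr x hx).resolve_right fun hrx => ?_
  have hrx' : (r : M) * x = -(x * r) := congrArg Units.val hrx
  have hxx' : (x : M) * x = 1 := congrArg Units.val hxx
  have h1 : (1 + (x : M)) * (r : M) * x = (1 + (x : M)) * (r : M) := by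
    rw [← e, Matrix.mul_assoc, hm, ← Matrix.mul_assoc, add_mul 1 (x : M) (x : M), one_mul, hxx', add_comm]
  have h2 : (1 + (x : M)) * (r : M) * x = -((1 + (x : M)) * (r : M)) := by
    rw [Matrix.mul_assoc, hrx', Matrix.mul_neg, ← Matrix.mul_assoc, add_mul 1 (x : M) (x : M), one_mul, hxx',
      add_comm]
  refine h.cancel (r := r) hx1 ((smul_eq_zero.1 (show (2 : E) • ((1 + (x : M)) * (r : M)) = 0 from ?_)).resolve_left h.two)
  rw [two_smul]
  nth_rw 1 [← h1]
  rw [h2, neg_add_cancel]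

theorem proj_sq {x r : G} {m : M} {d : E} (hx : x ∈ R) (hxx : x * x = 1) (hx1 : pr x ≠ 1) (hr : r ∈ R)
    (hm : m * (x : M) = (x : M) * m) (hmm : m * m = d • 1) (e : (1 + (x : M)) * m = (1 + (x : M)) * (r : M)) :
    ((r * r : G) : M) = d • 1 := by
  have hrc : (r : M) * x = x * r := congrArg Units.val (h.proj_comm hx hxx hx1 hr hm e)
  have e1 : (1 + (x : M)) * ((r * r : G) : M) = d • (1 + (x : M)) := by
    calc (1 + (x : M)) * ((r * r : G) : M) = (r : M) * ((1 + (x : M)) * r) := by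
          rw [Units.val_mul, ← Matrix.mul_assoc, ← Matrix.mul_assoc (r : M), mul_add, mul_one, hrc, add_mul, one_mul]
      _ = (r : M) * ((1 + (x : M)) * m) := by rw [e]
      _ = (1 + (x : M)) * r * m := by
          rw [← Matrix.mul_assoc, mul_add, mul_one, hrc, add_mul 1 (x : M) (r : M), one_mul]
      _ = (1 + (x : M)) * (m * m) := by rw [← e, Matrix.mul_assoc]
      _ = d • (1 + (x : M)) := by rw [hmm, Matrix.mul_smul, mul_one]
  obtain ⟨c, hc⟩ := pr_eq_one_iff.1 (h.pr_sq hr)
  rw [hc, sc_val, Matrix.mul_smul, mul_one, ← sub_eq_zero, ← sub_smul] at e1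
  rw [hc, sc_val, sub_eq_zero.1 ((smul_eq_zero.1 e1).resolve_right (h.proj_ne hx1))]

end PS

theorem PS.conj_neg_one {a g : G} (ha : a * a = -1) : g * a * g⁻¹ * (g * a * g⁻¹) = -1 := by
  rw [show g * a * g⁻¹ * (g * a * g⁻¹) = g * (a * a) * g⁻¹ by group, ha]
  simp

namespace PS

variable [Finite E] {R K : Subgroup (GL ι E)} (h : PS R)
include h

set_option maxHeartbeats 400000 in
/-- Conjugates of elements commuting with `x` by elements commuting with `x` are monomial. -/
theorem image_mem (hbig : 16 < Nat.card (R.map (pr (ι := ι) (E := E)))) (hlift : Lifts R K) (hloc : Local R K)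
    {x : G} (hx : x ∈ R) (hxx : x * x = 1) (hx1 : pr x ≠ 1) {g : G} (hg : g ∈ K) (hgx : g * x = x * g)
    {u : G} (hu : u ∈ R) (hux : u * x = x * u) (hu2 : u * u = -1) : g * u * g⁻¹ ∈ R := by
  classical
  have hxm : pr x ∈ R.map pr := ⟨x, hx, rfl⟩
  by_cases hu1 : pr u = 1 ∨ pr u = pr x
  · rcases hu1 with e | e
    · obtain ⟨c, hc⟩ := pr_eq_one_iff.1 e
      rw [hc, ← sc_comm, mul_inv_cancel_right]
      exact h.scal c
    · obtain ⟨c, hc⟩ := pr_eq_iff.1 e.symm
      rw [hc, ← mul_assoc, ← sc_comm, mul_assoc (sc c), mul_assoc, hgx, mul_inv_cancel_right]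
      exact mul_mem (h.scal c) hx
  push Not at hu1
  set m : G := g * u * g⁻¹ with hm_def
  have hmx : m * x = x * m := by
    have hgi : g⁻¹ * x = x * g⁻¹ := by rw [inv_mul_eq_iff_eq_mul, ← mul_assoc, hgx, mul_inv_cancel_right]
    rw [hm_def, mul_assoc, hgi, ← mul_assoc, mul_assoc g, hux, ← mul_assoc, hgx]
    simp only [mul_assoc]
  have hmx' : (m : M) * x = x * m := congrArg Units.val hmx
  have hm2 : (m : M) * m = (-1 : E) • 1 := by
    rw [← Units.val_mul, hm_def, PS.conj_neg_one hu2, neg_one_smul, Units.val_neg, Units.val_one]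
  have hxx' : (x : M) * x = 1 := congrArg Units.val hxx
  have hnx : -x ∈ R := h.neg_mem hx
  have hnxx : -x * -x = 1 := by rw [neg_mul_neg, hxx]
  have hnx1 : pr (-x) ≠ 1 := by rwa [pr_neg]
  obtain ⟨a, ha, hea⟩ := hloc x hx hxx hx1 g hg hgx u hu hux
  obtain ⟨b, hb, heb⟩ := hloc (-x) hnx hnxx hnx1 g hg (by rw [mul_neg, neg_mul, hgx]) u hu
    (by rw [mul_neg, neg_mul, hux])
  rw [← hm_def] at hea heb
  have hax := h.proj_comm hx hxx hx1 ha hmx' hea
  have hbx : b * x = x * b := by
    have := h.proj_comm hnx hnxx hnx1 hb (by rw [Units.val_neg, Matrix.mul_neg, Matrix.neg_mul, hmx']) heb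
    rw [mul_neg, neg_mul, neg_inj] at this
    exact this
  have ha2' := h.proj_sq hx hxx hx1 ha hmx' hm2 hea
  have hb2' := h.proj_sq hnx hnxx hnx1 hb (by rw [Units.val_neg, Matrix.mul_neg, Matrix.neg_mul, hmx']) hm2 heb
  have ha2 : a * a = -1 := Units.ext (by rw [ha2', neg_one_smul, Units.val_neg, Units.val_one])
  have hb2 : b * b = -1 := Units.ext (by rw [hb2', neg_one_smul, Units.val_neg, Units.val_one])
  rw [Units.val_neg, ← sub_eq_add_neg] at heb
  have hm' : (2 : E) • (m : M) = (1 + (x : M)) * (a : M) + (1 - (x : M)) * (b : M) := by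
    rw [← hea, ← heb, two_parts]
  -- neither part is scalar
  have hnot : ∀ (y : G) (c : G), y ∈ R → y * y = 1 → pr y ≠ 1 → pr y = pr x → c ∈ R → g * y = y * g →
      (1 + (y : M)) * (m : M) = (1 + (y : M)) * (c : M) → pr c ≠ 1 ∧ pr c ≠ pr x := by
    intro y c hy hyy hy1 hyx hc hgy hec
    have key : ∀ s : G, s ∈ R → g * s = s * g → (1 + (y : M)) * (m : M) = (1 + (y : M)) * (s : M) →
        pr u = pr s ∨ pr u = pr y * pr s := by
      intro s hs hgs hes
      refine h.proj_inj hy hy1 hs hu ?_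
      have hgy' : (g : M) * y = y * g := congrArg Units.val hgy
      have hgs' : (g : M) * s = s * g := congrArg Units.val hgs
      have h2 : (g : M) * ((1 + (y : M)) * u) = (g : M) * ((1 + (y : M)) * s) := by
        calc (g : M) * ((1 + (y : M)) * u) = (1 + (y : M)) * ((g : M) * u) := by
              rw [← Matrix.mul_assoc, mul_add, mul_one, hgy', ← Matrix.mul_assoc (1 + (y : M)), add_mul 1 (y : M), one_mul]
          _ = (1 + (y : M)) * (m : M) * g := by
              rw [hm_def, Matrix.mul_assoc (1 + (y : M))]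
              congr 1
              simp [Matrix.mul_assoc]
          _ = (1 + (y : M)) * ((s : M) * g) := by rw [hes, Matrix.mul_assoc]
          _ = (g : M) * ((1 + (y : M)) * s) := by
              rw [← hgs', ← Matrix.mul_assoc, ← Matrix.mul_assoc (g : M), mul_add, mul_one, hgy', add_mul 1 (y : M), one_mul]
      have := congrArg (((g⁻¹ : G) : M) * ·) h2
      simp only [← Matrix.mul_assoc, Units.inv_mul, one_mul] at this
      exact this.symm
    constructor <;> intro e
    · obtain ⟨d, hd⟩ := pr_eq_one_iff.1 e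
      rcases key c hc (by rw [hd]; exact (sc_comm d g).symm) hec with e' | e'
      · exact hu1.1 (e'.trans e)
      · exact hu1.2 (by rw [e', e, mul_one, hyx])
    · obtain ⟨d, hd⟩ := pr_eq_iff.1 e.symm
      rcases key c hc (by rw [hd, ← mul_assoc, ← sc_comm, mul_assoc, hgx, mul_assoc]) hec with e' | e'
      · exact hu1.2 (e'.trans e)
      · exact hu1.1 (by rw [e', e, hyx, h.map_sq hxm])
  obtain ⟨ha1, hax1⟩ := hnot x a hx hxx hx1 rfl ha hgx hea
  obtain ⟨hb1, hbx1⟩ := hnot (-x) b hnx hnxx hnx1 (pr_neg x) hb (by rw [mul_neg, neg_mul, hgx])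
    (by rw [Units.val_neg, ← sub_eq_add_neg]; exact heb)
  by_cases hsame : pr b = pr a ∨ pr b = pr x * pr a
  · -- the two parts agree up to sign
    have hfin : ∀ c : E, (1 - (x : M)) * (b : M) = c • ((1 - (x : M)) * (a : M)) → m ∈ R := by
      intro c hc
      have hc2 : c * c = 1 := by
        have hax' : (a : M) * x = x * a := congrArg Units.val hax
        have hbx' : (b : M) * x = x * b := congrArg Units.val hbx
        have hcomm : ∀ v : M, v * x = x * v → v * (1 - (x : M)) = (1 - (x : M)) * v := fun v hv => by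
          rw [mul_sub, mul_one, hv, sub_mul, one_mul]
        have haa : (a : M) * a = -1 := by rw [← Units.val_mul, ha2, Units.val_neg, Units.val_one]
        have hbb : (b : M) * b = -1 := by rw [← Units.val_mul, hb2, Units.val_neg, Units.val_one]
        have hxe : (1 - (x : M)) * (1 - x) = (2 : E) • (1 - (x : M)) := by
          rw [two_smul, sub_mul, mul_sub, mul_sub, one_mul, one_mul, mul_one, hxx']; abel
        have h1 : (1 - (x : M)) * b * ((1 - (x : M)) * b) = (-2 : E) • (1 - (x : M)) := by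
          rw [Matrix.mul_assoc, ← Matrix.mul_assoc (b : M), hcomm _ hbx', Matrix.mul_assoc (1 - (x : M)) (b : M),
            hbb, ← Matrix.mul_assoc, hxe, Matrix.mul_neg, mul_one, neg_smul]
        have h2 : (1 - (x : M)) * a * ((1 - (x : M)) * a) = (-2 : E) • (1 - (x : M)) := by
          rw [Matrix.mul_assoc, ← Matrix.mul_assoc (a : M), hcomm _ hax', Matrix.mul_assoc (1 - (x : M)) (a : M),
            haa, ← Matrix.mul_assoc, hxe, Matrix.mul_neg, mul_one, neg_smul]
        rw [hc, Matrix.smul_mul, Matrix.mul_smul, smul_smul, h2, smul_smul, ← sub_eq_zero, ← sub_smul] at h1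
        have hne : (1 - (x : M)) ≠ 0 := by
          simpa [sub_eq_add_neg] using h.proj_ne hnx1
        have := (smul_eq_zero.1 h1).resolve_right hne
        have h2' : (-2 : E) ≠ 0 := neg_ne_zero.2 h.two
        exact mul_right_cancel₀ h2' (by linear_combination this)
      rcases mul_self_eq_one_iff.1 hc2 with rfl | rfl
      · have e : (2 : E) • (m : M) = (2 : E) • (a : M) := by
          rw [hm', hc, one_smul, two_parts]
        rw [Units.ext (smul_right_injective _ h.two e)]
        exact ha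
      · have e : (2 : E) • (m : M) = (2 : E) • ((x : M) * (a : M)) := by
          rw [hm', hc, neg_one_smul, ← sub_eq_add_neg, two_diff]
        rw [show m = x * a from Units.ext (by rw [Units.val_mul]; exact smul_right_injective _ h.two e)]
        exact mul_mem hx ha
    rcases hsame with e | e
    · obtain ⟨c, hc⟩ := eq_of_pr e.symm
      exact hfin c (by rw [hc, Matrix.mul_smul])
    · obtain ⟨c, hc⟩ := eq_of_pr (show pr (x * a) = pr b by rw [map_mul, e])
      refine hfin (-c) ?_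
      rw [hc, Units.val_mul, Matrix.mul_smul, ← Matrix.mul_assoc, sub_mul 1 (x : M) (x : M), one_mul, hxx',
        ← neg_sub, Matrix.neg_mul, smul_neg, neg_smul]
  exfalso
  push Not at hsame
  -- an element outside the reach of the second part
  obtain ⟨S, hS⟩ := h.exists_unit (PS.conj_neg_one (g := g) hu2)
  rw [← hm_def] at hS
  obtain ⟨T₀, hT₀⟩ := h.exists_unit hu2
  obtain ⟨T, hT⟩ := h.exists_unit ha2
  have hSK : S ∈ K := by
    have e : S = g * T₀ * g⁻¹ := Units.ext (by
      rw [hS, hm_def]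
      simp only [Units.val_mul, hT₀, mul_add, add_mul, mul_one]
      simp)
    rw [e]
    exact mul_mem (mul_mem hg (hlift u hu hu2 T₀ hT₀)) (inv_mem hg)
  set k := S * T⁻¹ with hk_def
  have hk : k ∈ K := mul_mem hSK (inv_mem (hlift a ha ha2 T hT))
  have hkT : (k : M) * (1 + (a : M)) = 1 + (m : M) := by
    rw [← hT, ← hS, hk_def, ← Units.val_mul, inv_mul_cancel_right]
  have hax' : (a : M) * x = x * a := congrArg Units.val hax
  have hbx' : (b : M) * x = x * b := congrArg Units.val hbx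
  have haT : (1 + (a : M)) * ((T⁻¹ : G) : M) = 1 := by rw [← hT, Units.mul_inv]
  have hk1 : (1 + (x : M)) * (k : M) = 1 + (x : M) := by
    rw [hk_def, Units.val_mul, hS, ← Matrix.mul_assoc, mul_add, hea, ← mul_add, Matrix.mul_assoc, haT, mul_one]
  have hk2 : (1 - (x : M)) * (k : M) * (1 + (a : M)) = (1 - (x : M)) * (1 + (b : M)) := by
    rw [Matrix.mul_assoc, hkT, mul_add, heb, ← mul_add]
  -- the auxiliary involution
  obtain ⟨w, hw, hwa, hwb, hwx, hw1, hwx1, hbw⟩ : ∃ w ∈ R, w * a = a * w ∧ w * b = b * w ∧ w * x = x * w ∧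
      pr w ≠ 1 ∧ pr w ≠ pr x ∧ pr b ∉ Subgroup.closure {pr a, pr x, pr w} := by
    by_cases hab : a * b = b * a
    · refine ⟨a, ha, rfl, hab, hax, ha1, hax1, ?_⟩
      rw [Set.pair_comm (pr x) (pr a), Set.insert_eq_of_mem (Set.mem_insert _ _)]
      intro hc
      rcases h.closure_two ⟨a, ha, rfl⟩ hxm hc with e | e | e | e
      · exact hb1 e
      · exact hsame.1 e
      · exact hbx1 e
      · exact hsame.2 (e.trans (h.map_comm ⟨a, ha, rfl⟩ hxm))
    · have hab' := (h.comm a ha b hb).resolve_left hab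
      haveI : Fintype (R.map (pr (ι := ι) (E := E))) := Fintype.ofFinite _
      set W := Subgroup.closure ({pr a, pr b, pr x} : Set (PG ι E))
      have hmem3 : ({pr a, pr b, pr x} : Set (PG ι E)) ⊆ R.map pr :=
        Set.insert_subset ⟨a, ha, rfl⟩ (Set.insert_subset ⟨b, hb, rfl⟩ (Set.singleton_subset_iff.2 hxm))
      have hWR : W ≤ R.map pr := (Subgroup.closure_le _).2 hmem3
      have hW8 : Nat.card W ≤ 8 := by
        have hsub : (W : Set (PG ι E)) ⊆ (({1, pr b, pr x, pr b * pr x, pr a, pr a * pr b, pr a * pr x,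
            pr a * (pr b * pr x)} : Finset (PG ι E)) : Set (PG ι E)) := by
          intro t ht
          simp only [Finset.coe_insert, Finset.coe_singleton, Set.mem_insert_iff, Set.mem_singleton_iff]
          rcases h.mem_closure_insert ⟨a, ha, rfl⟩ ((Set.subset_insert _ _).trans hmem3) ht with e | e <;>
            rcases h.closure_two ⟨b, hb, rfl⟩ hxm e with e' | e' | e' | e'
          · simp [e']
          · simp [e']
          · simp [e']
          · simp [e']
          all_goals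
            have e'' : t = pr a * (pr a * t) := by rw [← mul_assoc, h.map_sq ⟨a, ha, rfl⟩, one_mul]
            rw [e'] at e''
            simp [e'']
        rw [show Nat.card W = Nat.card (W : Set (PG ι E)) from rfl, Nat.card_coe_set_eq]
        refine (Set.ncard_le_ncard hsub (Finset.finite_toSet _)).trans ?_
        rw [Set.ncard_coe_finset]
        exact (Finset.card_insert_le _ _).trans (Nat.succ_le_succ ((Finset.card_insert_le _ _).trans (Nat.succ_le_succ
          ((Finset.card_insert_le _ _).trans (Nat.succ_le_succ Finset.card_le_five)))))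
      have hcp := h.card_perp W hWR
      by_contra hc
      push Not at hc
      have hle : Nat.card {t : R.map (pr (ι := ι) (E := E)) // ∀ v ∈ W, pw t.1 v = 1} ≤ 2 := by
        let f : {t : R.map (pr (ι := ι) (E := E)) // ∀ v ∈ W, pw t.1 v = 1} → Bool :=
          fun t => decide (t.1.1 = pr x)
        have hval : ∀ t : {t : R.map (pr (ι := ι) (E := E)) // ∀ v ∈ W, pw t.1 v = 1}, t.1.1 = 1 ∨ t.1.1 = pr x := by
          rintro ⟨⟨_, w, hw, rfl⟩, hwW⟩
          by_contra hne
          push Not at hne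
          have hp : ∀ s, pr s ∈ ({pr a, pr b, pr x} : Set (PG ι E)) → w * s = s * w := fun s hs =>
            sg_eq_one_iff.1 (by rw [← pw_pr]; exact hwW _ (Subgroup.subset_closure hs))
          have hwa' := hp a (by simp)
          refine hne.2 (hc w hw hwa' (hp b (by simp)) (hp x (by simp)) hne.1 |> fun k => ?_)
          by_contra hwx
          refine h.not_comm_of_anti hab' (sg_eq_one_iff.1 ?_)
          rw [← pw_pr, pw_comm]
          have hbm := k hwx
          let C : Subgroup (PG ι E) :=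
            { carrier := {v | v ∈ R.map pr ∧ pw v (pr a) = 1}
              one_mem' := ⟨one_mem _, by rw [← map_one (pr (ι := ι) (E := E)), pw_pr]; simp [sg]⟩
              mul_mem' := fun {v v'} hv hv' => ⟨mul_mem hv.1 hv'.1, by
                rw [h.pw_mul hv.1 hv'.1 ⟨a, ha, rfl⟩, hv.2, hv'.2, one_mul]⟩
              inv_mem' := fun {v} hv => by rw [inv_eq_of_mul_eq_one_right (h.map_sq hv.1)]; exact hv }
          refine ((Subgroup.closure_le C).2 ?_ hbm).2
          refine Set.insert_subset ⟨⟨a, ha, rfl⟩, by rw [pw_pr, sg_self]⟩ (Set.insert_subset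
            ⟨hxm, by rw [pw_pr, sg_eq_one_iff]; exact hax.symm⟩ (Set.singleton_subset_iff.2
            ⟨⟨w, hw, rfl⟩, by rw [pw_pr, sg_eq_one_iff]; exact hwa'⟩))
        have hf : Function.Injective f := fun s t hst => by
          simp only [f, decide_eq_decide] at hst
          refine Subtype.ext (Subtype.ext ?_)
          rcases hval s with e | e <;> rcases hval t with e' | e'
          · rw [e, e']
          · exact absurd ((hst.2 e').symm.trans e) hx1
          · exact absurd ((hst.1 e).symm.trans e') hx1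
          · rw [e, e']
        refine (Nat.card_le_card_of_injective f hf).trans ?_
        rw [Nat.card_eq_fintype_card, Fintype.card_bool]
      nlinarith
  obtain ⟨cw, w₁, hw₁, hww, hw₁2⟩ := h.root w hw
  have hprw : pr w = pr w₁ := by rw [hww, map_mul, pr_sc, one_mul]
  have hcw : ∀ {v : G}, w * v = v * w → w₁ * v = v * w₁ := fun {v} e => by
    rw [hww, mul_assoc, ← mul_assoc v, ← sc_comm, mul_assoc (sc cw) v] at e
    exact mul_left_cancel e
  rw [hprw] at hw1 hwx1 hbw
  have hwa₁ : (w₁ : M) * a = a * w₁ := congrArg Units.val (hcw hwa)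
  have hwb₁ : (w₁ : M) * b = b * w₁ := congrArg Units.val (hcw hwb)
  have hwx₁ : (w₁ : M) * x = x * w₁ := congrArg Units.val (hcw hwx)
  have hwm : (w₁ : M) * m = m * w₁ := by
    refine smul_right_injective M h.two ?_
    have e1 : (w₁ : M) * ((1 + (x : M)) * a) = (1 + (x : M)) * a * w₁ := by
      rw [← Matrix.mul_assoc, pcomm hwx₁, Matrix.mul_assoc, hwa₁, ← Matrix.mul_assoc]
    have e2 : (w₁ : M) * ((1 - (x : M)) * b) = (1 - (x : M)) * b * w₁ := by
      rw [← Matrix.mul_assoc, mcomm hwx₁, Matrix.mul_assoc, hwb₁, ← Matrix.mul_assoc]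
    calc (2 : E) • ((w₁ : M) * m) = (w₁ : M) * ((2 : E) • (m : M)) := (Matrix.mul_smul _ _ _).symm
      _ = ((2 : E) • (m : M)) * w₁ := by rw [hm', mul_add, e1, e2, ← add_mul]
      _ = (2 : E) • ((m : M) * w₁) := Matrix.smul_mul _ _ _
  have hwk : k * w₁ = w₁ * k := by
    have hS' : w₁ * S = S * w₁ := Units.ext (by simp only [Units.val_mul, hS, mul_add, add_mul, mul_one, one_mul, hwm])
    have hT' : w₁ * T = T * w₁ := Units.ext (by simp only [Units.val_mul, hT, mul_add, add_mul, mul_one, one_mul, hwa₁])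
    have hTi : T⁻¹ * w₁ = w₁ * T⁻¹ := by rw [inv_mul_eq_iff_eq_mul, ← mul_assoc, ← hT', mul_inv_cancel_right]
    rw [hk_def, mul_assoc, hTi, ← mul_assoc, ← hS', mul_assoc]
  obtain ⟨v, hv, hvS, hvb⟩ := h.sep (S := {a, x, w₁}) (b := b)
    (fun s hs => by rcases hs with rfl | rfl | rfl; exacts [ha, hx, hw₁]) hb (by
      rwa [Set.image_insert_eq, Set.image_insert_eq, Set.image_singleton])
  have hva : (v : M) * a = a * v := congrArg Units.val (hvS a (by simp))
  have hvx : (v : M) * x = x * v := congrArg Units.val (hvS x (by simp))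
  have hvw : (v : M) * w₁ = w₁ * v := congrArg Units.val (hvS w₁ (by simp))
  have hvb' : (v : M) * b = -(b * v) := congrArg Units.val hvb
  obtain ⟨r, hr, her⟩ := hloc w₁ hw₁ hw₁2 hw1 k hk hwk v hv (hvS w₁ (by simp))
  set q : M := ((k * v * k⁻¹ : G) : M) with hq
  have hq1 : (1 + (x : M)) * q = (1 + (x : M)) * v := by
    have e1 : (1 + (x : M)) * ((k⁻¹ : G) : M) = 1 + (x : M) := by
      conv_lhs => rw [← hk1, Matrix.mul_assoc, Units.mul_inv, mul_one]
    calc (1 + (x : M)) * q = (1 + (x : M)) * (k : M) * (v : M) * ((k⁻¹ : G) : M) := by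
          rw [hq, Units.val_mul, Units.val_mul, ← Matrix.mul_assoc, ← Matrix.mul_assoc]
      _ = (v : M) * ((1 + (x : M)) * ((k⁻¹ : G) : M)) := by
          rw [hk1, ← Matrix.mul_assoc (v : M), mul_add, mul_one, hvx, add_mul 1 (x : M) (v : M), one_mul]
      _ = (1 + (x : M)) * v := by rw [e1, mul_add, mul_one, hvx, add_mul, one_mul]
  have hq2 : (1 - (x : M)) * q = (1 - (x : M)) * ((b : M) * v) := by
    have hbb : (b : M) * b = -1 := by rw [← Units.val_mul, hb2, Units.val_neg, Units.val_one]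
    have hc : (b : M) * v * x = x * ((b : M) * v) := by
      rw [Matrix.mul_assoc, hvx, ← Matrix.mul_assoc, hbx', Matrix.mul_assoc]
    have hbv : (1 + (b : M)) * v = (b : M) * v * (1 + (b : M)) := by
      rw [mul_add, mul_one, Matrix.mul_assoc (b : M) (v : M) (b : M), hvb', Matrix.mul_neg, ← Matrix.mul_assoc, hbb,
        Matrix.neg_mul, one_mul, neg_neg, add_mul, one_mul, add_comm]
    have e1 : (1 - (x : M)) * ((k : M) * v) * (1 + (a : M)) = (1 - (x : M)) * ((b : M) * v) * k * (1 + (a : M)) := by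
      calc (1 - (x : M)) * ((k : M) * v) * (1 + (a : M)) = (1 - (x : M)) * k * ((v : M) * (1 + (a : M))) := by
            simp only [Matrix.mul_assoc]
        _ = (1 - (x : M)) * k * (1 + (a : M)) * v := by rw [pcomm hva]; simp only [Matrix.mul_assoc]
        _ = (1 - (x : M)) * ((b : M) * v) * (1 + (b : M)) := by
            rw [hk2, Matrix.mul_assoc, hbv, ← Matrix.mul_assoc]
        _ = (b : M) * v * ((1 - (x : M)) * (1 + (b : M))) := by rw [← mcomm hc, Matrix.mul_assoc]
        _ = (1 - (x : M)) * ((b : M) * v) * k * (1 + (a : M)) := by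
            rw [← hk2, ← mcomm hc]; simp only [Matrix.mul_assoc]
    have e2 : (1 - (x : M)) * ((k : M) * v) = (1 - (x : M)) * ((b : M) * v) * k := by
      have := congrArg (· * ((T⁻¹ : G) : M)) e1
      simp only [Matrix.mul_assoc, haT, mul_one] at this ⊢
      exact this
    rw [hq, Units.val_mul, Units.val_mul, ← Matrix.mul_assoc, e2, Matrix.mul_assoc, Units.mul_inv, mul_one]
  have hR2 : (2 : E) • ((1 + (w₁ : M)) * r) =
      (1 + (w₁ : M)) * (1 + (x : M)) * v + (1 + (w₁ : M)) * (1 - (x : M)) * ((b : M) * v) := by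
    rw [Matrix.mul_assoc, ← hq1, Matrix.mul_assoc, ← hq2, ← mul_add, two_parts, Matrix.mul_smul, ← her]
  -- conjugation by `v`
  have hL : (v : M) * ((2 : E) • ((1 + (w₁ : M)) * r)) =
      ((1 + (w₁ : M)) * (1 + (x : M)) * v - (1 + (w₁ : M)) * (1 - (x : M)) * ((b : M) * v)) * v := by
    have e1 : (v : M) * ((1 + (w₁ : M)) * (1 + (x : M)) * v) = (1 + (w₁ : M)) * (1 + (x : M)) * v * v := by
      rw [← Matrix.mul_assoc, ← Matrix.mul_assoc, pcomm hvw, Matrix.mul_assoc (1 + (w₁ : M)) (v : M), pcomm hvx,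
        ← Matrix.mul_assoc]
    have e2 : (v : M) * ((1 + (w₁ : M)) * (1 - (x : M)) * ((b : M) * v)) =
        -((1 + (w₁ : M)) * (1 - (x : M)) * ((b : M) * v) * v) := by
      calc (v : M) * ((1 + (w₁ : M)) * (1 - (x : M)) * ((b : M) * v))
          = (v : M) * (1 + (w₁ : M)) * (1 - (x : M)) * (b : M) * v := by simp only [Matrix.mul_assoc]
        _ = (1 + (w₁ : M)) * ((v : M) * (1 - (x : M))) * (b : M) * v := by
            rw [pcomm hvw]; simp only [Matrix.mul_assoc]
        _ = (1 + (w₁ : M)) * (1 - (x : M)) * ((v : M) * b) * v := by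
            rw [mcomm hvx]; simp only [Matrix.mul_assoc]
        _ = _ := by rw [hvb', Matrix.mul_neg, Matrix.neg_mul]
    rw [hR2, mul_add, e1, e2, sub_mul]
    exact (sub_eq_add_neg _ _).symm
  have hzero : ∀ c : G, c ∈ R → pr c = pr x → (1 + (w₁ : M)) * (1 + (c : M)) ≠ 0 := fun c hc e =>
    h.proj_mul_ne hc hw₁ (e ▸ hx1) hw1 (e ▸ hwx1)
  rcases h.comm v hv r hr with e | e
  · have e' : (v : M) * r = r * v := congrArg Units.val e
    have h1 : (v : M) * ((2 : E) • ((1 + (w₁ : M)) * r)) = (2 : E) • ((1 + (w₁ : M)) * r) * v := by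
      rw [Matrix.mul_smul, Matrix.smul_mul, ← Matrix.mul_assoc, pcomm hvw, Matrix.mul_assoc, e', ← Matrix.mul_assoc]
    rw [hL, hR2] at h1
    have h2 : (2 : E) • ((1 + (w₁ : M)) * (1 - (x : M)) * ((b : M) * v)) * (v : M) = 0 := by
      rw [two_smul]
      linear_combination (norm := noncomm_ring) -h1
    refine hzero (-x) hnx (pr_neg x) ?_
    rw [Units.val_neg, ← sub_eq_add_neg]
    have h3 := congrArg (fun z : M => z * ((((v⁻¹ : G) * (b * v)⁻¹) : G) : M)) h2
    simp only [Units.val_mul, _root_.mul_inv_rev, Matrix.smul_mul, Matrix.mul_assoc, Units.mul_inv_cancel_left,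
      Units.mul_inv, mul_one, Matrix.zero_mul] at h3
    exact (smul_eq_zero.1 h3).resolve_left h.two
  · have e' : (v : M) * r = -(r * v) := congrArg Units.val e
    have h1 : (v : M) * ((2 : E) • ((1 + (w₁ : M)) * r)) = -((2 : E) • ((1 + (w₁ : M)) * r) * v) := by
      rw [Matrix.mul_smul, Matrix.smul_mul, ← smul_neg, ← Matrix.mul_assoc, pcomm hvw, Matrix.mul_assoc, e',
        Matrix.mul_neg, ← Matrix.mul_assoc]
    rw [hL, hR2] at h1
    have h2 : (2 : E) • ((1 + (w₁ : M)) * (1 + (x : M)) * v) * (v : M) = 0 := by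
      rw [two_smul]
      linear_combination (norm := noncomm_ring) h1
    refine hzero x hx rfl ?_
    have h3 := congrArg (fun z : M => z * ((((v⁻¹ : G) * v⁻¹) : G) : M)) h2
    simp only [Units.val_mul, Matrix.smul_mul, Matrix.mul_assoc, Units.mul_inv_cancel_left,
      Units.mul_inv, mul_one, Matrix.zero_mul] at h3
    exact (smul_eq_zero.1 h3).resolve_left h.two

theorem image_mem' (hbig : 16 < Nat.card (R.map (pr (ι := ι) (E := E)))) (hlift : Lifts R K) (hloc : Local R K)
    {x : G} (hx : x ∈ R) (hxx : x * x = 1) (hx1 : pr x ≠ 1) {g : G} (hg : g ∈ K) (hgx : g * x = x * g)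
    {u : G} (hu : u ∈ R) (hux : u * x = x * u) : g * u * g⁻¹ ∈ R := by
  obtain ⟨c, a, ha, rfl, ha2⟩ := h.scaled hu
  rw [← mul_assoc, ← sc_comm, mul_assoc (sc c), mul_assoc (sc c)]
  refine mul_mem (h.scal c) (h.image_mem hbig hlift hloc hx hxx hx1 hg hgx ha ?_ ha2)
  rw [mul_assoc, ← mul_assoc x, ← sc_comm, mul_assoc (sc c) x] at hux
  exact mul_left_cancel hux

theorem lift_normalizes {a : G} (ha : a ∈ R) (ha2 : a * a = -1) {T : G} (hT : (T : M) = 1 + (a : M))
    {x : G} (hx : x ∈ R) : T * x * T⁻¹ ∈ R := by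
  rcases h.comm a ha x hx with e | e
  · rw [(h.lift_conj hx ha ha2 hT).1 e]; exact hx
  · rw [(h.lift_conj hx ha ha2 hT).2 e]; exact mul_mem ha hx

set_option maxHeartbeats 400000 in
/-- The centraliser of an involution of `R` normalises `R`. -/
theorem cent_normalizes (hbig : 16 < Nat.card (R.map (pr (ι := ι) (E := E)))) (hlift : Lifts R K) (hloc : Local R K)
    (hRsub : R ≤ K)
    {x : G} (hx : x ∈ R) (hxx : x * x = 1) (hx1 : pr x ≠ 1) {g : G} (hg : g ∈ K) (hgx : g * x = x * g) :
    ∀ r ∈ R, g * r * g⁻¹ ∈ R := by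
  classical
  haveI : Fintype (R.map (pr (ι := ι) (E := E))) := Fintype.ofFinite _
  have hxm : pr x ∈ R.map pr := ⟨x, hx, rfl⟩
  have hRK : ∀ r ∈ R, ∀ s ∈ R, r * s * r⁻¹ ∈ R := fun r hr s hs => mul_mem (mul_mem hr hs) (inv_mem hr)
  obtain ⟨w, hw, hwx, hw2, hw1, hwx1⟩ : ∃ w ∈ R, w * x = x * w ∧ w * w = 1 ∧ pr w ≠ 1 ∧ pr w ≠ pr x := by
    obtain ⟨b, hb, hbne, hbx⟩ : ∃ b ∈ R, pr b ∉ Subgroup.closure ({pr x} : Set (PG ι E)) ∧ b * x = x * b := by
      by_contra hc
      push Not at hc
      have hcp := h.card_perp (Subgroup.closure {pr x}) ((Subgroup.closure_le _).2 (Set.singleton_subset_iff.2 hxm))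
      have hW2 : ((Subgroup.closure {pr x} : Subgroup (PG ι E)) : Set (PG ι E)) ⊆ {1, pr x} := fun t ht =>
        (h.closure_one hxm ht).elim Or.inl Or.inr
      have h2 : Nat.card (Subgroup.closure ({pr x} : Set (PG ι E))) ≤ 2 := by
        rw [show Nat.card (Subgroup.closure ({pr x} : Set (PG ι E))) =
          Nat.card ((Subgroup.closure {pr x} : Subgroup (PG ι E)) : Set (PG ι E)) from rfl, Nat.card_coe_set_eq]
        exact (Set.ncard_le_ncard hW2 (Set.toFinite _)).trans
          ((Set.ncard_insert_le _ _).trans (by rw [Set.ncard_singleton]))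
      have h3 : Nat.card {t : R.map (pr (ι := ι) (E := E)) //
          ∀ v ∈ Subgroup.closure ({pr x} : Set (PG ι E)), pw t.1 v = 1} ≤
          Nat.card (Subgroup.closure ({pr x} : Set (PG ι E))) := by
        refine Nat.card_le_card_of_injective (fun t => ⟨t.1.1, ?_⟩) fun s t hst =>
          Subtype.ext (Subtype.ext (congrArg (fun z : Subgroup.closure ({pr x} : Set (PG ι E)) => z.1) hst))
        obtain ⟨⟨_, b, hb, rfl⟩, hbW⟩ := t
        by_contra hbn
        refine hc b hb hbn (sg_eq_one_iff.1 ?_)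
        rw [← pw_pr]
        exact hbW _ (Subgroup.subset_closure rfl)
      nlinarith
    obtain ⟨c, w, hw, rfl, hw2⟩ := h.root b hb
    rw [map_mul, pr_sc, one_mul] at hbne
    rw [mul_assoc, ← mul_assoc x, ← sc_comm, mul_assoc (sc c) x] at hbx
    exact ⟨w, hw, mul_left_cancel hbx, hw2, fun e => hbne (e ▸ one_mem _), fun e => hbne (e ▸ Subgroup.subset_closure rfl)⟩
  have him : ∀ {g : G}, g ∈ K → g * x = x * g → ∀ {u : G}, u ∈ R → u * x = x * u → g * u * g⁻¹ ∈ R :=
    fun {_} hg hgx {_} hu hux => h.image_mem' hbig hlift hloc hx hxx hx1 hg hgx hu hux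
  obtain ⟨w', hw'⟩ : ∃ w', w' = g * w * g⁻¹ := ⟨_, rfl⟩
  have hw'R : w' ∈ R := hw' ▸ him hg hgx hw hwx
  have hgi : g⁻¹ * x = x * g⁻¹ := by rw [inv_mul_eq_iff_eq_mul, ← mul_assoc, hgx, mul_inv_cancel_right]
  have hw'x : w' * x = x * w' := by
    rw [hw', mul_assoc, hgi, ← mul_assoc, mul_assoc g, hwx, ← mul_assoc, hgx]
    simp only [mul_assoc]
  have hw'2 : w' * w' = 1 := by
    rw [hw', show g * w * g⁻¹ * (g * w * g⁻¹) = g * (w * w) * g⁻¹ by group, hw2, mul_one, mul_inv_cancel]
  have hw'1 : pr w' ≠ 1 := fun e => hw1 (by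
    rw [hw', map_mul, map_mul, map_inv] at e
    exact conj_eq_one_iff.1 e)
  have hw'x1 : pr w' ≠ pr x := fun e => hwx1 (by
    rw [hw', map_mul, map_mul, map_inv, mul_inv_eq_iff_eq_mul, ← map_mul, ← map_mul, ← hgx, map_mul, map_mul] at e
    exact mul_left_cancel e)
  have pm : ∀ {a b : G}, a * a = 1 → b * b = 1 → pr a = pr b → a = b ∨ a = -b := by
    intro a b ha hb e
    obtain ⟨c, hc⟩ := pr_eq_iff.1 e.symm
    have h1 : (sc (c * c) : G) = 1 := by
      rw [← ha, hc, mul_assoc, ← mul_assoc b, ← sc_comm, mul_assoc (sc c) b, hb, mul_one, sc_mul]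
    haveI := h.nonempty
    rcases sc_sq_one h1 with e' | e'
    · exact Or.inl (by rw [hc, e', sc_one, one_mul])
    · exact Or.inr (by rw [hc, e', ← neg_eq_sc])
  -- bring the image back
  obtain ⟨n, hn, hnx, hnR, hnw⟩ : ∃ n ∈ K, n * x = x * n ∧ (∀ r ∈ R, n * r * n⁻¹ ∈ R) ∧
      (n * w' * n⁻¹ = w ∨ n * w' * n⁻¹ = -w) := by
    by_cases hpw : pr w' = pr w
    · exact ⟨1, one_mem _, by simp, fun r hr => by simpa using hr, by simpa using pm hw'2 hw2 hpw⟩
    have hq : pr w ∉ Subgroup.closure (pr '' ({x, w * w'} : Set G)) := by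
      rw [Set.image_insert_eq, Set.image_singleton]
      intro hc
      have hm : pr (w * w') ∈ R.map pr := ⟨_, mul_mem hw hw'R, rfl⟩
      rcases h.closure_two hxm hm hc with e | e | e | e
      · exact hw1 e
      · exact hwx1 e
      · rw [map_mul] at e
        exact hw'1 (mul_eq_left.1 e.symm)
      · rw [map_mul, ← mul_assoc, h.map_comm hxm ⟨w, hw, rfl⟩, mul_assoc] at e
        have e2 := (mul_eq_left.1 e.symm)
        exact hw'x1 (by rw [← inv_eq_of_mul_eq_one_right e2, inv_eq_of_mul_eq_one_right (h.map_sq hxm)])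
    obtain ⟨q₀, hq₀, hq₀S, hq₀w⟩ := h.sep (S := {x, w * w'})
      (fun s hs => by rcases hs with rfl | rfl; exacts [hx, mul_mem hw hw'R]) hw hq
    obtain ⟨c, q, hqR, rfl, hq2⟩ := h.root q₀ hq₀
    have hstr : ∀ {v : G}, sc c * q * v = v * (sc c * q) → q * v = v * q := fun {v} e => by
      rw [mul_assoc, ← mul_assoc v, ← sc_comm, mul_assoc (sc c) v] at e
      exact mul_left_cancel e
    have hqx := hstr (hq₀S x (by simp))
    have hqww := hstr (hq₀S (w * w') (by simp))
    have hqw : q * w = -(w * q) := by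
      rw [mul_assoc, ← mul_assoc w, ← sc_comm, mul_assoc (sc c) w, ← mul_neg] at hq₀w
      exact mul_left_cancel hq₀w
    have hqw' : q * w' = -(w' * q) := by
      refine (h.comm q hqR w' hw'R).resolve_left fun e => h.not_comm_of_anti hqw ?_
      rw [← mul_assoc, mul_assoc w w' q, ← e, ← mul_assoc w q w'] at hqww
      exact mul_right_cancel hqww
    have hstep : ∀ {p r : G}, p ∈ R → r ∈ R → p * p = 1 → r * r = 1 → p * x = x * p → r * x = x * r →
        r * p = -(p * r) → ∃ T ∈ K, T * x = x * T ∧ (∀ s ∈ R, T * s * T⁻¹ ∈ R) ∧ T * p * T⁻¹ = -r := by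
      intro p r hp hr hp2 hr2 hpx hrx hrp
      have ha2 : p * r * (p * r) = -1 := by
        rw [mul_assoc, ← mul_assoc r, hrp, neg_mul, mul_assoc p r r, hr2, mul_one, mul_neg, hp2]
      obtain ⟨T, hT⟩ := h.exists_unit ha2
      have hax : p * r * x = x * (p * r) := by rw [mul_assoc, hrx, ← mul_assoc, hpx, mul_assoc]
      have hap : p * r * p = -(p * (p * r)) := by rw [mul_assoc, hrp, mul_neg]
      refine ⟨T, hlift _ (mul_mem hp hr) ha2 T hT, ?_, fun s hs => h.lift_normalizes (mul_mem hp hr) ha2 hT hs, ?_⟩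
      · rw [← mul_inv_eq_iff_eq_mul]
        exact (h.lift_conj hx (mul_mem hp hr) ha2 hT).1 hax
      · rw [(h.lift_conj hp (mul_mem hp hr) ha2 hT).2 hap, hap, ← mul_assoc, hp2, one_mul]
    obtain ⟨T₁, hT₁, hT₁x, hT₁R, hT₁w⟩ := hstep hw'R hqR hw'2 hq2 hw'x hqx hqw'
    obtain ⟨T₂, hT₂, hT₂x, hT₂R, hT₂q⟩ := hstep hqR hw hq2 hw2 hqx hwx (by rw [hqw, neg_neg])
    refine ⟨T₂ * T₁, mul_mem hT₂ hT₁, by rw [mul_assoc, hT₁x, ← mul_assoc, hT₂x, mul_assoc], fun r hr => ?_, ?_⟩
    · rw [show T₂ * T₁ * r * (T₂ * T₁)⁻¹ = T₂ * (T₁ * r * T₁⁻¹) * T₂⁻¹ by group]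
      exact hT₂R _ (hT₁R r hr)
    · left
      rw [show T₂ * T₁ * w' * (T₂ * T₁)⁻¹ = T₂ * (T₁ * w' * T₁⁻¹) * T₂⁻¹ by group, hT₁w, mul_neg, neg_mul, hT₂q, neg_neg]
  -- fix the sign
  obtain ⟨s, hs, hsS, hsw⟩ := h.sep (S := {x}) (fun t ht => Set.mem_singleton_iff.1 ht ▸ hx) hw (by
    rw [Set.image_singleton]
    exact fun hc => (h.closure_one hxm hc).elim hw1 hwx1)
  obtain ⟨e₀, he₀, he₀x, he₀w⟩ : ∃ e₀ ∈ R, e₀ * x = x * e₀ ∧ e₀ * n * g * w = w * (e₀ * n * g) := by
    have key : n * g * w = n * w' * n⁻¹ * (n * g) := by rw [hw']; group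
    rcases hnw with e | e
    · exact ⟨1, one_mem _, by simp, by rw [one_mul, key, e]⟩
    · refine ⟨s, hs, hsS x rfl, ?_⟩
      rw [mul_assoc, mul_assoc, ← mul_assoc n, key, e, ← mul_assoc s, mul_neg, hsw, neg_neg, mul_assoc w,
        ← mul_assoc s n]
  have hRn : ∀ r ∈ R, e₀ * n * r * (e₀ * n)⁻¹ ∈ R := fun r hr => by
    rw [show e₀ * n * r * (e₀ * n)⁻¹ = e₀ * (n * r * n⁻¹) * e₀⁻¹ by group]
    exact hRK _ he₀ _ (hnR r hr)
  obtain ⟨y₀, hy₀, hy₀S, hy₀x⟩ := h.sep (S := {w}) (fun t ht => Set.mem_singleton_iff.1 ht ▸ hw) hx (by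
    rw [Set.image_singleton]
    exact fun hc => (h.closure_one ⟨w, hw, rfl⟩ hc).elim hx1 (Ne.symm hwx1))
  obtain ⟨v, hv, hvS, hvw⟩ : ∃ v ∈ R, v * x = x * v ∧ v * w = -(w * v) := ⟨s, hs, hsS x rfl, hsw⟩
  have hfin : ∀ k : G, k * x = x * k → k * w = w * k → (∀ u ∈ R, u * x = x * u → k * u * k⁻¹ ∈ R) →
      (∃ r ∈ R, (1 + (w : M)) * ((k * y₀ * k⁻¹ : G) : M) = (1 + (w : M)) * r) →
      (∃ r ∈ R, (1 - (w : M)) * ((k * y₀ * k⁻¹ : G) : M) = (1 - (w : M)) * r) → k * y₀ * k⁻¹ ∈ R := by
    intro k hkx hkw hk hp hm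
    obtain ⟨r, hr, her⟩ := hp
    obtain ⟨r₂, hr₂, her₂⟩ := hm
    obtain ⟨z, hz⟩ : ∃ z, z = k * y₀ * k⁻¹ := ⟨_, rfl⟩
    obtain ⟨t, ht⟩ : ∃ t, t = k * v * k⁻¹ := ⟨_, rfl⟩
    rw [← hz] at her her₂ ⊢
    have htR : t ∈ R := ht ▸ hk v hv hvS
    have hki : k⁻¹ * w = w * k⁻¹ := by rw [inv_mul_eq_iff_eq_mul, ← mul_assoc, hkw, mul_inv_cancel_right]
    have hzw : z * w = w * z := by
      rw [hz, mul_assoc, hki, ← mul_assoc, mul_assoc k, hy₀S w rfl, ← mul_assoc, hkw]
      simp only [mul_assoc]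
    have hwtt : (w : M) * t = -(t * w) := by
      have e : w * t = -(t * w) := by
        have e1 : k * (v * w) * k⁻¹ = t * w := by
          calc k * (v * w) * k⁻¹ = t * (k * w * k⁻¹) := by rw [ht]; group
            _ = t * w := by rw [hkw, mul_inv_cancel_right]
        have e2 : k * (w * v) * k⁻¹ = w * t := by rw [← mul_assoc, hkw, ht]; simp only [mul_assoc]
        rw [← e1, ← e2, hvw, mul_neg, neg_mul, neg_neg]
      exact congrArg Units.val e
    have hzw' : (z : M) * w = w * z := congrArg Units.val hzw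
    have hw2' : (w : M) * w = 1 := congrArg Units.val hw2
    obtain ⟨σ, hσ⟩ : ∃ σ : E, (z : M) * t = σ • ((t : M) * z) := by
      rcases h.comm y₀ hy₀ v hv with e | e
      · refine ⟨1, ?_⟩
        rw [one_smul, ← Units.val_mul, ← Units.val_mul]
        congr 1
        rw [hz, ht, show k * y₀ * k⁻¹ * (k * v * k⁻¹) = k * (y₀ * v) * k⁻¹ by group, e]; group
      · refine ⟨-1, ?_⟩
        rw [neg_one_smul, ← Units.val_mul, ← Units.val_mul, ← Units.val_neg]
        congr 1
        rw [hz, ht, show k * y₀ * k⁻¹ * (k * v * k⁻¹) = k * (y₀ * v) * k⁻¹ by group, e, mul_neg, neg_mul]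
        congr 1
        group
    -- compare the two parts
    have hσ0 : σ ≠ 0 := by
      rintro rfl
      rw [zero_smul] at hσ
      haveI := h.nonempty
      exact (z * t).ne_zero (by rw [Units.val_mul, hσ])
    have he : (1 + (w : M)) * ((r * t : G) : M) = (1 + (w : M)) * ((sc (Units.mk0 σ hσ0) * (t * r₂) : G) : M) := by
      rw [Units.val_mul, Units.val_mul, Units.val_mul, sc_val, Units.val_mk0, ← Matrix.mul_assoc, ← her,
        Matrix.mul_assoc, hσ, Matrix.smul_mul, one_mul, Matrix.mul_smul, Matrix.mul_smul]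
      congr 1
      have e1 : (1 + (w : M)) * t = t * (1 - (w : M)) := by rw [add_mul, one_mul, hwtt, mul_sub, mul_one, sub_eq_add_neg]
      rw [← Matrix.mul_assoc, e1, Matrix.mul_assoc, her₂, ← Matrix.mul_assoc, ← e1, Matrix.mul_assoc]
    have hcl := h.proj_inj hw hw1 (mul_mem hr htR) (mul_mem (h.scal _) (mul_mem htR hr₂)) he
    rw [map_mul, pr_sc, one_mul, map_mul, map_mul, h.map_comm ⟨r, hr, rfl⟩ ⟨t, htR, rfl⟩, ← mul_assoc,
      h.map_comm ⟨w, hw, rfl⟩ ⟨t, htR, rfl⟩, mul_assoc] at hcl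
    obtain ⟨c, hc⟩ : ∃ c : E, (1 - (w : M)) * (z : M) = c • ((1 - (w : M)) * (r : M)) := by
      rcases hcl with e | e
      · obtain ⟨c, hc⟩ := eq_of_pr (mul_left_cancel e).symm
        exact ⟨c, by rw [her₂, hc, Matrix.mul_smul]⟩
      · obtain ⟨c, hc⟩ := eq_of_pr (show pr (w * r) = pr r₂ by rw [map_mul]; exact (mul_left_cancel e).symm)
        refine ⟨-c, ?_⟩
        rw [her₂, hc, Units.val_mul, Matrix.mul_smul, ← Matrix.mul_assoc, sub_mul 1 (w : M) (w : M), one_mul, hw2',
          ← neg_sub, Matrix.neg_mul, smul_neg, neg_smul]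
    obtain ⟨d, hd⟩ := pr_eq_one_iff.1 (h.pr_sq hy₀)
    have hzz : (z : M) * z = (d : E) • 1 := by
      rw [← Units.val_mul, hz, show k * y₀ * k⁻¹ * (k * y₀ * k⁻¹) = k * (y₀ * y₀) * k⁻¹ by group, hd, ← sc_comm,
        mul_inv_cancel_right, sc_val]
    have hrr := h.proj_sq hw hw2 hw1 hr hzw' hzz her
    have hrw : (r : M) * w = w * r := congrArg Units.val (h.proj_comm hw hw2 hw1 hr hzw' her)
    have hc2 : c * c = 1 := by
      have hwe : (1 - (w : M)) * (1 - w) = (2 : E) • (1 - (w : M)) := by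
        rw [two_smul, sub_mul, mul_sub, mul_sub, one_mul, one_mul, mul_one, hw2']; abel
      have h1 : (1 - (w : M)) * z * ((1 - (w : M)) * z) = (2 * (d : E)) • (1 - (w : M)) := by
        rw [Matrix.mul_assoc, ← Matrix.mul_assoc (z : M), mul_sub, mul_one, hzw',
          show (z : M) - w * z = (1 - (w : M)) * z by rw [sub_mul, one_mul], Matrix.mul_assoc (1 - (w : M)),
          hzz, ← Matrix.mul_assoc, hwe, Matrix.mul_smul, mul_one, smul_smul, mul_comm]
      have h2 : (1 - (w : M)) * r * ((1 - (w : M)) * r) = (2 * (d : E)) • (1 - (w : M)) := by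
        rw [Matrix.mul_assoc, ← Matrix.mul_assoc (r : M), mul_sub, mul_one, hrw,
          show (r : M) - w * r = (1 - (w : M)) * r by rw [sub_mul, one_mul], Matrix.mul_assoc (1 - (w : M)),
          ← Units.val_mul r r, hrr, ← Matrix.mul_assoc, hwe, Matrix.mul_smul, mul_one, smul_smul, mul_comm]
      rw [hc, Matrix.smul_mul, Matrix.mul_smul, smul_smul, h2, smul_smul, ← sub_eq_zero, ← sub_smul] at h1
      have hne : (1 - (w : M)) ≠ 0 := by
        simpa [sub_eq_add_neg] using h.proj_ne (show pr (-w) ≠ 1 by rwa [pr_neg])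
      have := (smul_eq_zero.1 h1).resolve_right hne
      exact mul_right_cancel₀ (mul_ne_zero h.two d.ne_zero) (by linear_combination this)
    have h2z : (2 : E) • (z : M) = (1 + (w : M)) * r + c • ((1 - (w : M)) * r) := by
      rw [← her, ← hc, two_parts]
    rcases mul_self_eq_one_iff.1 hc2 with rfl | rfl
    · rw [one_smul, two_parts] at h2z
      rw [Units.ext (smul_right_injective _ h.two h2z)]
      exact hr
    · rw [neg_one_smul, ← sub_eq_add_neg, two_diff] at h2z
      rw [show z = w * r from Units.ext (by rw [Units.val_mul]; exact smul_right_injective _ h.two h2z)]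
      exact mul_mem hw hr
  -- conclude
  set k := e₀ * n * g with hk
  have hkK : k ∈ K := mul_mem (mul_mem (hRsub he₀) hn) hg
  have hkx : k * x = x * k := by
    rw [hk, mul_assoc (e₀ * n), hgx, ← mul_assoc, mul_assoc e₀ n x, hnx, ← mul_assoc, he₀x, mul_assoc x e₀ n, mul_assoc x]
  have hconj : ∀ r, k * r * k⁻¹ = e₀ * n * (g * r * g⁻¹) * (e₀ * n)⁻¹ := fun r => by rw [hk]; group
  have hki : ∀ u ∈ R, u * x = x * u → k * u * k⁻¹ ∈ R := fun u hu hux => by
    rw [hconj]; exact hRn _ (him hg hgx hu hux)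
  have hy₀R : k * y₀ * k⁻¹ ∈ R := by
    refine hfin k hkx he₀w hki (hloc w hw hw2 hw1 k hkK he₀w y₀ hy₀ (hy₀S w rfl)) ?_
    obtain ⟨r, hr, her⟩ := hloc (-w) (h.neg_mem hw) (by rw [neg_mul_neg, hw2]) (by rwa [pr_neg]) k hkK
      (by rw [mul_neg, neg_mul, he₀w]) y₀ hy₀ (by rw [mul_neg, neg_mul, hy₀S w rfl])
    rw [Units.val_neg, ← sub_eq_add_neg] at her
    exact ⟨r, hr, her⟩
  have hall : ∀ r ∈ R, k * r * k⁻¹ ∈ R := fun r hr => by
    rcases h.comm r hr x hx with e | e
    · exact hki r hr e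
    · have hc : r * y₀ * x = x * (r * y₀) := by
        rw [mul_assoc, hy₀x, mul_neg, ← mul_assoc, e, neg_mul, neg_neg, mul_assoc]
      have h1 := mul_mem (hki _ (mul_mem hr hy₀) hc) (inv_mem hy₀R)
      rwa [show k * (r * y₀) * k⁻¹ * (k * y₀ * k⁻¹)⁻¹ = k * r * k⁻¹ by group] at h1
  -- undo the correction
  intro r hr
  haveI : Finite (R : Set G) := Subtype.finite
  have hN : e₀ * n ∈ Subgroup.normalizer (R : Set G) := Subgroup.mem_normalizer_fintype fun r hr => hRn r hr
  have h1 := (Subgroup.mem_normalizer_iff.1 (inv_mem hN) _).1 (hall r hr)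
  rwa [hconj, inv_inv, show (e₀ * n)⁻¹ * (e₀ * n * (g * r * g⁻¹) * (e₀ * n)⁻¹) * (e₀ * n) = g * r * g⁻¹ by group] at h1

set_option maxHeartbeats 400000 in
/-- An overgroup with monomial centralisers normalises the two-group. -/
theorem normal_of_local (hbig : 16 < Nat.card (R.map (pr (ι := ι) (E := E)))) (hlift : Lifts R K) (hloc : Local R K)
    (hRsub : R ≤ K) : ∀ g ∈ K, ∀ r ∈ R, g * r * g⁻¹ ∈ R := by
  classical
  let KP : Subgroup (PG ι E) := K.map pr
  let A : Subgroup KP := (R.map pr).subgroupOf KP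
  let P : KP → KP → Prop := fun a b => pw a.1 b.1 = 1
  have hAR : ∀ {a : KP}, a ∈ A → (a : PG ι E) ∈ R.map pr := fun ha => Subgroup.mem_subgroupOf.1 ha
  have hmk : ∀ {r : G}, r ∈ R → pr r ∈ KP := fun hr => ⟨_, hRsub hr, rfl⟩
  have hmA : ∀ {r : G} (hr : r ∈ R), (⟨pr r, hmk hr⟩ : KP) ∈ A := fun hr => Subgroup.mem_subgroupOf.2 ⟨_, hr, rfl⟩
  -- elements of `A` lift to involutions
  have hrep : ∀ {a : KP}, a ∈ A → ∃ r ∈ R, r * r = 1 ∧ pr r = a.1 := fun ha => by
    obtain ⟨r, hr, e⟩ := hAR ha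
    obtain ⟨c, y, hy, rfl, hyy⟩ := h.root r hr
    exact ⟨y, hy, hyy, by rw [← e, map_mul, pr_sc, one_mul]⟩
  have hnorm : ∀ {g : G} (hg : g ∈ K), (⟨pr g, g, hg, rfl⟩ : KP) ∈ nz A ↔ ∀ r ∈ R, g * r * g⁻¹ ∈ R := by
    intro g hg
    constructor
    · intro hn r hr
      have h1 := Subgroup.mem_subgroupOf.1 ((Subgroup.mem_normalizer_iff.1 hn _).1 (hmA hr))
      refine h.pr_mem_iff.1 ?_
      simpa using h1
    · intro hall
      haveI : Finite (A : Set KP) := Subtype.finite
      refine Subgroup.mem_normalizer_fintype fun a ha => Subgroup.mem_subgroupOf.2 ?_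
      obtain ⟨r, hr, -, e⟩ := hrep ha
      refine ⟨g * r * g⁻¹, hall r hr, ?_⟩
      rw [map_mul, map_mul, map_inv, e]
      rfl
  have D : Data A P := by
    refine ⟨fun a ha => Subtype.ext (h.map_sq (hAR ha)), fun k hk => ?_, fun a _ => ?_,
      fun a _ b _ e => (pw_comm _ _).trans e, fun a ha b hb c hc => ?_, fun a ha hall => ?_, fun k hk a ha b hb e => ?_⟩
    · obtain ⟨_, g, hg, rfl⟩ := k
      refine Subgroup.mem_subgroupOf.2 ⟨g, h.mem_of_signs fun x hx => ?_, rfl⟩
      obtain ⟨c, y, hy, rfl, hyy⟩ := h.root x hx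
      have e := congrArg Subtype.val (hk _ (hmA hy))
      simp only [Subgroup.coe_mul] at e
      rw [← map_mul, ← map_mul] at e
      obtain ⟨d, hd⟩ := pr_eq_iff.1 e.symm
      have h1 : g * y * g⁻¹ * (g * y * g⁻¹) = 1 := by
        rw [show g * y * g⁻¹ * (g * y * g⁻¹) = g * (y * y) * g⁻¹ by group, hyy, mul_one, mul_inv_cancel]
      rw [show g * y * g⁻¹ = sc d * y by rw [hd]; group, mul_assoc, ← mul_assoc y, ← sc_comm, mul_assoc (sc d) y,
        hyy, mul_one, sc_mul] at h1
      haveI := h.nonempty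
      rcases sc_sq_one h1 with e' | e'
      · left
        rw [e', sc_one, one_mul] at hd
        rw [← mul_assoc, ← sc_comm, mul_assoc, hd, mul_assoc]
      · right
        rw [e', ← neg_eq_sc] at hd
        rw [← mul_assoc, ← sc_comm, mul_assoc, hd, mul_neg, mul_assoc]
    · obtain ⟨_, g, hg, rfl⟩ := a
      show pw _ _ = 1
      rw [pw_pr, sg_self]
    · show pw ((a.1 : PG ι E) * b.1) c.1 = 1 ↔ _
      rw [h.pw_mul (hAR ha) (hAR hb) (hAR hc)]
      rcases pw_sign a.1 c.1 with e | e <;> rcases pw_sign b.1 c.1 with e' | e' <;> simp [P, e, e']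
    · obtain ⟨r, hr, -, e⟩ := hrep ha
      by_contra hne
      have hr1 : pr r ≠ 1 := fun e1 => hne (Subtype.ext (e.symm.trans e1))
      obtain ⟨y, hy, hry⟩ := h.exists_anti hr hr1
      refine h.not_comm_of_anti hry (sg_eq_one_iff.1 ?_)
      rw [← pw_pr, e]
      exact hall _ (hmA hy)
    · obtain ⟨_, g, hg, rfl⟩ := k
      obtain ⟨_, s, hs, rfl⟩ := a
      obtain ⟨_, t, ht, rfl⟩ := b
      show pw (pr g * pr s * (pr g)⁻¹) (pr g * pr t * (pr g)⁻¹) = 1
      have e' : pw (pr s) (pr t) = 1 := e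
      rw [pw_pr, sg_eq_one_iff] at e'
      rw [← map_inv, ← map_mul, ← map_mul, ← map_mul, ← map_mul, pw_pr, sg_eq_one_iff]
      calc g * s * g⁻¹ * (g * t * g⁻¹) = g * (s * t) * g⁻¹ := by group
        _ = g * (t * s) * g⁻¹ := by rw [e']
        _ = _ := by group
  have hcard : 4 < Nat.card A := by
    have hle : R.map pr ≤ KP := by rintro _ ⟨r, hr, rfl⟩; exact hmk hr
    rw [Nat.card_congr (Subgroup.subgroupOfEquivOfLe hle).toEquiv]
    omega
  have hT : HasTrans A P := by
    intro a ha ha1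
    obtain ⟨r₀, hr₀, -, e₀⟩ := hrep ha
    obtain ⟨c, r, hr, rfl, hr2⟩ := h.scaled hr₀
    rw [map_mul, pr_sc, one_mul] at e₀
    obtain ⟨T, hT⟩ := h.exists_unit hr2
    have hTK := hlift r hr hr2 T hT
    refine ⟨⟨pr T, T, hTK, rfl⟩, ⟨(hnorm hTK).2 fun x hx => h.lift_normalizes hr hr2 hT hx, fun x hx => ?_⟩,
      Subtype.ext ?_, fun b hb hbb hba => ?_⟩
    · obtain ⟨y, hy, -, ey⟩ := hrep hx
      have hp : P x a ↔ r * y = y * r := by
        show pw x.1 a.1 = 1 ↔ _
        rw [← ey, ← e₀, pw_pr, sg_eq_one_iff, eq_comm]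
      constructor
      · intro hxp
        refine Subtype.ext ?_
        show pr T * x.1 * (pr T)⁻¹ = x.1
        rw [← ey, ← map_inv, ← map_mul, ← map_mul, (h.lift_conj hy hr hr2 hT).1 (hp.1 hxp)]
      · intro hxp
        refine Subtype.ext ?_
        show pr T * x.1 * (pr T)⁻¹ = x.1 * a.1
        rw [← ey, ← e₀, ← map_inv, ← map_mul, ← map_mul,
          (h.lift_conj hy hr hr2 hT).2 ((h.comm r hr y hy).resolve_left (mt hp.2 hxp)), map_mul,
          h.map_comm ⟨r, hr, rfl⟩ ⟨y, hy, rfl⟩]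
    · show pr T * pr T = a.1
      rw [← map_mul, h.lift_sq hr2 hT, e₀]
    · obtain ⟨_, g, hg, rfl⟩ := b
      have hg2 : pr (g * g) = 1 := by rw [map_mul]; exact congrArg Subtype.val hbb
      have hgr : pr (g * r) = pr (r * g) := by
        rw [map_mul, map_mul, e₀]; exact congrArg Subtype.val hba
      obtain ⟨d, hd⟩ := pr_eq_iff.1 hgr.symm
      obtain ⟨g2, hg2'⟩ := pr_eq_one_iff.1 hg2
      -- the sign
      have hd2 : (sc (d * d) : G) = 1 := by
        have e2 : g * r * g⁻¹ = sc d * r := by rw [hd]; group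
        have e1 : g * g * r * (g * g)⁻¹ = sc (d * d) * r := by
          calc g * g * r * (g * g)⁻¹ = g * (g * r * g⁻¹) * g⁻¹ := by group
            _ = sc d * (g * r * g⁻¹) := by
                rw [e2, ← mul_assoc g, ← sc_comm, mul_assoc (sc d) g, mul_assoc, ← e2]
            _ = sc (d * d) * r := by rw [e2, ← mul_assoc, sc_mul]
        rw [hg2', sc_conj] at e1
        exact mul_eq_right.1 e1.symm
      have hor : g * r = r * g ∨ g * r = -(r * g) := by
        haveI := h.nonempty
        rcases sc_sq_one hd2 with e | e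
        · left; rw [hd, e, sc_one, one_mul]
        · right; rw [hd, e, ← neg_eq_sc]
      have hrr : (r : M) * r = -1 := by rw [← Units.val_mul, hr2, Units.val_neg, Units.val_one]
      have hgT : T * g * T⁻¹ = g ∧ g * r = r * g ∨ T * g * T⁻¹ = r * g ∧ g * r = -(r * g) := by
        rcases hor with e | e
        · left
          refine ⟨?_, e⟩
          have e' : (g : M) * r = r * g := congrArg Units.val e
          rw [mul_inv_eq_iff_eq_mul]
          exact Units.ext (by simp only [Units.val_mul, hT, add_mul, mul_add, one_mul, mul_one, e'])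
        · right
          refine ⟨?_, e⟩
          have e' : (g : M) * r = -(r * g) := congrArg Units.val e
          rw [mul_inv_eq_iff_eq_mul]
          refine Units.ext ?_
          simp only [Units.val_mul, hT, add_mul, mul_add, one_mul, mul_one]
          rw [Matrix.mul_assoc (r : M) (g : M), e', Matrix.mul_neg, ← Matrix.mul_assoc (r : M) (r : M), hrr,
            Matrix.neg_mul, one_mul, neg_neg, add_comm]
      constructor
      · rcases hgT with ⟨e, -⟩ | ⟨e, -⟩
        · left; refine Subtype.ext ?_; show pr T * pr g * (pr T)⁻¹ = pr g; rw [← map_inv, ← map_mul, ← map_mul, e]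
        · right; refine Subtype.ext ?_; show pr T * pr g * (pr T)⁻¹ = a.1 * pr g
          rw [← map_inv, ← map_mul, ← map_mul, e, map_mul, e₀]
      · intro hfix u hu hua
        have hcomm : g * r = r * g := by
          rcases hgT with ⟨-, e⟩ | ⟨e, -⟩
          · exact e
          · exfalso
            have e1 := congrArg Subtype.val hfix
            change pr T * pr g * (pr T)⁻¹ = pr g at e1
            rw [← map_inv, ← map_mul, ← map_mul, e, map_mul, e₀] at e1
            exact ha1 (Subtype.ext (mul_eq_right.1 e1))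
        obtain ⟨y, hy, hyy, ey⟩ := hrep hu
        have e1 : pr (y * (g * y * g⁻¹)) = pr r := by
          rw [e₀, ← congrArg Subtype.val hua, map_mul, map_mul, map_mul, map_inv, ey]
          show u.1 * (pr g * u.1 * (pr g)⁻¹) = u.1 * (pr g * u.1 * pr g)
          rw [inv_eq_of_mul_eq_one_right (show pr g * pr g = 1 by rw [← map_mul, hg2])]
        obtain ⟨c', hc'⟩ := pr_eq_iff.1 e1.symm
        have hgy : g * y * g⁻¹ = sc c' * (y * r) := by
          calc g * y * g⁻¹ = y * (y * (g * y * g⁻¹)) := by rw [← mul_assoc, hyy, one_mul]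
            _ = sc c' * (y * r) := by rw [hc', ← mul_assoc, ← sc_comm, mul_assoc]
        show pw u.1 a.1 = 1
        rw [← ey, ← e₀, pw_pr, sg_eq_one_iff]
        refine (h.comm y hy r hr).resolve_right fun hyr => ?_
        have hyr2 : y * r * (y * r) = 1 := by
          rw [mul_assoc, ← mul_assoc r, show r * y = -(y * r) by rw [hyr, neg_neg], neg_mul, mul_assoc y r r, hr2]
          simp [hyy]
        have e2 : g * g * y * (g * g)⁻¹ = sc (c' * c') * (y * r * r) := by
          calc g * g * y * (g * g)⁻¹ = g * (g * y * g⁻¹) * g⁻¹ := by group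
            _ = sc c' * ((g * y * g⁻¹) * (g * r * g⁻¹)) := by
                rw [hgy, ← mul_assoc, ← sc_comm, mul_assoc (sc c'), mul_assoc (sc c'), ← hgy]
                congr 1
                group
            _ = sc c' * (sc c' * (y * r) * r) := by rw [hgy, hcomm, mul_inv_cancel_right]
            _ = sc (c' * c') * (y * r * r) := by rw [mul_assoc (sc c'), ← mul_assoc, sc_mul]
        rw [hg2', sc_conj, mul_assoc y r r, hr2] at e2
        have e3 : g * y * g⁻¹ * (g * y * g⁻¹) = 1 := by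
          rw [show g * y * g⁻¹ * (g * y * g⁻¹) = g * (y * y) * g⁻¹ by group, hyy, mul_one, mul_inv_cancel]
        rw [hgy, mul_assoc, ← mul_assoc (y * r), ← sc_comm, mul_assoc (sc c') (y * r), hyr2, mul_one, sc_mul] at e3
        rw [e3, one_mul] at e2
        exact h.ne_neg y (by simpa using e2)
  have hC : ∀ a ∈ A, a ≠ 1 → ∀ k, k * a = a * k → k ∈ nz A := by
    intro a ha ha1 k hk
    obtain ⟨x, hx, hxx, ex⟩ := hrep ha
    have hx1 : pr x ≠ 1 := fun e => ha1 (Subtype.ext (ex.symm.trans e))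
    obtain ⟨_, g, hg, rfl⟩ := k
    refine (hnorm hg).2 ?_
    have hgx : pr (g * x * g⁻¹) = pr x := by
      rw [map_mul, map_mul, map_inv, ex, mul_inv_eq_iff_eq_mul]
      exact congrArg Subtype.val hk
    obtain ⟨d, hd⟩ := pr_eq_iff.1 hgx.symm
    have h1 : g * x * g⁻¹ * (g * x * g⁻¹) = 1 := by
      rw [show g * x * g⁻¹ * (g * x * g⁻¹) = g * (x * x) * g⁻¹ by group, hxx, mul_one, mul_inv_cancel]
    rw [hd, mul_assoc, ← mul_assoc x, ← sc_comm, mul_assoc (sc d) x, hxx, mul_one, sc_mul] at h1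
    haveI := h.nonempty
    rcases sc_sq_one h1 with e' | e'
    · exact h.cent_normalizes hbig hlift hloc hRsub hx hxx hx1 hg (mul_inv_eq_iff_eq_mul.1 (by
        rw [hd, e', sc_one, one_mul]))
    · obtain ⟨y, hy, hxy⟩ := h.exists_anti hx hx1
      have hgx' : g * x = -(x * g) := by
        rw [← neg_mul]
        exact mul_inv_eq_iff_eq_mul.1 (by rw [hd, e', ← neg_eq_sc])
      have hyg : y * g * x = x * (y * g) := by
        rw [mul_assoc, hgx', mul_neg, ← mul_assoc y x, ← neg_mul, ← hxy, mul_assoc]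
      intro r hr
      have h3 := h.cent_normalizes hbig hlift hloc hRsub hx hxx hx1 (mul_mem (hRsub hy) hg) hyg r hr
      have h4 := mul_mem (mul_mem (inv_mem hy) h3) hy
      rwa [show y⁻¹ * (y * g * r * (y * g)⁻¹) * y = g * r * g⁻¹ by group] at h4
  have htop := D.eq_top_of_trans hT hcard hC
  intro g hg
  exact (hnorm hg).1 (htop ▸ Subgroup.mem_top _)

end PS

end Cfsg.Agent.ClassicalMax.SympType
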