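import Cfsg.Agent.ClassicalMax.SympType.SLStep
import Cfsg.Agent.Symp4.Setting

/-!
Normalisers of two-groups of symplectic type with centre of order four are maximal in the special linear groups of
dimension four and eight over prime fields.
-/

set_option autoImplicit false
set_option linter.unusedSectionVars false

namespace Cfsg.Agent.ClassicalMax.SympType

open Matrix

variable {ι : Type} [Fintype ι] [DecidableEq ι] {F : Type*} [Field F] [Fintype F]

local notation "G" => GL ι F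

theorem sc_mem_scalars (c : Fˣ) : (sc c : G) ∈ Cfsg.Geo.scalars ι F := ⟨c, rfl⟩

theorem exists_sc_of_scalars {z : G} (hz : z ∈ Cfsg.Geo.scalars ι F) : ∃ c, (sc c : G) = z := hz

theorem mem_sup_scalars {R : Subgroup G} {x : G} :
    x ∈ R ⊔ Cfsg.Geo.scalars ι F ↔ ∃ c : Fˣ, ∃ r ∈ R, x = sc c * r := by
  haveI : (Cfsg.Geo.scalars ι F).Normal := ⟨fun z hz g => by
    obtain ⟨c, rfl⟩ := hz
    show g * sc c * g⁻¹ ∈ _
    rw [← sc_comm, mul_inv_cancel_right]
    exact sc_mem_scalars c⟩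
  rw [Subgroup.mem_sup_of_normal_right]
  constructor
  · rintro ⟨r, hr, z, hz, rfl⟩
    obtain ⟨c, rfl⟩ := exists_sc_of_scalars hz
    exact ⟨c, r, hr, (sc_comm c r).symm⟩
  · rintro ⟨c, r, hr, rfl⟩
    exact ⟨r, hr, _, sc_mem_scalars c, (sc_comm c r).symm⟩

/-- Adjoining the scalars to a two-group of symplectic type with centre of order four. -/
theorem ps_of_group [Nonempty ι] {R : Subgroup G} (hS : Cfsg.Geo.IsSymplecticTypeGroup 2 R)
    (hirr : Cfsg.Geo.ActsAbsolutelyIrreducibly (Cfsg.Geo.matrixSet R)) (hz : Nat.card (Subgroup.center R) = 4)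
    (h2 : (2 : F) ≠ 0) {j : F} (hj : j * j = -1) (hdim : (Fintype.card ι : F) ≠ 0) :
    PS (R ⊔ Cfsg.Geo.scalars ι F) ∧
      ∀ g : G, g ∈ Cfsg.Geo.subgroupNormalizer R ↔
        ∀ r ∈ R ⊔ Cfsg.Geo.scalars ι F, g * r * g⁻¹ ∈ R ⊔ Cfsg.Geo.scalars ι F := by
  classical
  have hj0 : j ≠ 0 := fun e => by simp [e] at hj
  have hj1 : j ≠ 1 := fun e => h2 (by rw [e] at hj; linear_combination hj)
  have hj' : j ≠ -1 := fun e => h2 (by rw [e] at hj; linear_combination hj)
  haveI : Finite R := inferInstance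
  have hexp : Monoid.exponent R = 4 := by rw [hS.exponent_eq]; norm_num
  have h4' : ∀ x : R, x ^ 4 = 1 := fun x => hexp ▸ Monoid.pow_exponent_eq_one x
  obtain ⟨hsq, hcm⟩ := Symp4.central_sq_comm hS.pGroup hS.cyclic_of_characteristic h4'
  have hcs : ∀ {z : R}, z ∈ Subgroup.center R → ∃ c : Fˣ, (z : G) = sc c := fun hz => by
    obtain ⟨c, hc⟩ := Symp4.center_scalar hirr hz
    exact exists_sc_of_smul hc
  -- the fourth roots of unity are there
  have hfour : ∀ c : Fˣ, c ^ 4 = 1 → sc c ∈ R := by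
    intro c hc
    have hmem : ∀ z : Subgroup.center R, ∃ c : Fˣ, ((z : R) : G) = sc c ∧ c ^ 4 = 1 := fun z => by
      obtain ⟨c, hc⟩ := hcs z.2
      refine ⟨c, hc, ?_⟩
      have e := congrArg Subtype.val (h4' (z : R))
      rw [Subgroup.coe_pow, hc, Subgroup.coe_one] at e
      exact sc_inj (show (sc (c ^ 4) : G) = sc 1 by rw [sc_one, ← e]; simp [sc, map_pow])
    choose f hf hf4 using hmem
    have hinj : Function.Injective f := fun z w e => Subtype.ext (Subtype.ext (by rw [hf, hf, e]))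
    obtain ⟨T, hT⟩ : ∃ T : Finset Fˣ, T = Finset.univ.filter fun c : Fˣ => c ^ 4 = 1 := ⟨_, rfl⟩
    have hle : T.card ≤ 4 := by
      have hsub : T.map ⟨Units.val, Units.val_injective⟩ ⊆ ({1, -1, j, -j} : Finset F) := by
        intro a ha
        obtain ⟨u, hu, rfl⟩ := Finset.mem_map.1 ha
        rw [hT, Finset.mem_filter] at hu
        have e : (u : F) ^ 4 = 1 := by rw [← Units.val_pow_eq_pow_val, hu.2, Units.val_one]
        have e' : ((u : F) - 1) * ((u : F) + 1) * (((u : F) - j) * ((u : F) + j)) = 0 := by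
          linear_combination e - ((u : F) ^ 2 - 1) * hj
        rcases mul_eq_zero.1 e' with e1 | e1 <;> rcases mul_eq_zero.1 e1 with e2 | e2
        · simp [sub_eq_zero.1 e2]
        · simp [eq_neg_of_add_eq_zero_left e2]
        · simp [sub_eq_zero.1 e2]
        · simp [eq_neg_of_add_eq_zero_left e2]
      have := Finset.card_le_card hsub
      rw [Finset.card_map] at this
      exact this.trans Finset.card_le_four
    haveI : Fintype (Subgroup.center R) := Fintype.ofFinite _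
    have himg : Finset.univ.image f = T := by
      refine Finset.eq_of_subset_of_card_le (fun a ha => ?_) ?_
      · obtain ⟨z, -, rfl⟩ := Finset.mem_image.1 ha
        simp [hT, hf4]
      · rw [Finset.card_image_of_injective _ hinj, Finset.card_univ, ← Nat.card_eq_fintype_card, hz]
        exact hle
    obtain ⟨z, -, rfl⟩ := Finset.mem_image.1 (show c ∈ Finset.univ.image f by simp [himg, hT, hc])
    rw [← hf z]
    exact (z : R).2
  have pm : ∀ {z : R}, z ∈ Subgroup.center R → z * z = 1 → (z : G) = 1 ∨ (z : G) = -1 := by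
    intro z hz hz2
    obtain ⟨c, hc⟩ := hcs hz
    have e := congrArg Subtype.val hz2
    rw [Subgroup.coe_mul, hc, sc_mul, Subgroup.coe_one] at e
    rcases sc_sq_one e with rfl | rfl
    · exact Or.inl (by rw [hc, sc_one])
    · exact Or.inr (by rw [hc, sc_neg_one])
  have hcomm : ∀ x ∈ R, ∀ y ∈ R, x * y = y * x ∨ x * y = -(y * x) := by
    intro x hx y hy
    obtain ⟨c, hc⟩ : ∃ c : R, c = (⟨x, hx⟩ : R) * ⟨y, hy⟩ * (⟨x, hx⟩ : R)⁻¹ * (⟨y, hy⟩ : R)⁻¹ := ⟨_, rfl⟩
    have hcc : c ∈ Subgroup.center R := hc ▸ hcm _ _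
    have h1 : (⟨x, hx⟩ : R) * ⟨y, hy⟩ = c * (⟨y, hy⟩ * ⟨x, hx⟩) := by rw [hc]; group
    have hc2 : c * c = 1 := by
      have hs := Subgroup.mem_center_iff.1 (hsq ⟨x, hx⟩) (⟨y, hy⟩ : R)
      have h3 : (⟨x, hx⟩ : R) * ⟨x, hx⟩ * ⟨y, hy⟩ = c * c * (⟨y, hy⟩ * (⟨x, hx⟩ * ⟨x, hx⟩)) := by
        rw [mul_assoc, h1, ← mul_assoc (⟨x, hx⟩ : R) c, Subgroup.mem_center_iff.1 hcc (⟨x, hx⟩ : R), mul_assoc c,
          ← mul_assoc (⟨x, hx⟩ : R), h1, mul_assoc c _ (⟨x, hx⟩ : R), mul_assoc (⟨y, hy⟩ : R), mul_assoc c c]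
      rw [hs] at h3
      exact mul_eq_right.1 h3.symm
    have h4' : x * y = (c : G) * (y * x) := congrArg Subtype.val h1
    rcases pm hcc hc2 with h | h <;> rw [h] at h4'
    · exact Or.inl (by rwa [one_mul] at h4')
    · exact Or.inr (by rwa [neg_one_mul] at h4')
  have hsq' : ∀ x ∈ R, x * x = 1 ∨ x * x = -1 := fun x hx => by
    refine pm (hsq ⟨x, hx⟩) ?_
    rw [← pow_two, ← pow_two, ← pow_mul]
    exact h4' _
  obtain ⟨u, hu⟩ : ∃ u : Fˣ, (u : F) = j := ⟨Units.mk0 j hj0, rfl⟩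
  have huu : u * u = -1 := Units.ext (by rw [Units.val_mul, hu, hj, Units.val_neg, Units.val_one])
  have hu4 : u ^ 4 = 1 := by
    rw [show (4 : ℕ) = 2 + 2 from rfl, pow_add, pow_two, huu, neg_one_mul, neg_neg]
  have hu4' : u⁻¹ ^ 4 = 1 := by rw [inv_pow, hu4, inv_one]
  refine ⟨⟨h2, hdim, ⟨j, hj⟩, fun c => mem_sup_scalars.2 ⟨c, 1, one_mem R, (mul_one _).symm⟩, ?_, ?_, ?_⟩, fun g => ?_⟩
  · intro x hx y hy
    obtain ⟨a, r, hr, rfl⟩ := mem_sup_scalars.1 hx
    obtain ⟨b, s, hs, rfl⟩ := mem_sup_scalars.1 hy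
    have e : ∀ (a b : Fˣ) (r s : G), sc a * r * (sc b * s) = sc (a * b) * (r * s) := fun a b r s => by
      rw [mul_assoc, ← mul_assoc r, ← sc_comm, mul_assoc (sc b) r, ← mul_assoc, sc_mul]
    rw [e, e, mul_comm b a]
    rcases hcomm r hr s hs with h | h
    · exact Or.inl (by rw [h])
    · exact Or.inr (by rw [h, mul_neg])
  · intro M hM
    refine hirr.2 M ?_
    rintro _ ⟨g, hg, rfl⟩
    exact hM g (Subgroup.mem_sup_left hg)
  · intro x hx
    obtain ⟨a, r, hr, rfl⟩ := mem_sup_scalars.1 hx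
    rcases hsq' r hr with h | h
    · exact ⟨a, r, Subgroup.mem_sup_left hr, rfl, h⟩
    · refine ⟨a * u⁻¹, sc u * r, mem_sup_scalars.2 ⟨u, r, hr, rfl⟩, ?_, ?_⟩
      · rw [← mul_assoc (sc (a * u⁻¹)), sc_mul, inv_mul_cancel_right]
      · rw [mul_assoc, ← mul_assoc r, ← sc_comm, mul_assoc (sc u) r r, h, ← mul_assoc, sc_mul, huu, sc_neg_one]
        simp
  · haveI : Finite (R : Set G) := Subtype.finite
    constructor
    · intro hg r hr
      obtain ⟨a, r, hr', rfl⟩ := mem_sup_scalars.1 hr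
      rw [show g * (sc a * r) * g⁻¹ = sc a * (g * r * g⁻¹) by
        rw [← mul_assoc g, ← sc_comm, mul_assoc, mul_assoc, mul_assoc]]
      exact mem_sup_scalars.2 ⟨a, _, (Subgroup.mem_normalizer_iff.1 hg r).1 hr', rfl⟩
    · intro hg
      refine Subgroup.mem_normalizer_fintype fun r hr => ?_
      obtain ⟨a, s, hs, e⟩ := mem_sup_scalars.1 (hg r (Subgroup.mem_sup_left hr))
      have e4 : ∀ t ∈ R, t ^ 4 = 1 := fun t ht => congrArg Subtype.val (h4' ⟨t, ht⟩)
      have h1 : (sc (a ^ 4) : G) = sc 1 := by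
        have : (sc a * s) ^ 4 = 1 := by rw [← e, conj_pow, e4 r hr, mul_one, mul_inv_cancel]
        rw [(show Commute (sc a) s from sc_comm a s).mul_pow, e4 s hs, mul_one] at this
        rw [sc_one, ← this]
        simp [sc, map_pow]
      have := mul_mem (hfour a (sc_inj h1)) hs
      rwa [← e] at this

/-- Adjoining the scalars. -/
theorem ps_of_data {R : Subgroup G} (hd : Cfsg.Geo.IsLinearSymplecticTypeData 2 R) (h4 : 4 ≤ Fintype.card ι)
    (hdim : (Fintype.card ι : F) ≠ 0) :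
    PS (R ⊔ Cfsg.Geo.scalars ι F) ∧
      ∀ g : G, g ∈ Cfsg.Geo.subgroupNormalizer R ↔
        ∀ r ∈ R ⊔ Cfsg.Geo.scalars ι F, g * r * g⁻¹ ∈ R ⊔ Cfsg.Geo.scalars ι F := by
  classical
  haveI : Nonempty ι := Fintype.card_pos_iff.1 (by omega)
  obtain ⟨p, e, h2p, ⟨hp, hchar, hcard, hdvd, -⟩, hor⟩ := hd.field
  rcases hor with ⟨h, -⟩ | ⟨-, rfl, hz, -, -⟩ | ⟨-, -, h, -⟩
  · exact absurd h (by decide)
  swap
  · omega
  rw [hz, pow_one] at hdvd
  rw [pow_one] at hcard
  have hp2 := hp.two_le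
  have h2 : (2 : F) ≠ 0 := by
    haveI := hchar
    intro e0
    have : p ∣ 2 := (CharP.cast_eq_zero_iff F p 2).1 (by exact_mod_cast e0)
    exact h2p ((Nat.prime_dvd_prime_iff_eq hp Nat.prime_two).1 this).symm
  obtain ⟨j, hj⟩ : ∃ j : F, j * j = -1 := by
    obtain ⟨j, hj⟩ := (FiniteField.isSquare_neg_one_iff (F := F)).2 (by omega)
    exact ⟨j, hj.symm⟩
  exact ps_of_group hd.symplecticType hd.absIrred hz h2 hj hdim

/-- The dichotomy in four dimensions. -/
theorem dichotomy_four {p : ℕ} (hp : p.Prime) (hF : Fintype.card F = p) : Dichotomy (Fin 4) F :=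
  fun R hR K hK => by
    rcases base_four (hF ▸ hp) hR K (fun g hg hn => hK g (by
      have : Matrix.GeneralLinearGroup.det g = 1 := hg
      rw [← Matrix.GeneralLinearGroup.val_det_apply, this, Units.val_one]) hn) with h | h
    · exact Or.inl h
    · exact Or.inr fun g hg => h (show Matrix.GeneralLinearGroup.det g = 1 from Units.ext hg)

/-- Maximality from the dichotomy. -/
theorem maximal_of_dichotomy (hT : Dichotomy ι F) {R : Subgroup G} (hd : Cfsg.Geo.IsLinearSymplecticTypeData 2 R)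
    (h4 : 4 ≤ Fintype.card ι) (hdim : (Fintype.card ι : F) ≠ 0) :
    Cfsg.Geo.IsMaximalIn (Cfsg.Geo.specialLinear ι F)
      (Cfsg.Geo.subgroupNormalizer R ⊓ Cfsg.Geo.specialLinear ι F) := by
  classical
  obtain ⟨hP, hN⟩ := ps_of_data hd h4 hdim
  refine ⟨lt_of_le_of_ne inf_le_right fun e => ?_, fun M hM hMS => ?_⟩
  · obtain ⟨s, hs⟩ := exists_not_normalise hP (by omega)
    refine hs ((hN _).1 ?_)
    have hmem : SpecialLinearGroup.toGL s ∈ Cfsg.Geo.specialLinear ι F := Units.ext s.2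
    rw [← e] at hmem
    exact hmem.1
  · rcases hT _ hP M (fun g hg hn => hM ⟨(hN g).2 hn, Units.ext hg⟩) with h | h
    · refine Or.inl (le_antisymm (fun g hg => ⟨(hN g).2 (h g hg), hMS hg⟩) hM)
    · refine Or.inr (le_antisymm hMS fun g hg => h g ?_)
      have : Matrix.GeneralLinearGroup.det g = 1 := hg
      rw [← Matrix.GeneralLinearGroup.val_det_apply, this, Units.val_one]

theorem natCast_two_pow_ne {p : ℕ} (hp : p.Prime) (hF : Fintype.card F = p) (hp4 : p % 4 = 1) (k : ℕ) :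
    ((2 ^ k : ℕ) : F) ≠ 0 := by
  haveI := Fact.mk hp
  haveI : CharP F p := charP_of_card_eq_prime (by rw [hF])
  rw [Ne, CharP.cast_eq_zero_iff F p]
  intro e
  have := (Nat.prime_dvd_prime_iff_eq hp Nat.prime_two).1 (hp.dvd_of_dvd_pow e)
  omega

theorem maximal_four {p : ℕ} (hp : p.Prime) (hF : Fintype.card F = p) (hp4 : p % 4 = 1)
    {R : Subgroup (GL (Fin 4) F)} (hd : Cfsg.Geo.IsLinearSymplecticTypeData 2 R) :
    Cfsg.Geo.IsMaximalIn (Cfsg.Geo.specialLinear (Fin 4) F)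
      (Cfsg.Geo.subgroupNormalizer R ⊓ Cfsg.Geo.specialLinear (Fin 4) F) :=
  maximal_of_dichotomy (dichotomy_four hp hF) hd (by simp)
    (by rw [Fintype.card_fin]; exact natCast_two_pow_ne hp hF hp4 2)

theorem maximal_eight {p : ℕ} (hp : p.Prime) (hF : Fintype.card F = p) (hp4 : p % 4 = 1)
    {R : Subgroup (GL (Fin 8) F)} (hd : Cfsg.Geo.IsLinearSymplecticTypeData 2 R) :
    Cfsg.Geo.IsMaximalIn (Cfsg.Geo.specialLinear (Fin 8) F)
      (Cfsg.Geo.subgroupNormalizer R ⊓ Cfsg.Geo.specialLinear (Fin 8) F) :=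
  maximal_of_dichotomy (dichotomy_step dvd_rfl (by norm_num) (by simp) (dichotomy_four hp hF)) hd (by simp)
    (by rw [Fintype.card_fin]; exact natCast_two_pow_ne hp hF hp4 3)

end Cfsg.Agent.ClassicalMax.SympType
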