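import Cfsg.Agent.ClassicalMax.SympType.UBasic
import Cfsg.Agent.Classical.UnitaryGroup
import Cfsg.Prelude.Def_ClassicalGeometry

/-!
Rank one unitary matrices, generation of the special unitary group, transitivity on vectors of equal norm, and the
subgroups normalised by the special unitary group.
-/

set_option autoImplicit false
set_option linter.unusedSectionVars false

namespace Cfsg.Agent.ClassicalMax.SympType

open Matrix Cfsg.Agent.Classical
open scoped commutatorElement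

variable {n : ℕ} {E : Type*} [Field E] {σ : E →+* E}

local notation "M" => Matrix (Fin n) (Fin n) E
local notation "G" => GL (Fin n) E

/-- one plus a hermitian matrix of rank one -/
def rk (σ : E →+* E) (v : Fin n → E) (c : E) : Matrix (Fin n) (Fin n) E := 1 + c • vecMulVec v (⇑σ ∘ v)

theorem rk_mul (v : Fin n → E) (c d : E) : rk σ v c * rk σ v d = rk σ v (c + d + c * d * hb σ v v) := by
  simp only [rk, add_mul, mul_add, one_mul, mul_one, smul_mul_smul_comm, Matrix.vecMulVec_mul_vecMulVec,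
    Matrix.vecMulVec_smul, smul_smul, add_smul, hb]
  abel

theorem rk_mulVec (v x : Fin n → E) (c : E) : rk σ v c *ᵥ x = x + (c * hb σ v x) • v := by
  rw [rk, Matrix.add_mulVec, Matrix.one_mulVec, Matrix.smul_mulVec, Matrix.vecMulVec_mulVec, hb]
  funext i
  simp [mul_comm, mul_left_comm]

theorem ad_rk (hσ : ∀ x, σ (σ x) = x) (v : Fin n → E) (c : E) : ad σ (rk σ v c) = rk σ v (σ c) := by
  rw [rk, ad_add, ad_one, ad_smul, rk]
  congr 2
  ext i k
  simp [ad, vecMulVec_apply, hσ, mul_comm]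

theorem rk_det (v : Fin n → E) (c : E) : (rk σ v c).det = 1 + c * hb σ v v := by
  rw [rk, ← Matrix.smul_vecMulVec, Matrix.vecMulVec_eq Unit, Matrix.det_one_add_replicateCol_mul_replicateRow, hb,
    dotProduct_smul, smul_eq_mul]

/-- The unitary transvection. -/
def Tv (σ : E →+* E) (v : Fin n → E) (c : E) (hv : hb σ v v = 0) : GL (Fin n) E :=
  ⟨rk σ v c, rk σ v (-c), by rw [rk_mul, hv]; simp [rk], by rw [rk_mul, hv]; simp [rk]⟩

theorem Tv_val {v : Fin n → E} {c : E} (hv : hb σ v v = 0) : ((Tv σ v c hv : G) : M) = rk σ v c := rfl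

theorem Tv_mul {v : Fin n → E} (c d : E) (hv : hb σ v v = 0) : Tv σ v c hv * Tv σ v d hv = Tv σ v (c + d) hv :=
  Units.ext (by simp only [Units.val_mul, Tv_val, rk_mul, hv, mul_zero, add_zero])

theorem Tv_det {v : Fin n → E} {c : E} (hv : hb σ v v = 0) : ((Tv σ v c hv : G) : M).det = 1 := by
  rw [Tv_val, rk_det, hv, mul_zero, add_zero]

theorem Tv_mem (hσ : ∀ x, σ (σ x) = x) {v : Fin n → E} {c : E} (hv : hb σ v v = 0) (hc : c + σ c = 0) :
    Tv σ v c hv ∈ UG σ := by
  rw [mem_UG, Tv_val, ad_rk hσ, rk_mul, hv, mul_zero, add_zero, add_comm, hc]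
  simp [rk]

theorem conj_rk (hσ : ∀ x, σ (σ x) = x) {g : G} (hg : g ∈ UG σ) (v : Fin n → E) (c : E) :
    (g : M) * rk σ v c * ((g⁻¹ : G) : M) = rk σ ((g : M) *ᵥ v) c := by
  rw [rk, mul_add, add_mul, mul_one, ← Units.val_mul, mul_inv_cancel, Units.val_one, rk, Matrix.mul_smul,
    Matrix.smul_mul, Matrix.mul_vecMulVec, Matrix.vecMulVec_mul, inv_of_UG hg, ad, Matrix.vecMul_transpose]
  congr 3
  funext i
  exact (RingHom.map_mulVec σ (g : M) v i).symm

theorem conj_Tv (hσ : ∀ x, σ (σ x) = x) {g : G} (hg : g ∈ UG σ) {v : Fin n → E} {c : E} (hv : hb σ v v = 0)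
    (hv' : hb σ ((g : M) *ᵥ v) ((g : M) *ᵥ v) = 0) : g * Tv σ v c hv * g⁻¹ = Tv σ ((g : M) *ᵥ v) c hv' :=
  Units.ext (by simp only [Units.val_mul, Tv_val, conj_rk hσ hg])

theorem rk_smul (v : Fin n → E) (k c : E) : rk σ (k • v) c = rk σ v (c * k * σ k) := by
  rw [rk, rk]
  ext i l
  simp [vecMulVec_apply]
  ring

variable [Fintype E]

variable {q : ℕ} (hσ : Herm.IsInvol σ) (hσq : ∀ x, σ x = x ^ q) (hq : Nat.card (Herm.fixField σ) = q)
include hσ hσq hq

omit hq in
theorem exists_sl {g : G} (hg : g ∈ UG σ) (hd : (g : M).det = 1) :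
    ∃ A : Cfsg.SU n E q, (SpecialLinearGroup.toGL A.1 : G) = g :=
  ⟨⟨⟨g, hd⟩, (mem_SU_iff hσq _).2 fun u v => by
    rw [← hb_eq_hermB, ← hb_eq_hermB]; exact hb_UG hσ.invol hg u v⟩, Units.ext rfl⟩

omit hq in
theorem mem_of_sl (A : Cfsg.SU n E q) :
    (SpecialLinearGroup.toGL A.1 : G) ∈ UG σ ∧ ((SpecialLinearGroup.toGL A.1 : G) : M).det = 1 :=
  ⟨(UG_iff_GU hσq _).2 ((mem_GU_iff hσq _).2 fun u v => (mem_SU_iff hσq A.1).1 A.2 u v), A.1.2⟩

/-- The transvections generate. -/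
theorem su_le_of_Tv (hn : 3 ≤ n) (h2 : (2 : E) ≠ 0) {K : Subgroup G}
    (h : ∀ v c (hv : hb σ v v = 0), c + σ c = 0 → Tv σ v c hv ∈ K) :
    ∀ g ∈ (UG σ : Subgroup G), (g : M).det = 1 → g ∈ K := by
  classical
  intro g hg hd
  obtain ⟨A, rfl⟩ := exists_sl hσ hσq hg hd
  obtain ⟨f, hf⟩ : ∃ f, f = (SpecialLinearGroup.toGL (n := Fin n) (R := E)).comp (Cfsg.SU n E q).subtype := ⟨_, rfl⟩
  have h32 : ¬ (n = 3 ∧ q = 2) := fun e => h2 (by
    have hcard : Fintype.card E = q ^ 2 := by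
      rw [← hq, ← Herm.card_eq_fix_sq hσ, Nat.card_eq_fintype_card]
    rw [e.2] at hcard
    have h4 : ((Fintype.card E : ℕ) : E) = 0 := Nat.cast_card_eq_zero E
    rw [hcard] at h4
    norm_num at h4
    exact (mul_self_eq_zero.1 (by rw [← h4]; norm_num : (2 : E) * 2 = 0)))
  suffices hle : (⊤ : Subgroup (Cfsg.SU n E q)) ≤ K.comap f by
    have := hle (Subgroup.mem_top A)
    rwa [Subgroup.mem_comap, hf] at this
  rw [← closure_unitaryTransvection hσ hσq hq (by omega) h32, Subgroup.closure_le]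
  rintro B ⟨v, c, hv, hB⟩
  rw [SetLike.mem_coe, Subgroup.mem_comap]
  by_cases hv0 : v = 0
  · have : f B = 1 := Units.ext (by
      rw [hf]
      show ((B.1 : SpecialLinearGroup (Fin n) E) : M) = 1
      rw [hB, hv0]
      simp [Cfsg.unitaryTransvection])
    rw [this]; exact one_mem _
  have happ : ∀ x, ((B.1 : SpecialLinearGroup (Fin n) E) : M) *ᵥ x = x + (c * hb σ v x) • v := fun x => by
    rw [hB, unitaryTransvection_mulVec hσq]; rfl
  have hc : c + σ c = 0 := (isometry_transvection_iff hσ hv0 hv c).1 fun x y => by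
    rw [← hb_eq_hermB v, ← hb_eq_hermB v, ← happ, ← happ]; exact (mem_SU_iff hσq B.1).1 B.2 x y
  have hv' : hb σ v v = 0 := hv
  have : f B = Tv σ v c hv' := Units.ext (Matrix.ext_of_mulVec_single fun i => by
    rw [hf, Tv_val, rk_mulVec]; exact happ _)
  rw [this]
  exact h v c hv hc

omit hσq hq in
theorem exists_aniso_perp' (hn : 3 ≤ n) {w : Fin n → E} (hw : w ≠ 0) : ∃ z, hb σ w z = 0 ∧ hb σ z z ≠ 0 := by
  have hB := hermB_isHerm hσ n
  by_contra hc
  push Not at hc
  have hzero : ∀ u ∈ LinearMap.ker (hermB n σ w), ∀ v ∈ LinearMap.ker (hermB n σ w), hermB n σ u v = 0 := by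
    intro u hu v hv
    by_contra hne
    obtain ⟨z, hz, hzz⟩ := Herm.exists_anisotropic hB _ ⟨u, hu, v, hv, hne⟩
    exact hzz (hc z hz)
  obtain ⟨y, hy⟩ := Herm.exists_pairing hB hw
  have hle : LinearMap.ker (hermB n σ w) ≤ Submodule.span E {w} := fun u hu => by
    refine Submodule.mem_span_singleton.2 ⟨σ (hermB n σ u y), (sub_eq_zero.1 (hB.nondeg _ fun x => ?_)).symm⟩
    have hk : x - hermB n σ w x • y ∈ LinearMap.ker (hermB n σ w) := by
      rw [LinearMap.mem_ker, map_sub, map_smul, hy, smul_eq_mul, mul_one, sub_self]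
    have h1 := hzero u hu _ hk
    simp only [map_sub, map_smul, smul_eq_mul] at h1
    simp only [map_sub, LinearMap.sub_apply, map_smulₛₗ, LinearMap.smul_apply, hσ.invol, smul_eq_mul]
    linear_combination h1
  have h1 := Submodule.finrank_mono hle
  rw [finrank_span_singleton hw] at h1
  have h2 := LinearMap.finrank_range_add_finrank_ker (hermB n σ w)
  have h3 := Submodule.finrank_le (LinearMap.range (hermB n σ w))
  rw [Module.finrank_self] at h3
  rw [Module.finrank_fin_fun] at h2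
  omega

/-- transitivity on vectors of equal norm -/
theorem exists_move (hn : 3 ≤ n) {u w : Fin n → E} (hu : u ≠ 0) (hw : w ≠ 0) (huw : hb σ u u = hb σ w w) :
    ∃ g ∈ (UG σ : Subgroup G), (g : M).det = 1 ∧ (g : M) *ᵥ u = w := by
  classical
  have hB := hermB_isHerm hσ n
  obtain ⟨φ, hφ⟩ : ∃ φ : Submodule.span E {u} →ₗ[E] (Fin n → E), ∀ k (hk : k • u ∈ Submodule.span E {u}), φ ⟨k • u, hk⟩ = k • w :=
    ⟨(LinearMap.toSpanSingleton E _ w).comp (LinearEquiv.toSpanNonzeroSingleton E _ u hu).symm.toLinearMap, fun k hk => by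
      have : (⟨k • u, hk⟩ : Submodule.span E {u}) = LinearEquiv.toSpanNonzeroSingleton E _ u hu k := rfl
      show LinearMap.toSpanSingleton E _ w ((LinearEquiv.toSpanNonzeroSingleton E _ u hu).symm ⟨k • u, hk⟩) = k • w
      rw [this, LinearEquiv.symm_apply_apply]
      rfl⟩
  obtain ⟨g, hg, hgφ⟩ := Herm.witt hB φ (by
    refine (injective_iff_map_eq_zero φ).2 fun x hx => ?_
    obtain ⟨k, hk⟩ := Submodule.mem_span_singleton.1 x.2
    rw [show x = ⟨k • u, hk ▸ x.2⟩ from Subtype.ext hk.symm, hφ] at hx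
    exact Subtype.ext (by rw [← hk, (smul_eq_zero.1 hx).resolve_right hw, zero_smul]; rfl)) fun x x' => by
    obtain ⟨k, hk⟩ := Submodule.mem_span_singleton.1 x.2
    obtain ⟨l, hl⟩ := Submodule.mem_span_singleton.1 x'.2
    rw [show x = ⟨k • u, hk ▸ x.2⟩ from Subtype.ext hk.symm, show x' = ⟨l • u, hl ▸ x'.2⟩ from Subtype.ext hl.symm,
      hφ, hφ]
    simp only [map_smulₛₗ, LinearMap.smul_apply, map_smul, smul_eq_mul, ← hb_eq_hermB, huw]
  obtain ⟨g₀, hg₀⟩ : ∃ g₀ : G, ∀ v, (g₀ : M) *ᵥ v = g v := ⟨(glEquiv (Fin n) E).symm g, fun v => by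
    rw [← glEquiv_apply, MulEquiv.apply_symm_apply]⟩
  have hg₀U : g₀ ∈ UG σ := (UG_iff_GU hσq _).2 ((mem_GU_iff hσq _).2 fun a b => by rw [hg₀, hg₀]; exact hg a b)
  have hg₀u : (g₀ : M) *ᵥ u = w := by
    rw [hg₀]
    have h1 := hgφ ⟨u, Submodule.mem_span_singleton_self u⟩
    have h2 := hφ 1 (by rw [one_smul]; exact Submodule.mem_span_singleton_self u)
    simp only [one_smul] at h2
    rw [h1, h2]
  -- the determinant is corrected by a reflection fixing the image
  obtain ⟨D, hD⟩ : ∃ D, D = (g₀ : M).det := ⟨_, rfl⟩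
  have hDD : D * σ D = 1 := hD ▸ det_norm_GU hσq ((UG_iff_GU hσq _).1 hg₀U)
  obtain ⟨z, hzw, hzz⟩ := exists_aniso_perp' hσ hn hw
  have hN : σ (hb σ z z) = hb σ z z := hb_swap hσ.invol z z
  obtain ⟨c, hc⟩ : ∃ c, c = (σ D - 1) / hb σ z z := ⟨_, rfl⟩
  have hmul : ∀ c d : E, c + d + c * d * hb σ z z = 0 → rk σ z c * rk σ z d = (1 : M) := fun c d e => by
    rw [rk_mul, e]; simp [rk]
  have hcd : σ c + c + σ c * c * hb σ z z = 0 := by
    rw [hc, map_div₀, map_sub, map_one, hN, hσ.invol]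
    field_simp
    linear_combination hDD
  obtain ⟨r, hr⟩ : ∃ r : G, (r : M) = rk σ z c :=
    ⟨⟨rk σ z c, rk σ z (σ c), hmul _ _ (by linear_combination hcd), hmul _ _ hcd⟩, rfl⟩
  have hrU : r ∈ UG σ := by rw [mem_UG, hr, ad_rk hσ.invol]; exact hmul _ _ hcd
  refine ⟨r * g₀, mul_mem hrU hg₀U, ?_, ?_⟩
  · rw [Units.val_mul, Matrix.det_mul, hr, rk_det, ← hD, hc, div_mul_cancel₀ _ hzz, add_sub_cancel]
    rw [mul_comm]; exact hDD
  · rw [Units.val_mul, ← Matrix.mulVec_mulVec, hg₀u, hr, rk_mulVec,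
      show hb σ z w = 0 by rw [← hb_swap hσ.invol, hzw, map_zero]]
    simp

/-- centralisers of the transvections are scalar -/
theorem scalar_of_comm (hn : 3 ≤ n) (h2 : (2 : E) ≠ 0) {l : M}
    (h : ∀ v c (hv : hb σ v v = 0), c + σ c = 0 → (Tv σ v c hv : G) * l = l * (Tv σ v c hv : G)) :
    ∃ c : E, l = c • 1 := by
  have hB := hermB_isHerm hσ n
  obtain ⟨k, hk0, hk⟩ := Herm.exists_skew hσ
  have key : ∀ v, hb σ v v = 0 → ∀ x, hb σ v (l *ᵥ x) • v = hb σ v x • (l *ᵥ v) := fun v hv x => by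
    have e := congrArg (fun m : M => m *ᵥ x) (h v k hv (by rw [hk, add_neg_cancel]))
    simp only [← Matrix.mulVec_mulVec, Tv_val, rk_mulVec, Matrix.mulVec_add, Matrix.mulVec_smul] at e
    have e' := add_left_cancel e
    rw [mul_smul, mul_smul] at e'
    exact smul_right_injective _ hk0 e'
  -- isotropic vectors are eigenvectors
  have eig : ∀ v, hb σ v v = 0 → ∃ a : E, l *ᵥ v = a • v := fun v hv => by
    by_cases hv0 : v = 0
    · exact ⟨0, by simp [hv0]⟩
    obtain ⟨y, hy⟩ := Herm.exists_pairing hB hv0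
    exact ⟨hb σ v (l *ᵥ y), by rw [key v hv y, hb_eq_hermB v y, hy, one_smul]⟩
  obtain ⟨e, he0, hee⟩ := Herm.exists_isotropic hB (by rw [Module.finrank_fin_fun]; omega)
  obtain ⟨f, hff, hef⟩ := Herm.exists_hyp_partner hB he0 hee
  obtain ⟨a, ha⟩ := eig e hee
  have hl : ∀ x, hb σ e (l *ᵥ x) = a * hb σ e x := fun x => by
    have := key e hee x
    rw [ha, smul_smul] at this
    rw [smul_left_injective E he0 this, mul_comm]
  -- pairs that are not perpendicular share the eigenvalue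
  have pair : ∀ u v : Fin n → E, hb σ u u = 0 → hb σ v v = 0 → hb σ u v ≠ 0 → ∀ a : E, l *ᵥ u = a • u → l *ᵥ v = a • v := by
    intro u v hu hv huv a' ha'
    obtain ⟨b, hb'⟩ := eig v hv
    have h1 := key u hu v
    have hlin : hb σ u (b • v) = b * hb σ u v := dotProduct_smul b _ v
    rw [ha', hb', smul_smul, hlin] at h1
    have hu0 : u ≠ 0 := fun e => huv (by rw [e]; simp [hb])
    rw [hb', mul_right_cancel₀ huv ((smul_left_injective E hu0 h1).trans (mul_comm _ _))]
  have all : ∀ v, hb σ v v = 0 → l *ᵥ v = a • v := fun v hv => by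
    by_cases hv0 : v = 0
    · simp [hv0]
    obtain ⟨z, hzz, hze, hzv⟩ := Herm.exists_common hB he0 hee hv0 hv
    exact pair z v hzz hv hzv a (pair e z hee hzz (mt (Herm.eq_zero_comm hB).1 hze) a ha)
  refine ⟨a, Matrix.ext_of_mulVec_single fun i => ?_⟩
  obtain ⟨x, hx⟩ : ∃ x : Fin n → E, x = Pi.single i 1 := ⟨_, rfl⟩
  rw [← hx, Matrix.smul_mulVec, Matrix.one_mulVec]
  have hfe : hermB n σ f e = 1 := by rw [← hB.symm, hef, map_one]
  obtain ⟨y, hy⟩ : ∃ y, y = x - hermB n σ f x • e - hermB n σ e x • f := ⟨_, rfl⟩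
  obtain ⟨d, hd⟩ := Herm.exists_trace hσ (a := -hermB n σ y y) (by rw [map_neg, Herm.fix_self hB])
  have hye : hermB n σ e y = 0 := by simp [hy, hee, hef]
  have hyf : hermB n σ f y = 0 := by simp [hy, hff, hfe]
  have hr : hb σ (f + y + d • e) (f + y + d • e) = 0 := by
    show hermB n σ (f + y + d • e) (f + y + d • e) = 0
    simp [hff, hef, hfe, hye, hyf, (Herm.eq_zero_comm hB).1 hye, (Herm.eq_zero_comm hB).1 hyf, hee]
    linear_combination hd
  have h3 := all _ hr
  simp only [Matrix.mulVec_add, Matrix.mulVec_smul, all f hff, ha] at h3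
  have hly : l *ᵥ y = a • y := by linear_combination (norm := module) h3
  have hx' : x = y + hermB n σ f x • e + hermB n σ e x • f := by rw [hy]; abel
  rw [hx', Matrix.mulVec_add, Matrix.mulVec_add, Matrix.mulVec_smul, Matrix.mulVec_smul, hly, all f hff, ha]
  module

/-- A group of isometries normalised by the special unitary group is central or contains it. -/
theorem le_of_normalised_u (hn : 3 ≤ n) (h2 : (2 : E) ≠ 0) (L : Subgroup G) (hLU : L ≤ UG σ)
    (hnor : ∀ l ∈ L, ∀ s ∈ (UG σ : Subgroup G), (s : M).det = 1 → s * l * s⁻¹ ∈ L) (hl : ∃ l ∈ L, ∀ c : E, (l : M) ≠ c • 1) :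
    ∀ s ∈ (UG σ : Subgroup G), (s : M).det = 1 → s ∈ L := by
  classical
  have hcard : Fintype.card E = q ^ 2 := by rw [← hq, ← Herm.card_eq_fix_sq hσ, Nat.card_eq_fintype_card]
  have hq2 : q ≠ 2 := fun e => h2 (by
    have h4 : ((Fintype.card E : ℕ) : E) = 0 := Nat.cast_card_eq_zero E
    rw [hcard, e] at h4
    norm_num at h4
    exact (mul_self_eq_zero.1 (by rw [← h4]; norm_num : (2 : E) * 2 = 0)))
  haveI := isSimpleGroup_psu hcard n hn (fun e => hq2 e.2)
  obtain ⟨f, hf⟩ : ∃ f, f = (SpecialLinearGroup.toGL (n := Fin n) (R := E)).comp (Cfsg.SU n E q).subtype := ⟨_, rfl⟩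
  have hfinj : Function.Injective f := hf ▸ SpecialLinearGroup.toGL_injective.comp Subtype.val_injective
  have hfU : ∀ A, f A ∈ UG σ ∧ ((f A : G) : M).det = 1 := fun A => hf ▸ mem_of_sl hσ hσq A
  have hnorm : (L.comap f).Normal := ⟨fun A hA B => by
    rw [Subgroup.mem_comap, map_mul, map_mul, map_inv]
    exact hnor _ hA _ (hfU B).1 (hfU B).2⟩
  obtain ⟨π, hπ⟩ : ∃ π, π = QuotientGroup.mk' (Subgroup.center (Cfsg.SU n E q)) := ⟨_, rfl⟩
  rcases (hnorm.map π (hπ ▸ QuotientGroup.mk'_surjective _)).eq_bot_or_eq_top with e | e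
  · exfalso
    have hcen : L.comap f ≤ Subgroup.center (Cfsg.SU n E q) := fun A hA => by
      have h1 := Subgroup.mem_map_of_mem π hA
      rw [e, Subgroup.mem_bot, hπ] at h1
      exact (QuotientGroup.eq_one_iff A).1 h1
    obtain ⟨l, hlL, hlc⟩ := hl
    have hz : ∀ s ∈ (UG σ : Subgroup G), (s : M).det = 1 → ∀ t ∈ (UG σ : Subgroup G), (t : M).det = 1 →
        t * (s * l * s⁻¹ * l⁻¹) = s * l * s⁻¹ * l⁻¹ * t := by
      intro s hs hsd t ht htd
      have hmem : s * l * s⁻¹ * l⁻¹ ∈ L := mul_mem (hnor l hlL s hs hsd) (inv_mem hlL)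
      have hdet : ((s * l * s⁻¹ * l⁻¹ : G) : M).det = 1 := by
        have : Matrix.GeneralLinearGroup.det (s * l * s⁻¹ * l⁻¹) = 1 := by
          rw [map_mul, map_mul, map_mul, map_inv, map_inv, mul_comm (Matrix.GeneralLinearGroup.det s),
            mul_inv_cancel_right, mul_inv_cancel]
        have := congrArg Units.val this
        rwa [Matrix.GeneralLinearGroup.val_det_apply] at this
      obtain ⟨A, hA⟩ := exists_sl hσ hσq (hLU hmem) hdet
      obtain ⟨B, hB⟩ := exists_sl hσ hσq ht htd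
      have e' := congrArg f (Subgroup.mem_center_iff.1 (hcen (x := A) (by rw [Subgroup.mem_comap, hf]; exact hA ▸ hmem)) B)
      rw [map_mul, map_mul, hf] at e'
      show _ = _
      have eA : ((SpecialLinearGroup.toGL (n := Fin n) (R := E)).comp (Cfsg.SU n E q).subtype) A = s * l * s⁻¹ * l⁻¹ := hA
      have eB : ((SpecialLinearGroup.toGL (n := Fin n) (R := E)).comp (Cfsg.SU n E q).subtype) B = t := hB
      rwa [eA, eB] at e'
    refine hlc _ (scalar_of_comm hσ hσq hq hn h2 (l := (l : M)) fun v c hv hc => ?_).choose_spec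
    -- a transvection is a commutator, and the commutator with l is a homomorphism to the centre
    have hT : ∃ s ∈ (UG σ : Subgroup G), (s : M).det = 1 ∧ ∃ t ∈ (UG σ : Subgroup G), (t : M).det = 1 ∧ Tv σ v c hv = ⁅s, t⁆ := by
      have hvB : hermB n σ v v = 0 := hv
      obtain ⟨x, y, hxy⟩ := Herm.tvU_eq_comm (hermB_isHerm hσ n) (by rw [Module.finrank_fin_fun]; exact hn) hvB hc
      obtain ⟨A, rfl⟩ := (suEquiv n hσq).surjective x
      obtain ⟨B, rfl⟩ := (suEquiv n hσq).surjective y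
      refine ⟨f A, (hfU A).1, (hfU A).2, f B, (hfU B).1, (hfU B).2, ?_⟩
      refine Units.ext (Matrix.ext_of_mulVec_single fun i => ?_)
      rw [Tv_val, rk_mulVec]
      refine Eq.trans (Herm.tvU_apply hvB c _).symm ?_
      rw [← hxy, ← map_commutatorElement f]
      have e9 := suEquiv_apply hσq ⁅A, B⁆ (Pi.single i 1 : Fin n → E)
      rw [map_commutatorElement] at e9
      rw [hf]
      exact e9
    obtain ⟨s, hs, hsd, t, ht, htd, eT⟩ := hT
    have es : ∀ s ∈ (UG σ : Subgroup G), (s : M).det = 1 → ∀ t ∈ (UG σ : Subgroup G), (t : M).det = 1 →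
        s * t * l * (s * t)⁻¹ * l⁻¹ = (s * l * s⁻¹ * l⁻¹) * (t * l * t⁻¹ * l⁻¹) := by
      intro s hs hsd t ht htd
      calc s * t * l * (s * t)⁻¹ * l⁻¹ = s * (t * l * t⁻¹ * l⁻¹) * (l * s⁻¹ * l⁻¹) := by group
        _ = t * l * t⁻¹ * l⁻¹ * s * (l * s⁻¹ * l⁻¹) := by rw [hz t ht htd s hs hsd]
        _ = t * l * t⁻¹ * l⁻¹ * (s * l * s⁻¹ * l⁻¹) := by group
        _ = _ := by
          have hk : (t * l * t⁻¹ * l⁻¹) ∈ UG σ := hLU (mul_mem (hnor l hlL t ht htd) (inv_mem hlL))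
          refine (hz s hs hsd _ hk ?_)
          have : Matrix.GeneralLinearGroup.det (t * l * t⁻¹ * l⁻¹) = 1 := by
            rw [map_mul, map_mul, map_mul, map_inv, map_inv, mul_comm (Matrix.GeneralLinearGroup.det t),
              mul_inv_cancel_right, mul_inv_cancel]
          have := congrArg Units.val this
          rwa [Matrix.GeneralLinearGroup.val_det_apply] at this
    have hdm : ∀ {a b : G}, (a : M).det = 1 → (b : M).det = 1 → ((a * b : G) : M).det = 1 := fun e1 e2 => by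
      rw [Units.val_mul, Matrix.det_mul, e1, e2, one_mul]
    have hdi : ∀ {a : G}, (a : M).det = 1 → ((a⁻¹ : G) : M).det = 1 := fun {a} e1 => by
      have := congrArg Matrix.det (congrArg Units.val (mul_inv_cancel a))
      rwa [Units.val_mul, Matrix.det_mul, e1, one_mul, Units.val_one, Matrix.det_one] at this
    have e1 : Tv σ v c hv * l * (Tv σ v c hv)⁻¹ * l⁻¹ = 1 := by
      rw [eT, commutatorElement_def, es _ (mul_mem (mul_mem hs ht) (inv_mem hs)) (hdm (hdm hsd htd) (hdi hsd)) _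
        (inv_mem ht) (hdi htd), es _ (mul_mem hs ht) (hdm hsd htd) _ (inv_mem hs) (hdi hsd), es s hs hsd t ht htd]
      have ei : ∀ s ∈ (UG σ : Subgroup G), (s : M).det = 1 → s⁻¹ * l * s⁻¹⁻¹ * l⁻¹ = (s * l * s⁻¹ * l⁻¹)⁻¹ := fun s hs hsd => by
        refine eq_inv_of_mul_eq_one_left ?_
        rw [← es _ (inv_mem hs) (hdi hsd) s hs hsd, inv_mul_cancel]
        group
      rw [ei s hs hsd, ei t ht htd]
      have hc' : Commute (s * l * s⁻¹ * l⁻¹) (t * l * t⁻¹ * l⁻¹) :=
        hz t ht htd _ (hLU (mul_mem (hnor l hlL s hs hsd) (inv_mem hlL))) (by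
          have : Matrix.GeneralLinearGroup.det (s * l * s⁻¹ * l⁻¹) = 1 := by
            rw [map_mul, map_mul, map_mul, map_inv, map_inv, mul_comm (Matrix.GeneralLinearGroup.det s),
              mul_inv_cancel_right, mul_inv_cancel]
          have := congrArg Units.val this
          rwa [Matrix.GeneralLinearGroup.val_det_apply] at this)
      rw [hc'.eq]
      group
    exact congrArg Units.val (mul_inv_eq_iff_eq_mul.1 (mul_inv_eq_one.1 e1))
  · intro s hs hd
    obtain ⟨A, hA⟩ := exists_sl hσ hσq hs hd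
    have hsc : ∀ z ∈ Subgroup.center (Cfsg.SU n E q), ∃ k : E, ((f z : G) : M) = k • 1 := fun z hz => by
      refine scalar_of_comm hσ hσq hq hn h2 fun v c hv hc => ?_
      obtain ⟨B, hB⟩ := exists_sl hσ hσq (Tv_mem hσ.invol hv hc) (Tv_det hv)
      rw [← hB, ← Units.val_mul, ← Units.val_mul]
      congr 1
      have := congrArg f (Subgroup.mem_center_iff.1 hz B)
      rw [map_mul, map_mul] at this
      rw [hf] at this ⊢
      exact this
    suffices htop : L.comap f = ⊤ by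
      have : A ∈ L.comap f := htop ▸ Subgroup.mem_top A
      rw [Subgroup.mem_comap, hf] at this
      exact hA ▸ this
    rw [eq_top_iff, ← (show commutator (Cfsg.SU n E q) = ⊤ from ?_), commutator_eq_closure, Subgroup.closure_le]
    · rintro _ ⟨u, v, rfl⟩
      have hdec : ∀ u, ∃ m ∈ L.comap f, ∃ w ∈ Subgroup.center (Cfsg.SU n E q), u = m * w := fun u => by
        obtain ⟨m, hm, hmu⟩ : π u ∈ (L.comap f).map π := by rw [e]; trivial
        rw [hπ] at hmu
        exact ⟨m, hm, m⁻¹ * u, QuotientGroup.eq.1 hmu, by group⟩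
      obtain ⟨m, hm, w, hw, rfl⟩ := hdec u
      obtain ⟨k, hk, w', hw', rfl⟩ := hdec v
      have ew : ∀ x, w * x = x * w := fun x => (Subgroup.mem_center_iff.1 hw x).symm
      have ew' : ∀ x, w' * x = x * w' := fun x => (Subgroup.mem_center_iff.1 hw' x).symm
      have : ⁅m * w, k * w'⁆ = m * k * m⁻¹ * k⁻¹ := by
        rw [commutatorElement_def, _root_.mul_inv_rev, _root_.mul_inv_rev]
        calc m * w * (k * w') * (w⁻¹ * m⁻¹) * (w'⁻¹ * k⁻¹) = m * (w * k) * (w' * (w⁻¹ * m⁻¹)) * (w'⁻¹ * k⁻¹) := by group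
          _ = m * (k * w) * ((w⁻¹ * m⁻¹) * w') * (w'⁻¹ * k⁻¹) := by rw [ew k, ew']
          _ = _ := by group
      show ⁅m * w, k * w'⁆ ∈ L.comap f
      rw [this]
      exact mul_mem (mul_mem (mul_mem hm hk) (inv_mem hm)) (inv_mem hk)
    · rw [eq_top_iff, ← closure_unitaryTransvection hσ hσq hq (by omega) (fun e => hq2 e.2), Subgroup.closure_le]
      rintro B ⟨v, c, hv, hB⟩
      obtain ⟨c', hc', hB'⟩ := transvection_mem_cases hσ hσq B hv hB
      obtain ⟨x, y, hxy⟩ := Herm.tvU_eq_comm (hermB_isHerm hσ n) (by rw [Module.finrank_fin_fun]; exact hn) hv hc'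
      obtain ⟨x, rfl⟩ := (suEquiv n hσq).surjective x
      obtain ⟨y, rfl⟩ := (suEquiv n hσq).surjective y
      rw [SetLike.mem_coe, show B = ⁅x, y⁆ from (suEquiv n hσq).injective (Subtype.ext (by
        rw [hB', map_commutatorElement, hxy]))]
      exact Subgroup.commutator_mem_commutator (Subgroup.mem_top _) (Subgroup.mem_top _)

/-- two transvections on a hyperbolic pair, doubly commuted -/
theorem exists_triple_u (hn : 2 ≤ n) (h2 : (2 : E) ≠ 0) :
    ∃ a ∈ (UG σ : Subgroup G), (a : M).det = 1 ∧ ∃ b ∈ (UG σ : Subgroup G), (b : M).det = 1 ∧ ⁅⁅a * a, b * b⁆, a * a⁆ ≠ 1 := by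
  have hB := hermB_isHerm hσ n
  obtain ⟨e, he0, hee⟩ := Herm.exists_isotropic hB (by rw [Module.finrank_fin_fun]; omega)
  obtain ⟨f, hff, hef⟩ := Herm.exists_hyp_partner hB he0 hee
  replace hee : hb σ e e = 0 := hee
  replace hff : hb σ f f = 0 := hff
  replace hef : hb σ e f = 1 := hef
  obtain ⟨k, hk0, hk⟩ := Herm.exists_skew hσ
  have hk' : k + σ k = 0 := by rw [hk, add_neg_cancel]
  refine ⟨Tv σ e k hee, Tv_mem hσ.invol hee hk', Tv_det _, Tv σ f k hff, Tv_mem hσ.invol hff hk', Tv_det _, ?_⟩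
  rw [Tv_mul, Tv_mul]
  obtain ⟨u, hu⟩ : ∃ u, u = Tv σ e (k + k) hee := ⟨_, rfl⟩
  obtain ⟨w, hw⟩ : ∃ w, w = Tv σ f (k + k) hff := ⟨_, rfl⟩
  rw [← hu, ← hw]
  intro hT
  have hcomm : Commute ⁅u, w⁆ u := commutatorElement_eq_one_iff_mul_comm.1 hT
  have hA : Commute (w * u⁻¹ * w⁻¹) u := by
    have h1 : Commute (u⁻¹ * ⁅u, w⁆) u := (Commute.inv_left (Commute.refl u)).mul_left hcomm
    rwa [show u⁻¹ * ⁅u, w⁆ = w * u⁻¹ * w⁻¹ by rw [commutatorElement_def]; group] at h1
  have hA' : Commute (w * u * w⁻¹) u := by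
    have := hA.inv_left
    rwa [show (w * u⁻¹ * w⁻¹)⁻¹ = w * u * w⁻¹ by group] at this
  obtain ⟨e', he'⟩ : ∃ e', e' = (w : M) *ᵥ e := ⟨_, rfl⟩
  have hwU : w ∈ UG σ := hw ▸ Tv_mem hσ.invol hff (by rw [map_add]; linear_combination 2 * hk')
  have he'e : hb σ e' e' = 0 := by rw [he', hb_UG hσ.invol hwU, hee]
  have hconj : w * u * w⁻¹ = Tv σ e' (k + k) he'e := by
    subst he'
    rw [hu]; exact conj_Tv hσ.invol hwU hee he'e
  have hfe : hb σ f e = 1 := by rw [← hb_swap hσ.invol, hef, map_one]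
  have he'' : e' = e + ((k + k) * 1) • f := by rw [he', hw, Tv_val, rk_mulVec, hfe]
  have hee' : hb σ e e' = k + k := by
    have a1 : hb σ e (e + ((k + k) * 1) • f) = hb σ e e + ((k + k) * 1) * hb σ e f := by
      simp only [hb, dotProduct_add, dotProduct_smul, smul_eq_mul]
    rw [he'', a1, hee, hef, zero_add, mul_one, mul_one]
  have hkk : k + k ≠ 0 := by rw [← two_mul]; exact mul_ne_zero h2 hk0
  have e1 : (((w * u * w⁻¹) * u : G) : M) *ᵥ e = ((u * (w * u * w⁻¹) : G) : M) *ᵥ e := by rw [hA'.eq]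
  rw [hconj, hu] at e1
  simp only [Units.val_mul, ← Matrix.mulVec_mulVec, Tv_val, rk_mulVec, Matrix.mulVec_add, Matrix.mulVec_smul, hee,
    hee', mul_zero, zero_smul, add_zero] at e1
  have he'1 : hb σ e' e = -(k + k) := by
    rw [← hb_swap hσ.invol, hee', map_add, hk]; ring
  rw [he'1, mul_smul, mul_smul] at e1
  have e2 := add_left_cancel e1
  rw [smul_add] at e2
  have e3 : ((k + k) * (-(k + k))) • ((k + k) * (k + k)) • e = (0 : Fin n → E) := by
    linear_combination (norm := module) -e2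
  rw [smul_smul, smul_eq_zero] at e3
  rcases e3 with e3 | e3
  · exact (mul_ne_zero (mul_ne_zero hkk (neg_ne_zero.2 hkk)) (mul_ne_zero hkk hkk)) e3
  · exact he0 e3

end Cfsg.Agent.ClassicalMax.SympType
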