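import Cfsg.Agent.ClassicalMax.SympType.SLStep
import Cfsg.Agent.ClassicalMax.SympType.UGroup

/-!
The overgroups of the normaliser of a two-group of symplectic type in the special unitary group: from half the
dimension to the whole.
-/

set_option autoImplicit false
set_option linter.unusedSectionVars false

namespace Cfsg.Agent.ClassicalMax.SympType

open Matrix Cfsg.Agent.Classical
open scoped commutatorElement

section General

variable {ι κ μ : Type*} [Fintype ι] [DecidableEq ι] [Fintype κ] [DecidableEq κ] [Fintype μ] [DecidableEq μ]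
  {E : Type*} [Field E] [Finite E] {R K : Subgroup (GL ι E)}

local notation "G" => GL ι E
local notation "M" => Matrix ι ι E

/-- The property is carried by the normalising elements. -/
theorem Small.conj {x g : G} (hsm : Small R K x) (hg : g ∈ K) (hn : ∀ r ∈ R, g * r * g⁻¹ ∈ R) :
    Small R K (g * x * g⁻¹) := by
  intro a ha hax u hu hux
  have cx : ∀ {z : G}, z * (g * x * g⁻¹) = g * x * g⁻¹ * z → g⁻¹ * z * g * x = x * (g⁻¹ * z * g) := fun {z} e => by
    calc g⁻¹ * z * g * x = g⁻¹ * (z * (g * x * g⁻¹)) * g := by group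
      _ = g⁻¹ * (g * x * g⁻¹ * z) * g := by rw [e]
      _ = _ := by group
  obtain ⟨r, hr, e⟩ := hsm _ (mul_mem (mul_mem (inv_mem hg) ha) hg) (cx hax) _ (inv_of_norm hn u hu) (cx hux)
  refine ⟨g * r * g⁻¹, hn r hr, ?_⟩
  have hc : ∀ m : G, (1 + ((g * x * g⁻¹ : G) : M)) * ((g * m * g⁻¹ : G) : M) =
      (g : M) * ((1 + (x : M)) * (m : M)) * ((g⁻¹ : G) : M) := fun m => by
    rw [add_mul, one_mul, add_mul, one_mul, mul_add, add_mul, ← Units.val_mul,
      show g * x * g⁻¹ * (g * m * g⁻¹) = g * (x * m) * g⁻¹ by group]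
    simp only [Units.val_mul]
  rw [show a * u * a⁻¹ = g * (g⁻¹ * a * g * (g⁻¹ * u * g) * (g⁻¹ * a * g)⁻¹) * g⁻¹ by group, hc, hc, e]

/-- Involutions are carried to one another by lifts. -/
theorem PS.small_all (h : PS R) (hl : Lifts R K) {x : G} (hx : x ∈ R) (hxx : x * x = 1) (hx1 : pr x ≠ 1)
    (hsm : Small R K x) : ∀ w ∈ R, w * w = 1 → pr w ≠ 1 → Small R K w := by
  have step : ∀ {x w : G}, x ∈ R → x * x = 1 → w ∈ R → w * w = 1 → x * w = -(w * x) → Small R K x →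
      Small R K w := by
    intro x w hx hxx hw hww hxw hs
    have ha : w * x ∈ R := mul_mem hw hx
    have ha2 : w * x * (w * x) = -1 := by
      rw [mul_assoc, ← mul_assoc x w x, hxw, neg_mul, mul_assoc w x x, hxx, mul_one, mul_neg, hww]
    obtain ⟨T, hT⟩ := h.exists_unit ha2
    have hax : w * x * x = -(x * (w * x)) := by
      rw [← mul_assoc x w x, hxw, neg_mul, neg_neg]
    have e := (h.lift_conj hx ha ha2 hT).2 hax
    rw [mul_assoc w x x, hxx, mul_one] at e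
    rw [← e]
    exact hs.conj (hl _ ha ha2 T hT) fun r hr => h.lift_normalizes ha ha2 hT hr
  intro w hw hww hw1
  obtain ⟨z₀, hz₀, hxz₀, hwz₀⟩ : ∃ z ∈ R, x * z = -(z * x) ∧ w * z = -(z * w) := by
    obtain ⟨z1, hz1, e1⟩ := h.exists_anti hx hx1
    rcases h.comm w hw z1 hz1 with c1 | c1
    swap
    · exact ⟨z1, hz1, e1, c1⟩
    obtain ⟨z2, hz2, e2⟩ := h.exists_anti hw hw1
    rcases h.comm x hx z2 hz2 with c2 | c2
    swap
    · exact ⟨z2, hz2, c2, e2⟩
    refine ⟨z1 * z2, mul_mem hz1 hz2, ?_, ?_⟩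
    · rw [← mul_assoc, e1, neg_mul, mul_assoc z1 x z2, c2, ← mul_assoc]
    · rw [← mul_assoc, c1, mul_assoc z1 w z2, e2, mul_neg, ← mul_assoc]
  obtain ⟨z, hz, hzz, hze, -⟩ := h.invol hz₀ (h.pr_anti_ne_one (show z₀ * x = -(x * z₀) by rw [hxz₀, neg_neg]))
  have exz : x * z = -(z * x) := h.anti_of_pr hze hxz₀
  have ewz : z * w = -(w * z) := by rw [h.anti_of_pr hze hwz₀, neg_neg]
  exact step hz hzz hw hww ewz (step hx hxx hz hzz exz hsm)

namespace Chart

variable {x : GL ι E} (ch : Chart R x κ) (h : PS R)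

include h in
/-- squares of the corner extensions are realised -/
theorem corner_sq (hnk : ¬ ch.Kernel h K) (hyK : ch.y ∈ K) {w : G} (hwK : w ∈ K)
    (hww : w * w = 1) (hwx : w * x = x * w) {e : M} (eb : Emb e μ) (he : ez x * ez w = e) (s : GL μ E)
    (hs : ∀ hc, ch.em.res ⟨eb.lift s, hc⟩ ∈ ch.em.restrict K) :
    ∃ g ∈ K, g * x = x * g ∧ g * w = w * g ∧ ez x * (g : M) = ez x * ((eb.lift (s * s) : G) : M) := by
  have hxx := ez_idem h.two ch.sq
  have e1 : ez x * e = e := by rw [← he, ← Matrix.mul_assoc, hxx]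
  have e2 : e * ez x = e := by rw [← he, ez_comm hwx.symm, Matrix.mul_assoc, hxx]
  obtain ⟨g, hg, hge, hgv⟩ := ch.em.mem_restrict.1 (hs (eb.lift_comm e1 e2 s))
  obtain ⟨hag, hcase⟩ := ch.corner_key h hnk hyK hwK hww hwx eb he s hg hge hgv
  obtain ⟨hgx, -, -⟩ := mem_agree.1 hag
  have hgx' : g * x = x * g := (comm_ez_iff h.two).1 hgx
  obtain ⟨i1, -, i3⟩ := mem_agree.1 (mul_mem hag hag)
  refine ⟨g * g, mul_mem hg hg, (comm_ez_iff h.two).1 i1, mul_inv_eq_iff_eq_mul.1 ?_, by rw [map_mul]; exact i3⟩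
  rw [show g * g * w * (g * g)⁻¹ = g * (g * w * g⁻¹) * g⁻¹ by group]
  rcases hcase with e | e
  · rw [e, e]
  · rw [e, ← mul_assoc g x, hgx', show x * g * w * g⁻¹ = x * (g * w * g⁻¹) by simp only [mul_assoc], e, ← mul_assoc,
      ch.sq, one_mul]

end Chart

end General

variable {n : ℕ} {E : Type*} [Field E] [Fintype E] {σ : E →+* E}

local notation "G" => GL (Fin n) E
local notation "M" => Matrix (Fin n) (Fin n) E

/-- The dichotomy for overgroups of the normaliser within the isometries. -/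
def UDichotomy (σ : E →+* E) (d : ℕ) : Prop :=
  ∀ R : Subgroup (GL (Fin d) E), PSU σ R → ∀ K : Subgroup (GL (Fin d) E), K ≤ UG σ →
    (∀ g ∈ (UG σ : Subgroup (GL (Fin d) E)), (g : Matrix (Fin d) (Fin d) E).det = 1 →
      (∀ r ∈ R, g * r * g⁻¹ ∈ R) → g ∈ K) →
    (∀ g ∈ K, ∀ r ∈ R, g * r * g⁻¹ ∈ R) ∨
      ∀ g ∈ (UG σ : Subgroup (GL (Fin d) E)), (g : Matrix (Fin d) (Fin d) E).det = 1 → g ∈ K

/-- The group induces the special unitary group on the fixed space. -/
def UBig {R : Subgroup G} {x : G} {d : ℕ} (σ : E →+* E) (ch : Chart R x (Fin d)) (K : Subgroup G) : Prop :=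
  ∀ s ∈ (UG σ : Subgroup (GL (Fin d) E)), (s : Matrix (Fin d) (Fin d) E).det = 1 → s ∈ ch.em.restrict K

variable {d q : ℕ} {R K : Subgroup (GL (Fin n) E)} (hσq : ∀ x, σ x = x ^ q) (hq : Nat.card (Herm.fixField σ) = q)

include hσq hq in
/-- Everything on one eigenspace with a kernel gives the special unitary group. -/
theorem ufinish (h : PSU σ R) {x : G} (ch : Chart R x (Fin d)) (hu : ch.em.IsU σ) (hbig : UBig σ ch K)
    (hker : ch.Kernel h.toPS K) (hyK : ch.y ∈ K) (hl : Lifts R K)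
    (hKU : ∀ g ∈ K, ∃ c : Eˣ, sc c * g ∈ UG σ) (hd : 3 ≤ d) (hnd : n = 2 * d) :
    ∀ g ∈ (UG σ : Subgroup G), (g : M).det = 1 → g ∈ K := by
  classical
  have hσ := h.invol
  have h2 := h.two
  haveI := h.toPS.nonempty
  haveI : Nonempty (Fin d) := ⟨⟨0, by omega⟩⟩
  have hu' : ad σ ch.em.inc = ch.em.proj := hu.symm
  obtain ⟨j, hj⟩ := h.fourth
  have hσj := h.jconj j hj
  have hj0 : j ≠ 0 := fun e => by simp [e] at hj
  obtain ⟨a, ha, haK⟩ := hker
  -- the kernel consists of isometries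
  have hLU : ∀ l : GL (Fin d) E, ch.δ h.toPS l 1 ∈ K → l ∈ UG σ := by
    intro l hlK
    obtain ⟨c, hc⟩ := hKU _ hlK
    have hcv : ∀ b : GL (Fin d) E, sc c * ch.δ h.toPS b 1 = ch.δ h.toPS (sc c * b) (sc c) := fun b => by
      have : (sc c : G) = ch.δ h.toPS (sc c) (sc c) := by
        refine ch.eq_δ h.toPS (sc_comm c x) ?_ ?_
        · rw [sc_val, ch.em.val_smul, ch.em.val_one, sc_val]
        · rw [sc_val, Matrix.mul_smul, Matrix.mul_one, Matrix.smul_mul, ch.yy, ch.em.val_smul, ch.em.val_one, sc_val]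
      rw [this, ch.δ_mul, mul_one]
    rw [hcv] at hc
    have h1 := Chart.fst_UG h hu hc
    have h3 : (sc c : GL (Fin d) E) ∈ UG σ := by
      refine Chart.fst_UG h hu (b := sc c * l) ?_
      rw [← ch.y_δ h.toPS]
      exact mul_mem (mul_mem (h.unit _ ch.ymem ch.ysq) hc) (h.unit _ ch.ymem ch.ysq)
    have := mul_mem (inv_mem h3) h1
    rwa [inv_mul_cancel_left] at this
  obtain ⟨L, hL⟩ : ∃ L : Subgroup (GL (Fin d) E), ∀ a, a ∈ L ↔ ch.δ h.toPS a 1 ∈ K :=
    ⟨K.comap (MonoidHom.mk' (fun a => ch.δ h.toPS a 1) fun a b => by rw [ch.δ_mul, one_mul]), fun a => Iff.rfl⟩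
  have hA : ∀ s ∈ (UG σ : Subgroup (GL (Fin d) E)), (s : Matrix (Fin d) (Fin d) E).det = 1 →
      ch.δ h.toPS s 1 ∈ K := by
    intro s hs hsd
    rw [← hL]
    refine le_of_normalised_u hσ hσq hq hd h2 L (fun l hl' => hLU l ((hL l).1 hl')) (fun l hl' t ht htd => ?_)
      ⟨a, (hL a).2 haK, ha⟩ s hs hsd
    rw [hL] at hl' ⊢
    obtain ⟨g, hg, hge, hgv⟩ := ch.em.mem_restrict.1 (hbig t ht htd)
    have hgx : g * x = x * g := (comm_ez_iff h2).1 hge
    have hc : ch.y * g * ch.y * x = x * (ch.y * g * ch.y) := by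
      have a1 : ch.y * x = -(x * ch.y) := by rw [ch.anti, neg_neg]
      calc ch.y * g * ch.y * x = ch.y * g * (ch.y * x) := by simp only [mul_assoc]
        _ = -(ch.y * (g * x) * ch.y) := by rw [a1, mul_neg]; simp only [mul_assoc]
        _ = -(ch.y * x * (g * ch.y)) := by rw [hgx]; simp only [mul_assoc]
        _ = x * (ch.y * g * ch.y) := by rw [a1, neg_mul, neg_neg]; simp only [mul_assoc]
    have e := ch.eq_δ h.toPS hgx hgv (b := ch.em.res ⟨_, (comm_ez_iff h2).2 hc⟩)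
      (by rw [Emb.res_val, Units.val_mul, Units.val_mul])
    have := mul_mem (mul_mem hg hl') (inv_mem hg)
    rwa [e, ch.δ_inv, ch.δ_mul, ch.δ_mul, mul_one, mul_inv_cancel] at this
  have hB : ∀ s ∈ (UG σ : Subgroup (GL (Fin d) E)), (s : Matrix (Fin d) (Fin d) E).det = 1 →
      ch.δ h.toPS 1 s ∈ K := fun s hs hsd => by
    rw [← ch.y_δ h.toPS]; exact mul_mem (mul_mem hyK (hA s hs hsd)) hyK
  -- vectors in both eigenspaces
  obtain ⟨vec, hvec⟩ : ∃ vec : (Fin d → E) → (Fin d → E) → Fin n → E,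
      ∀ a b, vec a b = ch.em.inc *ᵥ a + (ch.y : M) *ᵥ (ch.em.inc *ᵥ b) := ⟨_, fun _ _ => rfl⟩
  have e0 := ch.proj_y_inc h.toPS
  have hP1 : ∀ a, ch.em.proj *ᵥ (ch.em.inc *ᵥ a) = a := fun a => by
    rw [Matrix.mulVec_mulVec, ch.em.pi, Matrix.one_mulVec]
  have hP0 : ∀ a, ch.em.proj *ᵥ ((ch.y : M) *ᵥ (ch.em.inc *ᵥ a)) = 0 := fun a => by
    rw [Matrix.mulVec_mulVec, Matrix.mulVec_mulVec, e0, Matrix.zero_mulVec]
  have hyy : ∀ v : Fin n → E, (ch.y : M) *ᵥ ((ch.y : M) *ᵥ v) = v := fun v => by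
    rw [Matrix.mulVec_mulVec, ch.yy, Matrix.one_mulVec]
  have hnorm : ∀ a b, hb σ (vec a b) (vec a b) = hb σ a a + hb σ b b := by
    intro a b
    have add_l : ∀ (p q r : Fin n → E), hb σ (p + q) r = hb σ p r + hb σ q r := fun p q r => by
      simp only [hb, ← add_dotProduct]
      congr 1; funext i; simp
    have add_r : ∀ (p q r : Fin n → E), hb σ p (q + r) = hb σ p q + hb σ p r := fun p q r => dotProduct_add _ _ _
    have hinc : ∀ p r, hb σ (ch.em.inc *ᵥ p) r = hb σ p (ch.em.proj *ᵥ r) := fun p r => by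
      rw [hb_mulVec hσ.invol, hu']
    have hy : ∀ p r : Fin n → E, hb σ ((ch.y : M) *ᵥ p) r = hb σ p ((ch.y : M) *ᵥ r) := fun p r => by
      rw [hb_mulVec hσ.invol, ch.y_self h]
    simp only [hvec, add_l, add_r, hinc, hy, hyy, hP1, hP0]
    simp [hb]
  have hsplit : ∀ v, ∃ a b, v = vec a b := fun v => ⟨ch.em.proj *ᵥ v, ch.em.proj *ᵥ ((ch.y : M) *ᵥ v), by
    have e1 := congrArg (fun m : M => m *ᵥ v) (ch.Q_Q' h.toPS)
    simp only [Chart.Q, Chart.Q', Matrix.fromCols_mul_fromRows, Matrix.one_mulVec, Matrix.add_mulVec,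
      ← Matrix.mulVec_mulVec] at e1
    rw [hvec]; exact e1.symm⟩
  have hδv : ∀ s t a b, ((ch.δ h.toPS s t : G) : M) *ᵥ vec a b =
      vec ((s : Matrix (Fin d) (Fin d) E) *ᵥ a) ((t : Matrix (Fin d) (Fin d) E) *ᵥ b) := by
    intro s t a b
    simp only [ch.δ_val h.toPS, hvec, Matrix.add_mulVec, Matrix.mulVec_add, ← Matrix.mulVec_mulVec, hyy, hP1, hP0,
      Matrix.mulVec_zero, add_zero, zero_add]
  -- the vectors whose transvections are in the group
  obtain ⟨P, hP⟩ : ∃ P : (Fin n → E) → Prop, ∀ v,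
      P v ↔ ∀ c (hv : hb σ v v = 0), c + σ c = 0 → Tv σ v c hv ∈ K := ⟨_, fun _ => Iff.rfl⟩
  have P_smul : ∀ (k : E) v, k ≠ 0 → hb σ v v = 0 → P v → P (k • v) := by
    intro k v hk hv hPv
    rw [hP] at hPv ⊢
    intro c hv' hc
    have e : Tv σ (k • v) c hv' = Tv σ v (c * k * σ k) hv := Units.ext (by rw [Tv_val, Tv_val, rk_smul])
    rw [e]
    exact hPv _ hv (by rw [map_mul, map_mul, hσ.invol]; linear_combination (k * σ k) * hc)
  have P_mul : ∀ g ∈ K, g ∈ (UG σ : Subgroup G) → ∀ v, hb σ v v = 0 → P v → P ((g : M) *ᵥ v) := by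
    intro g hgK hgU v hv hPv
    rw [hP] at hPv ⊢
    intro c hv' hc
    rw [← conj_Tv hσ.invol hgU hv hv']
    exact mul_mem (mul_mem hgK (hPv c hv hc)) (inv_mem hgK)
  have hiso0 : ∀ a b, hb σ a a = 0 → hb σ b b = 0 → hb σ (vec a b) (vec a b) = 0 := fun a b e1 e2 => by
    rw [hnorm, e1, e2, add_zero]
  have P_one : ∀ a, hb σ a a = 0 → P (vec a 0) := by
    intro a haa
    rw [hP]
    intro c hv hc
    have e : Tv σ (vec a 0) c hv = ch.δ h.toPS (Tv σ a c haa) 1 := by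
      refine Units.ext (Matrix.ext_of_mulVec_single fun i => ?_)
      obtain ⟨p, r, hpr⟩ := hsplit (Pi.single i 1)
      rw [hpr, hδv, Units.val_one, Matrix.one_mulVec, Tv_val, Tv_val, rk_mulVec, rk_mulVec]
      have : hb σ (vec a 0) (vec p r) = hb σ a p := by
        rw [hvec, hvec, Matrix.mulVec_zero, Matrix.mulVec_zero, add_zero, hb_mulVec hσ.invol, hu', Matrix.mulVec_add,
          hP1, hP0, add_zero]
      rw [this, hvec, hvec, hvec, Matrix.mulVec_zero, Matrix.mulVec_zero, add_zero, Matrix.mulVec_add,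
        Matrix.mulVec_smul]
      abel
    rw [e]
    exact hA _ (Tv_mem hσ.invol haa hc) (Tv_det _)
  have P_move : ∀ a b a' b', a ≠ 0 → b ≠ 0 → a' ≠ 0 → b' ≠ 0 → hb σ a a + hb σ b b = 0 → hb σ a a = hb σ a' a' →
      hb σ b b = hb σ b' b' → P (vec a b) → P (vec a' b') := by
    intro a b a' b' ha0 hb0 ha'0 hb'0 hiso ea eb hPv
    obtain ⟨s, hs, hsd, hsa⟩ := exists_move hσ hσq hq hd ha0 ha'0 ea
    obtain ⟨t, ht, htd, htb⟩ := exists_move hσ hσq hq hd hb0 hb'0 eb
    have hK1 : ch.δ h.toPS s t ∈ K := by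
      have := mul_mem (hA s hs hsd) (hB t ht htd)
      rwa [ch.δ_mul, mul_one, one_mul] at this
    have := P_mul _ hK1 (Chart.δ_UG h hu hs ht) _ (by rw [hnorm, hiso]) hPv
    rwa [hδv, hsa, htb] at this
  obtain ⟨T, hT⟩ : ∃ T : G, (T : M) = 1 + j • (ch.y : M) := by
    obtain ⟨T, hT⟩ := h.toPS.exists_unit (a := sc (Units.mk0 j hj0) * ch.y) (by
      rw [mul_assoc, ← mul_assoc ch.y, ← sc_comm, mul_assoc (sc _) ch.y, ch.ysq, mul_one, sc_mul,
        show Units.mk0 j hj0 * Units.mk0 j hj0 = -1 from Units.ext hj, sc_neg_one])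
    exact ⟨T, by rw [hT, Units.val_mul, sc_val, Units.val_mk0, Matrix.smul_mul, Matrix.one_mul]⟩
  have hTK : T ∈ K := by
    refine hl (sc (Units.mk0 j hj0) * ch.y) (mul_mem (h.scal _) ch.ymem) ?_ T ?_
    · rw [mul_assoc, ← mul_assoc ch.y, ← sc_comm, mul_assoc (sc _) ch.y, ch.ysq, mul_one, sc_mul,
        show Units.mk0 j hj0 * Units.mk0 j hj0 = -1 from Units.ext hj, sc_neg_one]
    · rw [hT, Units.val_mul, sc_val, Units.val_mk0, Matrix.smul_mul, Matrix.one_mul]
  have hTT : ad σ (T : M) * T = (2 : E) • 1 := by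
    rw [hT, ad_add, ad_one, ad_smul, ch.y_self h, hσj, add_mul, mul_add, mul_add, one_mul, mul_one, one_mul,
      smul_mul_smul_comm, ch.yy, neg_mul, hj, neg_neg, one_smul, neg_smul, two_smul]
    abel
  have hTv : ∀ a b, (T : M) *ᵥ vec a b = vec (a + j • b) (b + j • a) := fun a b => by
    rw [hT, Matrix.add_mulVec, Matrix.one_mulVec, Matrix.smul_mulVec, hvec, hvec, Matrix.mulVec_add, hyy]
    simp only [Matrix.mulVec_add, Matrix.mulVec_smul, smul_add]
    abel
  obtain ⟨c₀, hc₀⟩ := Herm.exists_norm hσ (a := (2 : E)⁻¹) (by rw [map_inv₀, map_ofNat])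
  have hc0 : c₀ ≠ 0 := fun e => inv_ne_zero h2 (by rw [← hc₀, e, zero_mul])
  -- the rotation moves the transvections about
  have P_T : ∀ a b, hb σ (vec a b) (vec a b) = 0 → P (vec a b) → P (vec (a + j • b) (b + j • a)) := by
    intro a b hv hPv
    rw [hP]
    intro c hv' hc
    rw [hP] at hPv
    have hU : sc (Units.mk0 c₀ hc0) * T ∈ (UG σ : Subgroup G) := by
      rw [mem_UG, Units.val_mul, sc_val, Units.val_mk0, Matrix.smul_mul, Matrix.one_mul, ad_smul, smul_mul_smul_comm,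
        hTT, smul_smul, show σ c₀ * c₀ * 2 = 1 by rw [mul_comm (σ c₀), hc₀, inv_mul_cancel₀ h2], one_smul]
    have e0 : ((sc (Units.mk0 c₀ hc0) * T : G) : M) *ᵥ vec a b = c₀ • vec (a + j • b) (b + j • a) := by
      rw [Units.val_mul, sc_val, Units.val_mk0, Matrix.smul_mul, Matrix.one_mul, Matrix.smul_mulVec, hTv]
    obtain ⟨c', hc'⟩ : ∃ c', c' = c * 2 := ⟨_, rfl⟩
    have hc's : c' + σ c' = 0 := by rw [hc', map_mul, map_ofNat]; linear_combination (2 : E) * hc
    have hv1 : hb σ (((sc (Units.mk0 c₀ hc0) * T : G) : M) *ᵥ vec a b)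
        (((sc (Units.mk0 c₀ hc0) * T : G) : M) *ᵥ vec a b) = 0 := by rw [hb_UG hσ.invol hU, hv]
    have key : Tv σ (vec (a + j • b) (b + j • a)) c hv' = T * Tv σ (vec a b) c' hv * T⁻¹ := by
      have h1 := conj_Tv hσ.invol hU (c := c') hv hv1
      rw [show sc (Units.mk0 c₀ hc0) * T * Tv σ (vec a b) c' hv * (sc (Units.mk0 c₀ hc0) * T)⁻¹ =
        sc (Units.mk0 c₀ hc0) * (T * Tv σ (vec a b) c' hv * T⁻¹) * (sc (Units.mk0 c₀ hc0))⁻¹ by group, sc_conj] at h1
      rw [h1]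
      refine Units.ext ?_
      rw [Tv_val, Tv_val, e0, rk_smul, hc']
      congr 1
      rw [show c * 2 * c₀ * σ c₀ = c * (2 * (c₀ * σ c₀)) by ring, hc₀, mul_inv_cancel₀ h2, mul_one]
    rw [key]
    exact mul_mem (mul_mem hTK (hPv c' hv hc's)) (inv_mem hTK)
  obtain ⟨e, he0, hee⟩ := Herm.exists_isotropic (hermB_isHerm hσ d) (by rw [Module.finrank_fin_fun]; omega)
  obtain ⟨f, hff, hef⟩ := Herm.exists_hyp_partner (hermB_isHerm hσ d) he0 hee
  replace hee : hb σ e e = 0 := hee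
  replace hff : hb σ f f = 0 := hff
  replace hef : hb σ e f = 1 := hef
  have hfe : hb σ f e = 1 := by rw [← hb_swap hσ.invol, hef, map_one]
  have hsm : ∀ (k : E) (p r : Fin d → E), hb σ (k • p) r = σ k * hb σ p r ∧ hb σ p (k • r) = k * hb σ p r :=
    fun k p r => ⟨by
      simp only [hb]
      rw [show ⇑σ ∘ (k • p) = σ k • (⇑σ ∘ p) from funext fun i => by simp, smul_dotProduct, smul_eq_mul],
      dotProduct_smul k _ r⟩
  have hjj : σ j * j = 1 := by rw [hσj, neg_mul, hj, neg_neg]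
  -- pairs of isotropic vectors
  have Piso : ∀ a b, hb σ a a = 0 → hb σ b b = 0 → P (vec a b) := by
    intro a b haa hbb
    have h1 := P_T e 0 (hiso0 _ _ hee (by simp [hb])) (P_one e hee)
    rw [smul_zero, add_zero, zero_add] at h1
    by_cases hb0 : b = 0
    · subst hb0; exact P_one a haa
    by_cases ha0 : a = 0
    · subst ha0
      have := P_mul ch.y hyK (h.unit _ ch.ymem ch.ysq) _ (hiso0 b 0 hbb (by simp [hb])) (P_one b hbb)
      rw [hvec, Matrix.mulVec_zero, Matrix.mulVec_zero, add_zero] at this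
      rwa [hvec, Matrix.mulVec_zero, zero_add]
    have hje : hb σ (j • e) (j • e) = 0 := by rw [(hsm _ _ _).1, (hsm _ _ _).2, hee, mul_zero, mul_zero]
    exact P_move e (j • e) a b he0 (smul_ne_zero hj0 he0) ha0 hb0 (by rw [hje, hee, add_zero])
      (by rw [hee, haa]) (by rw [hje, hbb]) h1
  have hall : ∀ v, hb σ v v = 0 → P v := by
    intro v hv
    obtain ⟨a, b, rfl⟩ := hsplit v
    rw [hnorm] at hv
    by_cases haa : hb σ a a = 0
    · exact Piso a b haa (by rwa [haa, zero_add] at hv)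
    obtain ⟨t, ht⟩ : ∃ t : E, hb σ a a = j * (t - σ t) := by
      have hN := hb_swap hσ.invol a a
      obtain ⟨μ, hμ⟩ := Herm.exists_antitrace hσ (k := j * hb σ a a) (by rw [map_mul, hσj, hN, neg_mul])
      refine ⟨μ, ?_⟩
      linear_combination j * hμ + hb σ a a * hj
    obtain ⟨w, hw⟩ : ∃ w : Fin d → E, w = t • f := ⟨_, rfl⟩
    have hew : hb σ e w = t := by rw [hw, (hsm _ _ _).2, hef, mul_one]
    have hwe : hb σ w e = σ t := by rw [hw, (hsm _ _ _).1, hfe, mul_one]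
    have hww : hb σ w w = 0 := by rw [hw, (hsm _ _ _).1, (hsm _ _ _).2, hff, mul_zero, mul_zero]
    have nrm : ∀ p r : Fin d → E, hb σ (p + j • r) (p + j • r) =
        hb σ p p + j * hb σ p r + σ j * hb σ r p + hb σ r r := fun p r => by
      have add_l : hb σ (p + j • r) (p + j • r) = hb σ p (p + j • r) + hb σ (j • r) (p + j • r) := by
        simp only [hb, ← add_dotProduct]
        congr 1; funext i; simp
      rw [add_l, (hsm _ _ _).1, show hb σ p (p + j • r) = hb σ p p + hb σ p (j • r) from dotProduct_add _ _ _,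
        show hb σ r (p + j • r) = hb σ r p + hb σ r (j • r) from dotProduct_add _ _ _, (hsm _ _ _).2, (hsm _ _ _).2]
      linear_combination hb σ r r * hjj
    have hN1 : hb σ (e + j • w) (e + j • w) = hb σ a a := by
      rw [nrm, hee, hww, hew, hwe, hσj, ht]; ring
    have hN2 : hb σ (w + j • e) (w + j • e) = hb σ b b := by
      rw [nrm, hee, hww, hew, hwe, hσj]
      linear_combination -hv + ht
    have h1 := P_T e w (hiso0 _ _ hee hww) (Piso e w hee hww)
    refine P_move _ _ a b (fun e' => haa ?_) (fun e' => haa ?_) (fun e' => haa ?_) (fun e' => haa ?_) ?_ hN1 hN2 h1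
    · rw [← hN1, e']; simp [hb]
    · have : hb σ b b = 0 := by rw [← hN2, e']; simp [hb]
      rwa [this, add_zero] at hv
    · rw [e']; simp [hb]
    · have : hb σ b b = 0 := by rw [e']; simp [hb]
      rwa [this, add_zero] at hv
    · rw [hN1, hN2, hv]
  exact su_le_of_Tv hσ hσq hq (by omega) h2 fun v c hv hc => (hP v).1 (hall v hv) c hv hc

include hσq hq in
/-- The dichotomy passes from half the dimension to the whole. -/
theorem udichotomy_step (hnd : n = 2 * d) (hd4 : 4 ∣ d) (hd0 : d ≠ 0) (hT : UDichotomy σ d) : UDichotomy σ n := by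
  classical
  intro R h K₀ hKU₀ hK₀
  have hσ := h.invol
  have h2 := h.two
  haveI := h.toPS.nonempty
  obtain ⟨K, hK'⟩ : ∃ K : Subgroup G, ∀ g, g ∈ K ↔ ∃ c : Eˣ, sc c * g ∈ K₀ := by
    refine ⟨{ carrier := {g | ∃ c : Eˣ, sc c * g ∈ K₀}, one_mem' := ⟨1, by rw [sc_one, one_mul]; exact one_mem _⟩,
              mul_mem' := ?_, inv_mem' := ?_ }, fun g => Iff.rfl⟩
    · rintro a b ⟨c, hc⟩ ⟨e, he⟩
      refine ⟨c * e, ?_⟩
      have := mul_mem hc he
      rwa [mul_assoc, ← mul_assoc a, ← sc_comm, mul_assoc (sc e) a, ← mul_assoc, sc_mul] at this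
    · rintro a ⟨c, hc⟩
      refine ⟨c⁻¹, ?_⟩
      have := inv_mem hc
      rwa [_root_.mul_inv_rev, show (sc c : G)⁻¹ = sc c⁻¹ from inv_eq_of_mul_eq_one_right (by
        rw [sc_mul, mul_inv_cancel, sc_one]), ← sc_comm] at this
  have hK0 : ∀ g ∈ K₀, g ∈ K := fun g hg => (hK' g).2 ⟨1, by rwa [sc_one, one_mul]⟩
  have hsc : ∀ c : Eˣ, sc c ∈ K := fun c => (hK' _).2 ⟨c⁻¹, by rw [sc_mul, inv_mul_cancel, sc_one]; exact one_mem _⟩
  have hKU : ∀ g ∈ K, ∃ c : Eˣ, sc c * g ∈ (UG σ : Subgroup G) := fun g hg => by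
    obtain ⟨c, hc⟩ := (hK' g).1 hg
    exact ⟨c, hKU₀ hc⟩
  have hdet1 : ∀ {g : G}, g ∈ (UG σ : Subgroup G) → (g : M).det = 1 → (∀ r ∈ R, g * r * g⁻¹ ∈ R) → g ∈ K :=
    fun h1 h2 h3 => hK0 _ (hK₀ _ h1 h2 h3)
  obtain ⟨j, hj⟩ := h.fourth
  have hσj := h.jconj j hj
  have hj0 : j ≠ 0 := fun e => by simp [e] at hj
  have hj1 : 1 + j ≠ 0 := fun e => h2 (by
    have : j = -1 := by linear_combination e
    rw [this] at hj; linear_combination hj)
  have hdet : ∀ {a : G}, a ∈ R → a * a = -1 → pr a ≠ 1 → (1 + (a : M)).det = 2 ^ d := fun ha ha2 ha1 => by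
    obtain ⟨d', hd', e⟩ := det_lift h.toPS ha ha2 ha1
    rw [Fintype.card_fin] at hd'
    rw [e, show d' = d by omega]
  have hRK : R ≤ K := by
    intro r hr
    obtain ⟨c, a, ha, rfl, ha2⟩ := h.toPS.scaled hr
    refine mul_mem (hsc c) ?_
    by_cases ha1 : pr a = 1
    · obtain ⟨e, rfl⟩ := pr_eq_one_iff.1 ha1; exact hsc e
    refine hdet1 (h.mem_of_neg ha ha2) ?_ fun r hr => mul_mem (mul_mem ha hr) (inv_mem ha)
    have e : (1 + (a : M)) * (1 + (a : M)) = (2 : E) • (a : M) := by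
      rw [add_mul, mul_add, mul_add, one_mul, mul_one, one_mul, ← Units.val_mul, ha2, Units.val_neg, Units.val_one,
        two_smul]
      abel
    have e' := congrArg Matrix.det e
    rw [Matrix.det_mul, hdet ha ha2 ha1, Matrix.det_smul, Fintype.card_fin, ← pow_add, show d + d = n by omega] at e'
    exact mul_left_cancel₀ (pow_ne_zero n h2) (by rw [← e', mul_one])
  have hl : Lifts R K := by
    intro a ha ha2 T hT
    by_cases ha1 : pr a = 1
    · obtain ⟨c, rfl⟩ := pr_eq_one_iff.1 ha1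
      obtain ⟨e, rfl⟩ := exists_sc_of_smul (g := T) (c := 1 + (c : E)) (by rw [hT, sc_val, add_smul, one_smul])
      exact hsc e
    obtain ⟨c, hc⟩ : ∃ c : Eˣ, (c : E) = j / (1 + j) := ⟨Units.mk0 _ (div_ne_zero hj0 hj1), rfl⟩
    have hcN : σ (c : E) * c * 2 = 1 := by
      rw [hc, map_div₀, map_add, map_one, hσj]
      have h1' : 1 + -j ≠ 0 := fun e => h2 (by
        have : j = 1 := by linear_combination -e
        rw [this] at hj; linear_combination hj)
      field_simp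
      linear_combination -hj
    have hTU : sc c * T ∈ (UG σ : Subgroup G) := by
      have haa : ad σ (a : M) * (a : M) = 1 := h.mem_of_neg ha ha2
      have had : ad σ (a : M) = -(a : M) := by
        have e : (a : M) * (a : M) = -1 := by rw [← Units.val_mul, ha2, Units.val_neg, Units.val_one]
        calc ad σ (a : M) = ad σ (a : M) * ((a : M) * -(a : M)) := by rw [mul_neg, e, neg_neg, mul_one]
          _ = -(a : M) := by rw [← Matrix.mul_assoc, haa, one_mul]
      have hTT : ad σ (T : M) * T = (2 : E) • 1 := by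
        rw [hT, ad_add, ad_one, had, add_mul, mul_add, mul_add, one_mul, mul_one, one_mul, neg_mul,
          show (a : M) * (a : M) = -1 by rw [← Units.val_mul, ha2, Units.val_neg, Units.val_one], neg_neg, two_smul]
        abel
      rw [mem_UG, Units.val_mul, sc_val, Matrix.smul_mul, Matrix.one_mul, ad_smul, smul_mul_smul_comm, hTT, smul_smul,
        hcN, one_smul]
    have h4 : ((sc c * T : G) : M).det = 1 := by
      rw [Units.val_mul, sc_val, Matrix.smul_mul, Matrix.one_mul, Matrix.det_smul, hT, hdet ha ha2 ha1,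
        Fintype.card_fin, show (c : E) ^ n = (c : E) ^ (2 * d) from congrArg ((c : E) ^ ·) hnd, pow_mul, ← mul_pow]
      obtain ⟨m, rfl⟩ := hd4
      rw [pow_mul, show ((c : E) ^ 2 * 2) = j by
        rw [hc]; field_simp; linear_combination -hj]
      rw [show j ^ 4 = 1 by linear_combination (j * j - 1) * hj, one_pow]
    have h5 := mul_mem (hsc c⁻¹) (hdet1 hTU h4 fun r hr => by
      rw [show sc c * T * r * (sc c * T)⁻¹ = sc c * (T * r * T⁻¹) * (sc c)⁻¹ by group, sc_conj]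
      exact h.toPS.lift_normalizes ha ha2 hT hr)
    rwa [← mul_assoc, sc_mul, inv_mul_cancel, sc_one, one_mul] at h5
  have h4d : 4 ≤ d := Nat.le_of_dvd (Nat.pos_of_ne_zero hd0) hd4
  have hbig : 16 < Nat.card (R.map (pr (ι := Fin n) (E := E))) := by
    have := h.toPS.card_sq_le
    rw [Fintype.card_fin] at this
    have : 8 ≤ n := by omega
    have := Nat.mul_le_mul this this
    omega
  by_cases hall : ∀ x ∈ R, x * x = 1 → pr x ≠ 1 → Small R K x
  · exact Or.inl fun g hg => h.toPS.normal_of_local hbig hl hall hRK g (hK0 g hg)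
  right
  push Not at hall
  obtain ⟨x₁, hx₁, hxx₁, hx₁1, hns⟩ := hall
  have hns' : ∀ {x : G}, x ∈ R → x * x = 1 → pr x ≠ 1 → ¬ Small R K x := fun hx hxx hx1 hs =>
    hns (h.toPS.small_all hl hx hxx hx1 hs x₁ hx₁ hxx₁ hx₁1)
  have hbigc : ∀ {x : G} (ch : Chart R x (Fin d)), ch.em.IsU σ → UBig σ ch K := by
    intro x ch hu
    have hcontains : ∀ s ∈ (UG σ : Subgroup (GL (Fin d) E)), (s : Matrix (Fin d) (Fin d) E).det = 1 →
        (∀ r ∈ ch.em.restrict R, s * r * s⁻¹ ∈ ch.em.restrict R) → s ∈ ch.em.restrict K ⊓ UG σ := by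
      intro s hs hsd hsn
      refine ⟨?_, hs⟩
      refine ch.em.mem_restrict.2 ⟨ch.δ h.toPS s s, hdet1 (Chart.δ_UG h hu hs hs) ?_ (ch.δ_diag_normalises h.toPS hsn),
        ch.δ_cent h.toPS s s, ch.δ_fst h.toPS s s⟩
      rw [ch.δ_det h.toPS, hsd, one_mul]
    rcases hT _ (Chart.PSU_restrict h hu) (ch.em.restrict K ⊓ UG σ) inf_le_right hcontains with h1 | h1
    · exfalso
      refine hns' ch.mem ch.sq (ch.pr_ne h.toPS) (ch.small_of_norm h.toPS fun s hs r hr => ?_)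
      obtain ⟨g, hg, hge, hgv⟩ := ch.em.mem_restrict.1 hs
      obtain ⟨c, hc⟩ := hKU g hg
      have hce : ((sc c * g : G) : M) * ez x = ez x * (sc c * g : G) := by
        rw [Units.val_mul, sc_val, Matrix.smul_mul, Matrix.one_mul, Matrix.smul_mul, Matrix.mul_smul, hge]
      have h2' := h1 (ch.em.res ⟨_, hce⟩) ⟨ch.em.mem_restrict.2 ⟨_, mul_mem (hsc c) hg, hce, rfl⟩,
        Emb.res_mem hσ hu hc hce⟩ r hr
      have e : ch.em.res ⟨_, hce⟩ = sc c * s := Units.ext (by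
        rw [Emb.res_val, Units.val_mul, sc_val, Matrix.smul_mul, Matrix.one_mul, ch.em.val_smul, hgv, Units.val_mul,
          sc_val, Matrix.smul_mul, Matrix.one_mul])
      rwa [e, show sc c * s * r * (sc c * s)⁻¹ = sc c * (s * r * s⁻¹) * (sc c)⁻¹ by group, sc_conj] at h2'
    · exact fun s hs hsd => (h1 s hs hsd).1
  -- the lifts pass to the original group
  have hfin : ∀ {x : G} (ch : Chart R x (Fin d)), ch.em.IsU σ → ch.Kernel h.toPS K →
      ∀ g ∈ (UG σ : Subgroup G), (g : M).det = 1 → g ∈ K₀ := by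
    intro x ch hu hk
    have hSU := ufinish hσq hq h ch hu (hbigc ch hu) hk (hRK ch.ymem) hl hKU (by omega) hnd
    obtain ⟨a, ha, b, hb, -, -, -, -, -, -, -, -, hab, -, -, -, -, -⟩ := h.toPS.exists_quad (by simp; omega)
    have h3n : 3 ≤ n := by omega
    obtain ⟨c, a', ha', rfl, ha2⟩ := h.toPS.scaled ha
    have ha1 : pr a' ≠ 1 := fun e => h.toPS.pr_anti_ne_one hab (by rw [map_mul, pr_sc, e, one_mul])
    have hdet' : ((a' : G) : M).det = 1 := by
      have e : (1 + (a' : M)) * (1 + (a' : M)) = (2 : E) • (a' : M) := by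
        rw [add_mul, mul_add, mul_add, one_mul, mul_one, one_mul, ← Units.val_mul, ha2, Units.val_neg, Units.val_one,
          two_smul]
        abel
      have e' := congrArg Matrix.det e
      rw [Matrix.det_mul, hdet ha' ha2 ha1, Matrix.det_smul, Fintype.card_fin, ← pow_add, show d + d = n by omega] at e'
      exact mul_left_cancel₀ (pow_ne_zero n h2) (by rw [← e', mul_one])
    refine le_of_normalised_u hσ hσq hq h3n h2 K₀ hKU₀ (fun l hl' s hs hsd => ?_)
      ⟨a', hK₀ a' (h.mem_of_neg ha' ha2) hdet' fun r hr => mul_mem (mul_mem ha' hr) (inv_mem ha'), fun k hk => ?_⟩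
    · obtain ⟨c, hc⟩ := (hK' s).1 (hSU s hs hsd)
      have := mul_mem (mul_mem hc hl') (inv_mem hc)
      rwa [show sc c * s * l * (sc c * s)⁻¹ = sc c * (s * l * s⁻¹) * (sc c)⁻¹ by group, sc_conj] at this
    · obtain ⟨e, he⟩ := exists_sc_of_smul hk
      exact ha1 (pr_eq_one_iff.2 ⟨e, he⟩)
  obtain ⟨x, hx, y, hy, w, hw, b, hb, hxx, -, hww, -, hxy, hwb, hwx, hwy, -, -⟩ := h.toPS.exists_quad (by simp; omega)
  have hx1 := h.toPS.pr_anti_ne_one hxy
  have hw1 := h.toPS.pr_anti_ne_one hwb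
  have hne : pr w ≠ pr x := fun e => h.toPS.not_comm_of_anti
    (h.toPS.anti_of_pr e (show y * x = -(x * y) by rw [hxy, neg_neg])) hwy.symm
  have hzz : x * w * (x * w) = 1 := by rw [mul_assoc, ← mul_assoc w, hwx, mul_assoc x w w, hww, mul_one, hxx]
  have hz1 : pr (x * w) ≠ 1 := fun e => hne (by
    rw [map_mul] at e
    rw [← inv_eq_of_mul_eq_one_right e, inv_eq_of_mul_eq_one_right (show pr x * pr x = 1 by
      rw [← map_mul, hxx, map_one])])
  have hn2 : Fintype.card (Fin n) = 2 * d := by simp [hnd]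
  obtain ⟨ch, hu⟩ := h.exists_uchart hx hxx hx1 hn2
  obtain ⟨chw, huw⟩ := h.exists_uchart hw hww hw1 hn2
  obtain ⟨chz, huz⟩ := h.exists_uchart (mul_mem hx hw) hzz hz1 hn2
  by_cases hk : ch.Kernel h.toPS K
  · exact hfin ch hu hk
  by_cases hkw : chw.Kernel h.toPS K
  · exact hfin chw huw hkw
  by_cases hkz : chz.Kernel h.toPS K
  · exact hfin chz huz hkz
  exfalso
  obtain ⟨eb₀, -, -, -⟩ := ch.exists_corner h.toPS (d' := d / 2) (by simp; omega) hw hww hwx hw1 hne
  have hcm := ez_comm hwx.symm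
  have hez := ez_mul_self h.toPS hxx hwx
  obtain ⟨eb, heb⟩ := exists_uemb hσ (by rw [ad_mul, h.ad_ez hx hxx, h.ad_ez hw hww, hcm]) eb₀
  have hmu : ∀ {u : G} (cu : Chart R u (Fin d)), cu.em.IsU σ → ez u * (ez x * ez w) = ez x * ez w →
      ∀ s ∈ (UG σ : Subgroup (GL (Fin (d / 2)) E)), (s : Matrix (Fin (d / 2)) (Fin (d / 2)) E).det = 1 →
      ∀ hc, cu.em.res ⟨eb.lift s, hc⟩ ∈ cu.em.restrict K := fun cu hcu e s hs hsd hc => by
    refine hbigc cu hcu _ (Emb.res_mem hσ hcu (lift_mem_UG hσ heb hs) hc) ?_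
    rw [Emb.res_val, eb.det_val_lift cu.em e, hsd]
  obtain ⟨s, hs, hsd, t, ht, htd, hT'⟩ := exists_triple_u (n := d / 2) hσ hσq hq (by omega) h2
  have hxi := ez_idem h2 hxx
  have hwi := ez_idem h2 hww
  have hzi := ez_idem h2 hzz
  have hxz : x * (x * w) = x * w * x := by rw [mul_assoc x w x, hwx]
  obtain ⟨g₁, hg₁, x₁', w₁, a₁⟩ := ch.corner_sq h.toPS hk (hRK ch.ymem) (hRK hw) hww hwx eb rfl s
    (hmu ch hu (by rw [← Matrix.mul_assoc, hxi]) s hs hsd)
  obtain ⟨g₂, hg₂, w₂, x₂, a₂⟩ := chw.corner_sq h.toPS hkw (hRK chw.ymem) (hRK hx) hxx hwx.symm eb hcm.symm t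
    (hmu chw huw (by rw [hcm, ← Matrix.mul_assoc, hwi]) t ht htd)
  obtain ⟨g₃, hg₃, z₃, x₃, a₃⟩ := chz.corner_sq h.toPS hkz (hRK chz.ymem) (hRK hx) hxx hxz eb hez s
    (hmu chz huz (by rw [← hez, ← Matrix.mul_assoc, hzi]) s hs hsd)
  have w₃ : g₃ * w = w * g₃ := by
    rw [← mul_assoc, x₃, mul_assoc, mul_assoc] at z₃
    exact mul_left_cancel z₃
  exact hk (triple_kernel h.toPS ch chw chz hwx hw1 hne eb hT' hg₁ hg₂ hg₃ x₁' w₁ x₂ w₂ x₃ w₃ a₁ a₂ a₃)

end Cfsg.Agent.ClassicalMax.SympType
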