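import Cfsg.Agent.ClassicalMax.SympType.BaseFour
import Cfsg.Agent.ClassicalMax.SympType.UStep
import Cfsg.Agent.Classical.KleinIso

/-!
The overgroups of the normaliser of a two-group of symplectic type in the special unitary group of degree four over
a prime field with minus one a non-square, through the orthogonal group of minus type in dimension six.
-/

set_option autoImplicit false
set_option linter.unusedSectionVars false

namespace Cfsg.Agent.ClassicalMax.SympType.Four

open Matrix Module QuadraticMap Cfsg.Agent.Classical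

variable {E : Type*} [Field E] [Fintype E] {σ : E →+* E} {q : ℕ} {j : E}

local notation "M4" => Matrix (Fin 4) (Fin 4) E
local notation "G4" => GL (Fin 4) E
local notation "SL4" => SpecialLinearGroup (Fin 4) E
local notation "I6" => (Fin 3 ⊕ Fin 3)
local notation "Kl" => Klein.kleinHom (F := E)

theorem gZ_symm : ∀ a, (gZ a)ᵀ = gZ a := by decide

theorem ga_UG (a : Fin 4) : (ga a : G4) ∈ UG σ := by
  rw [mem_UG, ga_val]
  have : ad σ (gMat a : M4) = gMat a := by
    rw [ad, gMat, Matrix.map_map, show (⇑σ ∘ ⇑(Int.castRingHom E)) = ⇑(Int.castRingHom E) from funext fun n => by simp,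
      ← Matrix.transpose_map, gZ_symm]
  rw [this, gMat_sq]

theorem closure_UG {u : SL4} (hu : u ∈ Subgroup.closure (Set.range (gen (F := E)))) :
    (SpecialLinearGroup.toGL u : G4) ∈ UG σ := by
  induction hu using Subgroup.closure_induction with
  | mem x hx => obtain ⟨a, rfl⟩ := hx; exact ga_UG a
  | one => rw [map_one]; exact one_mem _
  | mul x y _ _ ihx ihy => rw [map_mul]; exact mul_mem ihx ihy
  | inv x _ ih => rw [map_inv]; exact inv_mem ih

set_option maxHeartbeats 1000000 in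
/-- overgroups in the special unitary group -/
theorem std_base_u (hσ : Herm.IsInvol σ) (hσq : ∀ x, σ x = x ^ q) (hq : Nat.card (Herm.fixField σ) = q)
    (hqp : q.Prime) (h2 : (2 : E) ≠ 0) (hj : j * j = -1) (hσj : σ j = -j) (K : Subgroup G4) (hKU : K ≤ UG σ)
    (hK : ∀ g ∈ (UG σ : Subgroup G4), (g : M4).det = 1 → (∀ r ∈ R0 E, g * r * g⁻¹ ∈ R0 E) → g ∈ K) :
    (∀ g ∈ K, (g : M4).det = 1 → ∀ r ∈ R0 E, g * r * g⁻¹ ∈ R0 E) ∨
      ∀ g ∈ (UG σ : Subgroup G4), (g : M4).det = 1 → g ∈ K := by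
  classical
  have hcardE : Fintype.card E = q ^ 2 := by rw [← hq, ← Herm.card_eq_fix_sq hσ, Nat.card_eq_fintype_card]
  obtain ⟨F₀, hF₀⟩ : ∃ F₀, F₀ = Herm.fixField σ := ⟨_, rfl⟩
  haveI : Fintype F₀ := Fintype.ofFinite F₀
  have hcard0 : Fintype.card F₀ = q := by rw [← Nat.card_eq_fintype_card, hF₀, hq]
  have hfix : ∀ c : F₀, σ (c : E) = c := fun c => Herm.mem_fixField.1 (hF₀ ▸ c.2)
  obtain ⟨π, hπ⟩ := Embed.exists_retraction (F := F₀) (K := E)
  let D : Exc.MinusData F₀ E := ⟨σ, π, hσ, hfix, hπ, fun x hx => by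
    have hx' : x ∈ F₀ := hF₀ ▸ Herm.mem_fixField.2 hx
    show algebraMap F₀ E (π x) = x
    rw [show x = algebraMap F₀ E ⟨x, hx'⟩ from rfl, hπ]⟩
  have hσq' : ∀ x, D.σ x = x ^ q := hσq
  have h20 : (2 : F₀) ≠ 0 := fun e => h2 (by
    have := congrArg (algebraMap F₀ E) e
    rwa [map_ofNat, map_zero] at this)
  have hjn : ∀ a b : F₀, (a : E) + (b : E) * j = 0 → a = 0 ∧ b = 0 := fun a b e => by
    have e' := congrArg σ e
    rw [map_add, map_mul, hfix, hfix, hσj, map_zero] at e'
    have ha : (2 : E) * (a : E) = 0 := by linear_combination e + e'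
    have ha' : (a : E) = 0 := (mul_eq_zero.1 ha).resolve_left h2
    refine ⟨Subtype.ext ha', Subtype.ext ?_⟩
    rw [ha', zero_add] at e
    exact (mul_eq_zero.1 e).resolve_right fun e0 => by rw [e0] at hj; simp at hj
  have halg : ∀ c : F₀, algebraMap F₀ E c = (c : E) := fun c => rfl
  -- coordinates in the frame
  let p0 : (I6 → F₀) →ₗ[F₀] (Fin 3 → E) :=
    { toFun := fun x k => (x (.inl k) : E) + (x (.inr k) : E) * j
      map_add' := fun x y => funext fun k => by simp; ring
      map_smul' := fun c x => funext fun k => by simp [Algebra.smul_def, halg]; ring }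
  have hp0 : Function.Bijective p0 := by
    refine (Fintype.bijective_iff_injective_and_card _).2 ⟨(injective_iff_map_eq_zero p0).2 fun x hx => funext fun s => ?_, ?_⟩
    · rcases s with k | k
      · exact (hjn _ _ (congrFun hx k)).1
      · exact (hjn _ _ (congrFun hx k)).2
    · rw [Fintype.card_fun, Fintype.card_fun, hcard0, hcardE, ← pow_mul]
      rfl
  let ψ : (Fin 3 → E) ≃ₗ[F₀] (I6 → F₀) := (LinearEquiv.ofBijective p0 hp0).symm
  have hψ : ∀ x, ψ.symm x = p0 x := fun x => rfl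
  have hQ : ∀ x, Exc.bivQ D (p0 x) = OrthMono.sq F₀ I6 x := fun x => (algebraMap F₀ E).injective (by
    rw [Exc.algebraMap_bivQ, Quad.plusQ_apply, OrthMono.sq_apply, dotProduct, map_sum, Fintype.sum_sum_type]
    simp only [Fin.sum_univ_three, Exc.starEmb, LinearMap.coe_mk, AddHom.coe_mk, Sum.elim_inl, Sum.elim_inr,
      map_mul, halg, p0]
    simp only [map_add, map_mul, D, hfix, hσj, halg, Subfield.coe_mul, MulMemClass.coe_mul]
    linear_combination (-((x (.inr 0) : E) ^ 2 + (x (.inr 1) : E) ^ 2 + (x (.inr 2) : E) ^ 2)) * hj)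
  have hiso : ∀ z, OrthMono.sq F₀ I6 (ψ z) = 1 * Exc.bivQ D z := fun z => by
    rw [one_mul, ← hQ, ← hψ, ψ.symm_apply_apply]
  let Φ : Cfsg.SU 4 E q →* Quad.oG (OrthMono.sq F₀ I6) :=
    (OrthMono.simHom ψ one_ne_zero hiso).comp (Exc.sixMinusHom D hσq')
  let emb : (I6 → F₀) →ₗ[F₀] (I6 → E) := (Exc.starEmb D).comp p0
  have hemb : ∀ (A : Cfsg.SU 4 E q) x, emb ((Φ A).1 x) = (Exc.suKlein A).1 (emb x) := by
    intro A x
    have e1 := OrthMono.simHom_apply ψ one_ne_zero hiso (Exc.sixMinusHom D hσq' A) (p0 x)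
    rw [show ψ (p0 x) = x by rw [← hψ, ψ.apply_symm_apply]] at e1
    show Exc.starEmb D (p0 ((OrthMono.simHom ψ one_ne_zero hiso (Exc.sixMinusHom D hσq' A)).1 x)) = _
    rw [e1, ← hψ, ψ.symm_apply_apply]
    exact Exc.starEmb_sixMinusMap D hσq' A _
  have embinj : Function.Injective emb := (Exc.starEmb_injective D).comp hp0.1
  have hsingle : ∀ s, emb (Pi.single s 1) = bv j s := fun s => by
    funext t
    show Exc.starEmb D (p0 (Pi.single s 1)) t = _
    rcases s with k | k <;> rcases t with t | t <;> fin_cases k <;> fin_cases t <;>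
      simp [Exc.starEmb, p0, bv, D, hσj]
  have embsmul : ∀ (c : F₀) x, emb (c • x) = (c : E) • emb x := fun c x => by
    rw [map_smul]
    funext t
    simp [Algebra.smul_def, halg]
  -- monomial elements
  obtain ⟨Mono6, hMono⟩ : ∃ P : Cfsg.SU 4 E q → Prop, ∀ A, P A ↔
      ∀ s : I6, ∃ t : I6, ∃ c : F₀, (Φ A).1 (Pi.single s 1) = c • Pi.single t 1 := ⟨_, fun _ => Iff.rfl⟩
  have mn_iff : ∀ A : Cfsg.SU 4 E q, Mono6 A ↔ Mn j (Kl A.1) := by
    intro A
    rw [hMono]
    constructor
    · intro hA s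
      obtain ⟨t, c, hc⟩ := hA s
      refine ⟨t, (c : E), ?_⟩
      have := hemb A (Pi.single s 1)
      rw [hc, embsmul, hsingle, hsingle] at this
      exact this.symm
    · intro hA s
      obtain ⟨t, c, hc⟩ := hA s
      have hcc : c * c = 1 := by
        have h9 := (Kl A.1).2 (bv j s)
        rw [hc, Quad.map_smul', plusQ_bv hj, plusQ_bv hj] at h9
        linear_combination h9
      obtain ⟨c₀, hc₀⟩ : ∃ c₀ : F₀, (c₀ : E) = c := by
        rcases mul_self_eq_one_iff.1 hcc with e | e <;> rw [e]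
        · exact ⟨1, rfl⟩
        · exact ⟨-1, by simp⟩
      refine ⟨t, c₀, embinj ?_⟩
      rw [hemb, hsingle, embsmul, hsingle, hc₀]
      exact hc
  -- the image is the derived group
  haveI := Exc.oG_finite (Exc.bivQ D)
  haveI := Exc.oG_finite (OrthMono.sq F₀ I6)
  have hnds : (polarBilin (OrthMono.sq F₀ I6)).Nondegenerate := Quad.nondeg_of fun u hu => funext fun s => by
    have := hu (Pi.single s 1)
    simp [polar, OrthMono.sq_apply, dotProduct_add, add_dotProduct, dotProduct_single, single_dotProduct] at this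
    have e : (2 : F₀) * u s = 0 := by linear_combination this
    exact (mul_eq_zero.1 e).resolve_left h20
  have hrange : Φ.range = commutator (Quad.oG (OrthMono.sq F₀ I6)) := by
    have hd : finrank F₀ (Fin 3 → E) = 2 * 3 := by
      rw [Module.finrank_pi_fintype]; simp [Embed.finrank_quadratic hcardE hcard0, mul_comm]
    have hnd : (polarBilin (Exc.bivQ D)).Nondegenerate := Quad.nondeg_of fun u hu => by
      have h0 : ψ u = 0 := by
        refine funext fun s => ?_
        have h1 := hu (p0 (Pi.single s 1))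
        have e : ∀ z, Exc.bivQ D z = OrthMono.sq F₀ I6 (ψ z) := fun z => by rw [hiso, one_mul]
        rw [polar, e, e, e, map_add, show ψ (p0 (Pi.single s 1)) = Pi.single s 1 by rw [← hψ, ψ.apply_symm_apply]] at h1
        simp [OrthMono.sq_apply, dotProduct_add, add_dotProduct, dotProduct_single, single_dotProduct] at h1
        have e' : (2 : F₀) * ψ u s = 0 := by linear_combination h1
        exact (mul_eq_zero.1 e').resolve_left h20
      exact ψ.injective (by rw [h0, map_zero])
    have hfz : ∀ x, D.π x = 0 → σ x = x → x = 0 := fun x h0 hx => by rw [← D.fixed x hx, h0, map_zero]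
    obtain ⟨ζ, hζ⟩ := Quad.exists_rootfree (F := F₀)
    have hab := Quad.rootfree_aniso hζ
    have hz : Quad.zcard (Exc.bivQ D) = Nat.card {v : Fin 3 → E // hermB 3 σ v v = 0} :=
      Nat.card_congr (Equiv.subtypeEquivRight fun v => ⟨fun h => hfz _ h (Embed.hermB_symm hσ 3 v v),
        fun h => show π (hermB 3 σ v v) = 0 by rw [h, map_zero]⟩)
    obtain ⟨e, he⟩ : Quad.Iso (Quad.hyp (Quad.binForm _ _) 2) (Exc.bivQ D) := by
      rcases Quad.even_cases hnd (m := 3) hd with h | ⟨-, h⟩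
      · exfalso
        have hh := card_herm_zero hσ hq 3
        have hp := congrArg (Nat.cast : ℕ → ℤ) (Quad.zcard_plus hcard0 2)
        rw [← hz, ← h.zcard_eq] at hh
        push_cast at hp
        have hq1 : (1 : ℤ) < q := by exact_mod_cast hqp.one_lt
        have : (2 : ℤ) * (q : ℤ) ^ 3 * ((q : ℤ) - 1) = 0 := by linear_combination hh - (q : ℤ) * hp
        rcases mul_eq_zero.1 this with h0 | h0
        · exact absurd h0 (by positivity)
        · omega
      · exact h _ _ hab
    have hp : commutator (Cfsg.SU 4 E q) = ⊤ := Exc.commutator_su_four hσ hσq hq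
    have hle : (Exc.sixMinusHom D hσq').range ≤ commutator (Quad.oG (Exc.bivQ D)) := by
      rintro _ ⟨g, rfl⟩
      have hg : g ∈ commutator (Cfsg.SU 4 E q) := by rw [hp]; trivial
      have h1 := Subgroup.mem_map_of_mem (Exc.sixMinusHom D hσq') hg
      rw [commutator_def, Subgroup.map_commutator] at h1
      rw [commutator_def]
      exact Subgroup.commutator_mono le_top le_top h1
    have h6 : (Exc.sixMinusHom D hσq').range = commutator (Quad.oG (Exc.bivQ D)) := by
      refine Subgroup.eq_of_le_of_card_ge hle ?_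
      have h1 := Exc.comm_card_bound hnd (by omega) ((Exc.two_le_bound (Exc.sixMinusHom D hσq').ker
        (fun g : Cfsg.SU 4 E q => g.1.1 0 0)
        (fun x hx y hy e => Subtype.ext (Subtype.ext (by
          rw [(Exc.sixMinusHom_ker D hσq' hx).1, (Exc.sixMinusHom_ker D hσq' hy).1]; exact congrArg _ e)))
        fun x hx => (Exc.sixMinusHom_ker D hσq' hx).2).trans_eq (by rw [if_neg h2, if_neg h20]))
        (L := Nat.card (Cfsg.SU 4 E q)) (by
          rw [← Nat.card_congr (Quad.oCongr e he).toEquiv, Quad.card_oG_minus hab hcard0 2]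
          have h1 := card_SU_mul_eq_GU (n := 4) hσ hσq hq (by norm_num)
          have h2' := card_GU_formula (n := 4) hσ hσq hq
          rw [h2'] at h1
          simp [Finset.prod_range_succ, show ¬ Even 1 by decide, show ¬ Even 3 by decide,
            show Even 2 by decide] at h1 ⊢
          have hL : Nat.card (Cfsg.SU 4 E q) = q ^ 6 * ((q ^ 2 - 1) * (q ^ 3 + 1) * (q ^ 4 - 1)) :=
            Nat.eq_of_mul_eq_mul_left (Nat.succ_pos q)
              (by rw [Nat.card_eq_fintype_card, Nat.succ_eq_add_one]; linarith [h1])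
          simp only [Nat.card_eq_fintype_card] at hL ⊢
          rw [hL]
          ring) le_rfl
      have h3 : Nat.card (Exc.sixMinusHom D hσq').range * Nat.card (Exc.sixMinusHom D hσq').ker =
          Nat.card (Cfsg.SU 4 E q) := by
        rw [← Nat.card_congr (QuotientGroup.quotientKerEquivRange (Exc.sixMinusHom D hσq')).toEquiv,
          ← Subgroup.card_eq_card_quotient_mul_card_subgroup]
      exact Nat.le_of_mul_le_mul_right (h1.trans h3.ge) Nat.card_pos
    show ((OrthMono.simHom ψ one_ne_zero hiso).comp (Exc.sixMinusHom D hσq')).range = _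
    rw [MonoidHom.range_eq_map, ← Subgroup.map_map, ← MonoidHom.range_eq_map, h6, commutator_def, commutator_def,
      Subgroup.map_commutator, Subgroup.map_top_of_surjective _ (OrthMono.simHom_bijective ψ one_ne_zero hiso).2]
  -- the frame
  let frame6 : Fin 6 → Submodule F₀ (I6 → F₀) := fun i => Submodule.span F₀ {Pi.single (finSumFinEquiv.symm i) 1}
  have hframe : Cfsg.Geo.IsOrthogonalMDecomposition (⇑(OrthMono.sq F₀ I6)) 1 frame6 := by
    obtain ⟨w, hw⟩ : ∃ w : Fin 6 → I6 → F₀, ∀ i, w i = Pi.single (finSumFinEquiv.symm i) 1 := ⟨_, fun _ => rfl⟩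
    have hfr : ∀ i, frame6 i = Submodule.span F₀ {w i} := fun i => by rw [hw]
    have hpol : ∀ i k, polar (OrthMono.sq F₀ I6) (w i) (w k) = if i = k then 2 else 0 := fun i k => by
      rw [hw, hw, polar, OrthMono.sq_apply, OrthMono.sq_apply, OrthMono.sq_apply]
      simp [add_dotProduct, dotProduct_add, Pi.single_apply, eq_comm]
      split_ifs <;> ring
    have hw0 : ∀ i, w i ≠ 0 := fun i e => by
      rw [hw] at e
      simpa using congrFun e (finSumFinEquiv.symm i)
    have hli : LinearIndependent F₀ w := by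
      rw [Fintype.linearIndependent_iff]
      intro g hg i
      have := congrArg (fun x => polarBilin (OrthMono.sq F₀ I6) (w i) x) hg
      simp [map_sum, polarBilin_apply_apply, hpol] at this
      exact this.resolve_right h20
    have htop : Submodule.span F₀ (Set.range w) = ⊤ := hli.span_eq_top_of_card_eq_finrank (by simp)
    refine ⟨⟨⟨by norm_num, by norm_num, fun i => by rw [hfr]; exact finrank_span_singleton (hw0 i), ?_, ?_⟩,
      fun i x hx hx0 => ?_, fun i k hik x hx y hy => ?_⟩, fun i k => ?_⟩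
    · rw [show frame6 = fun i => Submodule.span F₀ {w i} from funext hfr]
      exact hli.iSupIndep_span_singleton
    · rw [eq_top_iff, ← htop, Submodule.span_le]
      rintro _ ⟨i, rfl⟩
      exact le_iSup frame6 i (by rw [hfr]; exact Submodule.mem_span_singleton_self _)
    · rw [hfr] at hx ⊢
      obtain ⟨c, rfl⟩ := Submodule.mem_span_singleton.1 hx
      have hc : c ≠ 0 := fun e => hx0 (by rw [e, zero_smul])
      have : polar (OrthMono.sq F₀ I6) (c • w i) (w i) ≠ 0 := by
        rw [polar_smul_left, hpol, if_pos rfl]; exact mul_ne_zero hc h20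
      exact ⟨⟨w i, Submodule.mem_span_singleton_self _, by rwa [polar_comm]⟩,
        ⟨w i, Submodule.mem_span_singleton_self _, this⟩⟩
    · rw [hfr] at hx hy
      obtain ⟨a, rfl⟩ := Submodule.mem_span_singleton.1 hx
      obtain ⟨b, rfl⟩ := Submodule.mem_span_singleton.1 hy
      rw [polar_smul_left, polar_smul_right, hpol, if_neg hik]; simp
    · rw [hfr, hfr]
      refine ⟨(LinearEquiv.toSpanNonzeroSingleton F₀ _ (w i) (hw0 i)).symm.trans
        (LinearEquiv.toSpanNonzeroSingleton F₀ _ (w k) (hw0 k)), fun x => ?_⟩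
      obtain ⟨c, rfl⟩ := (LinearEquiv.toSpanNonzeroSingleton F₀ _ (w i) (hw0 i)).surjective x
      rw [LinearEquiv.trans_apply, LinearEquiv.symm_apply_apply]
      show OrthMono.sq F₀ I6 (c • w k) = OrthMono.sq F₀ I6 (c • w i)
      simp [Quad.map_smul', hw, OrthMono.sq_apply]
  have hmax := OrthMono.isMaximalIn_frame_gen (OrthMono.sq F₀ I6) hnds h20 (hcard0 ▸ hqp)
    (Or.inr (Or.inr (by simp))) frame6 hframe
  let χ : Quad.oG (OrthMono.sq F₀ I6) →* GL I6 F₀ :=
    (glEquiv I6 F₀).symm.toMonoidHom.comp (Quad.oG (OrthMono.sq F₀ I6)).subtype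
  have hst : ∀ A : Cfsg.SU 4 E q, (χ (Φ A) ∈ Cfsg.Geo.decompositionStabilizer frame6 ↔ Mono6 A) := by
    intro A
    rw [hMono]
    have e0 : Matrix.toLin' ((χ (Φ A) : GL I6 F₀) : Matrix I6 I6 F₀) = (Φ A).1.toLinearMap :=
      LinearMap.ext fun x => by
        conv_rhs => rw [← (glEquiv I6 F₀).apply_symm_apply (Φ A).1]
        rw [LinearEquiv.coe_coe, glEquiv_apply, Matrix.toLin'_apply]
        rfl
    show (∃ τ : Equiv.Perm (Fin 6), ∀ i, _) ↔ _
    rw [e0]
    constructor
    · rintro ⟨τ, hτ⟩ s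
      have h1 : (Φ A).1 (Pi.single s 1) ∈ frame6 (τ (finSumFinEquiv s)) := hτ (finSumFinEquiv s) ▸
        Submodule.mem_map_of_mem (by
          show Pi.single s 1 ∈ Submodule.span F₀ {(Pi.single (finSumFinEquiv.symm (finSumFinEquiv s)) 1 : I6 → F₀)}
          rw [Equiv.symm_apply_apply]; exact Submodule.mem_span_singleton_self _)
      obtain ⟨r, hr⟩ := Submodule.mem_span_singleton.1 h1
      exact ⟨_, r, hr.symm⟩
    · intro hm
      choose τ c hc using hm
      have nz : ∀ s, c s ≠ 0 := fun s e => by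
        have := (Φ A).1.injective (show (Φ A).1 (Pi.single s 1) = (Φ A).1 0 by rw [hc, e, zero_smul, map_zero])
        simpa using congrFun this s
      have hinj : Function.Injective τ := fun s t e => by
        by_contra hne
        have h1 : (Φ A).1 (c t • Pi.single s 1) = (Φ A).1 (c s • Pi.single t 1) := by
          rw [map_smul, map_smul, hc, hc, e, smul_smul, smul_smul, mul_comm]
        have := congrFun ((Φ A).1.injective h1) s
        simp [Ne.symm hne] at this
        exact nz t this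
      refine ⟨finSumFinEquiv.symm.trans ((Equiv.ofBijective τ (Finite.injective_iff_bijective.1 hinj)).trans
        finSumFinEquiv), fun i => ?_⟩
      simp only [frame6, Equiv.trans_apply, Equiv.ofBijective_apply, Equiv.symm_apply_apply]
      rw [Submodule.map_span, Set.image_singleton, LinearEquiv.coe_coe, hc]
      exact Submodule.span_singleton_smul_eq (Ne.isUnit (nz _)) _
  obtain ⟨f, hf⟩ : ∃ f, f = (SpecialLinearGroup.toGL (n := Fin 4) (R := E)).comp (Cfsg.SU 4 E q).subtype := ⟨_, rfl⟩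
  have hfA : ∀ A : Cfsg.SU 4 E q, f A = SpecialLinearGroup.toGL A.1 := fun A => by rw [hf]; rfl
  let M : Subgroup (GL I6 F₀) := (K.comap f).map (χ.comp Φ)
  have hM2 : M ≤ Cfsg.Geo.omegaGL ⇑(OrthMono.sq F₀ I6) := by
    rintro _ ⟨g, -, rfl⟩
    refine (Subfield.RootOrth.mem_omegaGL _ (Φ g)).2 ?_
    rw [← hrange]
    exact ⟨g, rfl⟩
  have hM1 : Cfsg.Geo.decompositionStabilizer frame6 ⊓ Cfsg.Geo.omegaGL ⇑(OrthMono.sq F₀ I6) ≤ M := by
    rintro x ⟨hx1, hx2⟩
    obtain ⟨k, hk, hkx⟩ := Subfield.RootOrth.exists_oG_of_omega _ hx2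
    rw [← hrange] at hk
    obtain ⟨g, rfl⟩ := hk
    have hxg : χ (Φ g) = x := by
      show (glEquiv I6 F₀).symm (Φ g).1 = x
      rw [hkx, MulEquiv.symm_apply_apply]
    obtain ⟨hgU, hgd⟩ := mem_of_sl hσ hσq g
    refine ⟨g, ?_, hxg⟩
    show f g ∈ K
    rw [hfA]
    exact hK _ hgU hgd (norm_of_mn h2 hj ((mn_iff g).1 ((hst g).1 (hxg.symm ▸ hx1))))
  rcases hmax.2 M hM1 hM2 with e | e
  · left
    intro g hg hgd
    obtain ⟨A, rfl⟩ := exists_sl hσ hσq (hKU hg) hgd
    refine norm_of_mn h2 hj ((mn_iff A).1 ((hst A).1 ?_))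
    have : χ (Φ A) ∈ M := ⟨A, by show f A ∈ K; rw [hfA]; exact hg, rfl⟩
    rw [e] at this
    exact this.1
  · right
    intro g hg hgd
    obtain ⟨A, rfl⟩ := exists_sl hσ hσq hg hgd
    have : χ (Φ A) ∈ M := by
      rw [e]
      refine (Subfield.RootOrth.mem_omegaGL _ (Φ A)).2 ?_
      rw [← hrange]
      exact ⟨A, rfl⟩
    obtain ⟨B, hB, hBx⟩ := this
    have e1 : Φ B = Φ A := Subtype.ext ((glEquiv I6 F₀).symm.injective hBx)
    have hker : A * B⁻¹ ∈ (Exc.sixMinusHom D hσq').ker := MonoidHom.mem_ker.2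
      ((OrthMono.simHom_bijective ψ one_ne_zero hiso).1 (by
        show Φ (A * B⁻¹) = _
        rw [map_mul, map_inv, e1, mul_inv_cancel, map_one]))
    obtain ⟨k1, k2⟩ := Exc.sixMinusHom_ker D hσq' hker
    have hBK : (SpecialLinearGroup.toGL B.1 : G4) ∈ K := hfA B ▸ hB
    have eA : (SpecialLinearGroup.toGL A.1 : G4) =
        SpecialLinearGroup.toGL (A * B⁻¹).1 * SpecialLinearGroup.toGL B.1 := by
      rw [← map_mul, ← Subgroup.coe_mul, inv_mul_cancel_right]
    rw [eA]
    refine mul_mem ?_ hBK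
    rcases mul_self_eq_one_iff.1 k2 with e2 | e2 <;> rw [e2] at k1
    · rw [show (SpecialLinearGroup.toGL (A * B⁻¹).1 : G4) = 1 from Units.ext (k1.trans (map_one _))]
      exact one_mem _
    · rw [show (SpecialLinearGroup.toGL (A * B⁻¹).1 : G4) = -1 from Units.ext (by
        rw [Units.val_neg, Units.val_one]
        exact k1.trans (by rw [map_neg, map_one]))]
      refine hK _ (by rw [mem_UG, Units.val_neg, Units.val_one, ad_neg, ad_one, neg_mul_neg, one_mul]) ?_
        fun r hr => by simpa using hr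
      rw [Units.val_neg, Units.val_one, Matrix.det_neg, Matrix.det_one, Fintype.card_fin]
      ring

open Four in
/-- The base case: four dimensions, unitary. -/
theorem base_four_u (hσq : ∀ x, σ x = x ^ q) (hq : Nat.card (Herm.fixField σ) = q) (hqp : q.Prime) :
    UDichotomy σ 4 := by
  classical
  intro R h K hKU hK
  have h2 := h.two
  have hσ := h.invol
  obtain ⟨j, hj⟩ := h.fourth
  have hσj := h.jconj j hj
  obtain ⟨P₀, hP₀⟩ := exists_conj h.toPS
  -- the conjugator preserves the form up to a scalar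
  have hmem : ∀ a, P₀ * ga a * P₀⁻¹ ∈ R := fun a => (hP₀ _).2 (by
    rw [show P₀⁻¹ * (P₀ * ga a * P₀⁻¹) * P₀ = ga a by group]; exact ga_mem a)
  have hgram : ∀ a, ad σ (P₀ : M4) * (P₀ : M4) * gMat a = gMat a * (ad σ (P₀ : M4) * (P₀ : M4)) := by
    intro a
    have hs := h.ad_self (hmem a) (by
      rw [show P₀ * ga a * P₀⁻¹ * (P₀ * ga a * P₀⁻¹) = P₀ * (ga a * ga a) * P₀⁻¹ by group, ga_sq, mul_one,
        mul_inv_cancel])
    have hga : ad σ (gMat a : M4) = gMat a := by
      have e := inv_of_UG (ga_UG (σ := σ) (E := E) a)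
      rw [inv_eq_of_mul_eq_one_right (ga_sq a), ga_val] at e
      exact e.symm
    have e1 : (P₀ : M4) * ((ga a : G4) : M4) = ((P₀ * ga a * P₀⁻¹ : G4) : M4) * P₀ := by
      rw [← Units.val_mul, ← Units.val_mul, inv_mul_cancel_right]
    have e2 := congrArg (ad σ) e1
    rw [ad_mul, ad_mul, hs, ga_val, hga] at e2
    calc ad σ (P₀ : M4) * (P₀ : M4) * gMat a = ad σ (P₀ : M4) * ((P₀ : M4) * ((ga a : G4) : M4)) := by
          rw [ga_val, Matrix.mul_assoc]
      _ = ad σ (P₀ : M4) * ((P₀ * ga a * P₀⁻¹ : G4) : M4) * (P₀ : M4) := by rw [e1, Matrix.mul_assoc]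
      _ = gMat a * ad σ (P₀ : M4) * (P₀ : M4) := by rw [← e2]
      _ = _ := by rw [Matrix.mul_assoc]
  obtain ⟨c, hc⟩ := eq_scalar_of_comm h2 hgram
  have hcf : σ c = c := by
    have := congrArg (ad σ) hc
    rw [ad_mul, ad_ad hσ.invol, hc, ad_smul, ad_one] at this
    have e := congrFun (congrFun this 0) 0
    simpa using e.symm
  have hc0 : c ≠ 0 := fun e => by
    rw [e, zero_smul] at hc
    have := congrArg Matrix.det hc
    rw [Matrix.det_mul, Matrix.det_zero, mul_eq_zero] at this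
    have hu : IsUnit (P₀ : M4).det := (Matrix.isUnit_iff_isUnit_det _).1 P₀.isUnit
    rcases this with e1 | e1
    · rw [ad, Matrix.det_transpose, ← RingHom.mapMatrix_apply, ← RingHom.map_det, map_eq_zero] at e1
      exact hu.ne_zero e1
    · exact hu.ne_zero e1
  obtain ⟨d, hd⟩ := Herm.exists_norm hσ (a := c⁻¹) (by rw [map_inv₀, hcf])
  have hd0 : d ≠ 0 := fun e => inv_ne_zero hc0 (by rw [← hd, e, zero_mul])
  obtain ⟨P, hPdef⟩ : ∃ P, P = sc (Units.mk0 d hd0) * P₀ := ⟨_, rfl⟩
  have hPU : P ∈ (UG σ : Subgroup G4) := by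
    rw [hPdef, mem_UG, Units.val_mul, sc_val, Units.val_mk0, Matrix.smul_mul, Matrix.one_mul, ad_smul,
      smul_mul_smul_comm, hc, smul_smul, mul_comm (σ d) d, hd, inv_mul_cancel₀ hc0, one_smul]
  have hP : ∀ g : G4, g ∈ R ↔ P⁻¹ * g * P ∈ R0 E := fun g => by
    rw [hP₀ g, show P⁻¹ * g * P = P₀⁻¹ * g * P₀ by
      rw [hPdef, _root_.mul_inv_rev]
      calc P₀⁻¹ * (sc (Units.mk0 d hd0))⁻¹ * g * (sc (Units.mk0 d hd0) * P₀)
          = P₀⁻¹ * ((sc (Units.mk0 d hd0))⁻¹ * (g * sc (Units.mk0 d hd0))) * P₀ := by group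
        _ = _ := by rw [← sc_comm, inv_mul_cancel_left]]
  have hdet : ∀ g : G4, ((P * g * P⁻¹ : G4) : M4).det = (g : M4).det := fun g => by
    rw [Units.val_mul, Units.val_mul, Matrix.det_mul, Matrix.det_mul, mul_comm, ← mul_assoc, ← Matrix.det_mul,
      ← Units.val_mul, inv_mul_cancel, Units.val_one, Matrix.det_one, one_mul]
  have tr : ∀ g : G4, (∀ r ∈ R0 E, g * r * g⁻¹ ∈ R0 E) → ∀ r ∈ R, P * g * P⁻¹ * r * (P * g * P⁻¹)⁻¹ ∈ R := by
    intro g hg r hr
    refine (hP _).2 ?_
    rw [show P⁻¹ * (P * g * P⁻¹ * r * (P * g * P⁻¹)⁻¹) * P = g * (P⁻¹ * r * P) * g⁻¹ by group]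
    exact hg _ ((hP r).1 hr)
  have hconjU : ∀ g : G4, P * g * P⁻¹ ∈ (UG σ : Subgroup G4) → g ∈ (UG σ : Subgroup G4) := fun g hg => by
    have := mul_mem (mul_mem (inv_mem hPU) hg) hPU
    rwa [show P⁻¹ * (P * g * P⁻¹) * P = g by group] at this
  rcases std_base_u hσ hσq hq hqp h2 hj hσj (K.comap (MulAut.conj P).toMonoidHom)
    (fun g hg => hconjU g (hKU hg))
    (fun g hg hgd hn => hK _ (mul_mem (mul_mem hPU hg) (inv_mem hPU)) ((hdet g).trans hgd) (tr g hn))
    with hnorm | hall
  · left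
    obtain ⟨N, hN⟩ : ∃ N, N = K ⊓ Cfsg.Geo.specialLinear (Fin 4) E := ⟨_, rfl⟩
    have hSLd : ∀ {g : G4}, g ∈ Cfsg.Geo.specialLinear (Fin 4) E → (g : M4).det = 1 := fun {g} hg => by
      have : Matrix.GeneralLinearGroup.det g = 1 := hg
      rw [← Matrix.GeneralLinearGroup.val_det_apply, this, Units.val_one]
    have hSLm : ∀ {g : G4}, (g : M4).det = 1 → g ∈ Cfsg.Geo.specialLinear (Fin 4) E := fun {g} hg => Units.ext hg
    have hNR : ∀ n ∈ N, ∀ r ∈ R, n * r * n⁻¹ ∈ R := by
      intro n hn r hr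
      rw [hN] at hn
      have e : P * (P⁻¹ * n * P) * P⁻¹ = n := by group
      have := tr (P⁻¹ * n * P) (hnorm _ (by show P * (P⁻¹ * n * P) * P⁻¹ ∈ K; rw [e]; exact hn.1)
        (by rw [← hdet, e]; exact hSLd hn.2)) r hr
      rwa [e] at this
    have hRN : ∀ r ∈ R, ∃ c, ∃ n ∈ N, r = sc c * n := by
      intro r hr
      obtain ⟨c, u, hu, he⟩ := R0_decomp h2 ((hP r).1 hr)
      have hd1 : ((P * SpecialLinearGroup.toGL u * P⁻¹ : G4) : M4).det = 1 := (hdet _).trans u.2
      refine ⟨c, P * SpecialLinearGroup.toGL u * P⁻¹, ?_, ?_⟩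
      · have hR : P * SpecialLinearGroup.toGL u * P⁻¹ ∈ R := by
          refine (hP _).2 ?_
          rw [show P⁻¹ * (P * SpecialLinearGroup.toGL u * P⁻¹) * P = SpecialLinearGroup.toGL u by group]
          have := mul_mem (sc_mem c⁻¹) ((hP r).1 hr)
          rwa [he, ← mul_assoc, sc_mul, inv_mul_cancel, sc_one, one_mul] at this
        rw [hN]
        exact ⟨hK _ (mul_mem (mul_mem hPU (closure_UG hu)) (inv_mem hPU)) hd1
          (fun s hs => R.mul_mem (R.mul_mem hR hs) (R.inv_mem hR)), hSLm hd1⟩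
      · calc r = P * (P⁻¹ * r * P) * P⁻¹ := by group
          _ = _ := by rw [he, ← mul_assoc P, ← sc_comm, mul_assoc, mul_assoc, mul_assoc]
    refine normal_of_normal h.toPS hNR (fun k hk n hn => ?_) hRN ?_
    · rw [hN] at hn ⊢
      refine ⟨K.mul_mem (K.mul_mem hk hn.1) (K.inv_mem hk), ?_⟩
      exact (MonoidHom.normal_ker (Matrix.GeneralLinearGroup.det : G4 →* Eˣ)).conj_mem n hn.2 k
    · intro a ha b hb ha2 hb2 hna hnb T U hT hU
      obtain ⟨k, hk⟩ : ∃ k : Eˣ, (k : E) = (2 : E)⁻¹ := ⟨Units.mk0 _ (inv_ne_zero h2), rfl⟩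
      refine ⟨k, ?_⟩
      have hd1 : ((sc k * (T * U) : G4) : M4).det = 1 := by
        rw [Units.val_mul, Units.val_mul, sc_val, Matrix.smul_mul, Matrix.one_mul, hT, hU, hk]
        exact det_lift_mul h.toPS ha hb ha2 hb2 hna hnb
      have hTT : ∀ {a T : G4}, a ∈ R → a * a = -1 → (T : M4) = 1 + (a : M4) → ad σ (T : M4) * T = (2 : E) • 1 := by
        intro a T ha ha2 hT
        have e : (a : M4) * (a : M4) = -1 := by rw [← Units.val_mul, ha2, Units.val_neg, Units.val_one]
        have had : ad σ (a : M4) = -(a : M4) := by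
          calc ad σ (a : M4) = ad σ (a : M4) * ((a : M4) * -(a : M4)) := by rw [mul_neg, e, neg_neg, mul_one]
            _ = -(a : M4) := by rw [← Matrix.mul_assoc, h.mem_of_neg ha ha2, one_mul]
        rw [hT, ad_add, ad_one, had, add_mul, mul_add, mul_add, one_mul, mul_one, one_mul, neg_mul, e, neg_neg,
          two_smul]
        abel
      have hU1 : sc k * (T * U) ∈ (UG σ : Subgroup G4) := by
        rw [mem_UG, Units.val_mul, Units.val_mul, sc_val, Matrix.smul_mul, Matrix.one_mul, ad_smul, smul_mul_smul_comm,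
          ad_mul, Matrix.mul_assoc, ← Matrix.mul_assoc (ad σ (T : M4)), hTT ha ha2 hT, Matrix.smul_mul, Matrix.one_mul,
          Matrix.mul_smul, hTT hb hb2 hU, smul_smul, smul_smul, hk, map_inv₀, map_ofNat,
          show (2 : E)⁻¹ * 2⁻¹ * 2 * 2 = 1 by field_simp, one_smul]
      rw [hN]
      refine ⟨hK _ hU1 hd1 fun r hr => ?_, hSLm hd1⟩
      have := h.toPS.lift_normalizes ha ha2 hT (h.toPS.lift_normalizes hb hb2 hU hr)
      rwa [show T * (U * r * U⁻¹) * T⁻¹ = T * U * r * (T * U)⁻¹ by group, ← sc_conj k (T * U * r * (T * U)⁻¹),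
        show sc k * (T * U * r * (T * U)⁻¹) * (sc k)⁻¹ = sc k * (T * U) * r * (sc k * (T * U))⁻¹ by group] at this
  · right
    intro g hg hgd
    have e : P * (P⁻¹ * g * P) * P⁻¹ = g := by group
    have h1 := hall (P⁻¹ * g * P) (hconjU _ (e.symm ▸ hg)) (by rw [← hdet, e]; exact hgd)
    have h2' : P * (P⁻¹ * g * P) * P⁻¹ ∈ K := h1
    rwa [e] at h2'

end Cfsg.Agent.ClassicalMax.SympType.Four
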