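import Cfsg.Agent.ClassicalMax.SympType.LinearBridge
import Cfsg.Agent.ClassicalMax.SympType.UBase

/-!
Normalisers of two-groups of symplectic type with centre of order four are maximal in the special unitary groups of
dimension four and eight over the quadratic extension of a prime field with minus one a non-square.
-/

set_option autoImplicit false
set_option linter.unusedSectionVars false

namespace Cfsg.Agent.ClassicalMax.SympType

open Matrix Cfsg.Agent.Classical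
open scoped commutatorElement

variable {n : ℕ} {F : Type*} [Field F] [Fintype F] {σ : F →+* F} {q : ℕ}

local notation "M" => Matrix (Fin n) (Fin n) F
local notation "G" => GL (Fin n) F

theorem mem_sl_iff {g : G} : g ∈ Cfsg.Geo.specialLinear (Fin n) F ↔ (g : M).det = 1 := by
  constructor
  · intro hg
    have : Matrix.GeneralLinearGroup.det g = 1 := hg
    rw [← Matrix.GeneralLinearGroup.val_det_apply, this, Units.val_one]
  · exact fun hg => Units.ext hg

/-- Some element of the special unitary group fails to normalise. -/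
theorem exists_not_normalise_u (hσq : ∀ x, σ x = x ^ q) (hq : Nat.card (Herm.fixField σ) = q) (hn : 3 ≤ n)
    {R : Subgroup G} (h : PSU σ R) :
    ∃ s ∈ (UG σ : Subgroup G), (s : M).det = 1 ∧ ¬ ∀ r ∈ R, s * r * s⁻¹ ∈ R := by
  by_contra! hc
  have hσ := h.invol
  haveI := h.toPS.nonempty
  obtain ⟨x, hx, y, hy, -, -, -, -, hxx, -, -, -, hxy, -, -, -, -, -⟩ := h.toPS.exists_quad (by simpa using hn)
  have hx1 := h.toPS.pr_anti_ne_one hxy
  have hall := le_of_normalised_u hσ hσq hq hn h.two (R ⊓ (UG σ : Subgroup G)) inf_le_right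
    (fun l hl s hs hsd => ⟨hc s hs hsd l hl.1, mul_mem (mul_mem hs hl.2) (Subgroup.inv_mem _ hs)⟩)
    ⟨x, ⟨hx, h.unit x hx hxx⟩, fun k hk => by
      obtain ⟨e, he⟩ := exists_sc_of_smul hk
      exact hx1 (pr_eq_one_iff.2 ⟨e, he⟩)⟩
  obtain ⟨a, ha, had, b, hb, hbd, hT⟩ := exists_triple_u (n := n) hσ hσq hq (by omega) h.two
  have haR := (hall a ha had).1
  have hbR := (hall b hb hbd).1
  refine hT (commutatorElement_eq_one_iff_mul_comm.2 ?_)
  rcases h.toPS.comm _ (mul_mem haR haR) _ (mul_mem hbR hbR) with e | e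
  · rw [commutatorElement_eq_one_iff_mul_comm.2 e, one_mul, mul_one]
  · have e2 : ⁅a * a, b * b⁆ = (-1 : G) := by
      rw [commutatorElement_def, e, neg_mul, neg_mul, mul_assoc (b * b) (a * a), mul_inv_cancel, mul_one, mul_inv_cancel]
    rw [e2, neg_one_mul, mul_neg_one]

/-- Maximality from the dichotomy. -/
theorem maximal_of_udichotomy (hσq : ∀ x, σ x = x ^ q) (hσ : Herm.IsInvol σ)
    (hq : Nat.card (Herm.fixField σ) = q) (hn : 3 ≤ n) (hqp : q.Prime) (hq4 : q % 4 = 3)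
    (hT : UDichotomy σ n) {R : Subgroup G} (hS : Cfsg.Geo.IsSymplecticTypeGroup 2 R)
    (hirr : Cfsg.Geo.ActsAbsolutelyIrreducibly (Cfsg.Geo.matrixSet R)) (hR : R ≤ Cfsg.GU n F q)
    (hz : Nat.card (Subgroup.center R) = 4) (hdim : (n : F) ≠ 0) :
    Cfsg.Geo.IsMaximalIn (Cfsg.GU n F q ⊓ Cfsg.Geo.specialLinear (Fin n) F)
      (Cfsg.Geo.subgroupNormalizer R ⊓ (Cfsg.GU n F q ⊓ Cfsg.Geo.specialLinear (Fin n) F)) := by
  classical
  haveI : Nonempty (Fin n) := ⟨⟨0, by omega⟩⟩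
  have hcard : Fintype.card F = q ^ 2 := by rw [← hq, ← Herm.card_eq_fix_sq hσ, Nat.card_eq_fintype_card]
  haveI := Fact.mk hqp
  have h2 : (2 : F) ≠ 0 := fun e => by
    haveI : CharP F q := charP_of_card_eq_prime_pow (f := 2) (by rw [hcard])
    have h3 : q ∣ 2 := (CharP.cast_eq_zero_iff F q 2).1 (by exact_mod_cast e)
    have := Nat.le_of_dvd (by norm_num) h3
    omega
  obtain ⟨j, hj⟩ : ∃ j : F, j * j = -1 := by
    obtain ⟨j, hj⟩ := (FiniteField.isSquare_neg_one_iff (F := F)).2 (by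
      rw [hcard, Nat.pow_mod, hq4]; norm_num)
    exact ⟨j, hj.symm⟩
  obtain ⟨m, hm⟩ : ∃ m, q + 1 = 4 * m := ⟨q / 4 + 1, by omega⟩
  have hnorm : ∀ c : F, c * c = 1 ∨ c * c = -1 → σ c * c = 1 := fun c hc => by
    rw [hσq, ← pow_succ, hm, show 4 * m = 2 * (2 * m) by ring, pow_mul, pow_two]
    rcases hc with e | e <;> rw [e]
    · exact one_pow _
    · rw [pow_mul]; norm_num
  have hjc : ∀ i : F, i * i = -1 → σ i = -i := fun i hi => by
    have hi0 : i ≠ 0 := fun e => by simp [e] at hi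
    refine mul_right_cancel₀ hi0 ?_
    rw [hnorm i (Or.inr hi), neg_mul, hi, neg_neg]
  obtain ⟨hP, hN⟩ := ps_of_group hS hirr hz h2 hj (by rwa [Fintype.card_fin])
  have hexp : ∀ r ∈ R, r * r * (r * r) = (1 : G) := fun r hr => by
    have h4 : Monoid.exponent R = 4 := by rw [hS.exponent_eq]; norm_num
    have := congrArg Subtype.val (h4 ▸ Monoid.pow_exponent_eq_one (⟨r, hr⟩ : R))
    rw [Subgroup.coe_pow, Subgroup.coe_one] at this
    rw [← this]
    simp only [show (4 : ℕ) = 2 + 2 from rfl, pow_add, pow_two]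
  have hPU : PSU σ (R ⊔ Cfsg.Geo.scalars (Fin n) F) := by
    refine ⟨hP, hσ, hjc, fun x hx hxx => ?_⟩
    obtain ⟨c, r, hr, rfl⟩ := mem_sup_scalars.1 hx
    refine mul_mem (sc_mem_UG.2 (hnorm _ ?_)) ((UG_iff_GU hσq r).2 (hR hr))
    obtain ⟨k, hk⟩ := pr_eq_one_iff.1 (hP.pr_sq (Subgroup.mem_sup_left hr))
    have h4 := hexp r hr
    rw [hk, sc_mul] at h4
    rw [mul_assoc, ← mul_assoc r, ← sc_comm, mul_assoc (sc c) r r, hk, ← mul_assoc, sc_mul, sc_mul] at hxx
    have e := sc_inj (hxx.trans sc_one.symm)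
    have e1 := congrArg Units.val e
    rw [Units.val_mul, Units.val_mul, Units.val_one] at e1
    rcases sc_sq_one h4 with rfl | rfl
    · left; rwa [Units.val_one, mul_one] at e1
    · right
      rw [Units.val_neg, Units.val_one, mul_neg_one] at e1
      rw [← e1, neg_neg]
  have hmem : ∀ g : G, g ∈ Cfsg.GU n F q ⊓ Cfsg.Geo.specialLinear (Fin n) F ↔
      g ∈ (UG σ : Subgroup G) ∧ (g : M).det = 1 := fun g => by
    rw [Subgroup.mem_inf, ← UG_iff_GU hσq, mem_sl_iff]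
  refine ⟨lt_of_le_of_ne inf_le_right fun e => ?_, fun H hH hHS => ?_⟩
  · obtain ⟨s, hs, hsd, hno⟩ := exists_not_normalise_u hσq hq hn hPU
    refine hno ((hN s).1 ?_)
    have hm' : s ∈ Cfsg.GU n F q ⊓ Cfsg.Geo.specialLinear (Fin n) F := (hmem s).2 ⟨hs, hsd⟩
    rw [← e] at hm'
    exact hm'.1
  · rcases hT _ hPU H (fun g hg => ((hmem g).1 (hHS hg)).1)
      (fun g hg hgd hn' => hH ⟨(hN g).2 hn', (hmem g).2 ⟨hg, hgd⟩⟩) with h | h
    · exact Or.inl (le_antisymm (fun g hg => ⟨(hN g).2 (h g hg), hHS hg⟩) hH)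
    · exact Or.inr (le_antisymm hHS fun g hg => h g ((hmem g).1 hg).1 ((hmem g).1 hg).2)

theorem maximal_four_u {p : ℕ} (hF : Fintype.card F = p ^ 2) (hp : p.Prime) (hp4 : p % 4 = 3)
    {R : Subgroup (GL (Fin 4) F)} (hS : Cfsg.Geo.IsSymplecticTypeGroup 2 R)
    (hirr : Cfsg.Geo.ActsAbsolutelyIrreducibly (Cfsg.Geo.matrixSet R)) (hR : R ≤ Cfsg.GU 4 F p)
    (hz : Nat.card (Subgroup.center R) = 4) :
    Cfsg.Geo.IsMaximalIn (Cfsg.GU 4 F p ⊓ Cfsg.Geo.specialLinear (Fin 4) F)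
      (Cfsg.Geo.subgroupNormalizer R ⊓ (Cfsg.GU 4 F p ⊓ Cfsg.Geo.specialLinear (Fin 4) F)) := by
  obtain ⟨τ, hτq, hτ, hq, -⟩ := exists_powHom hF
  refine maximal_of_udichotomy hτq hτ hq (by norm_num) hp hp4 (Four.base_four_u hτq hq hp) hS hirr hR hz fun e => ?_
  haveI := Fact.mk hp
  haveI : CharP F p := charP_of_card_eq_prime_pow (f := 2) (by rw [hF])
  have := (Nat.prime_dvd_prime_iff_eq hp Nat.prime_two).1
    (hp.dvd_of_dvd_pow (show p ∣ 2 ^ 2 from (CharP.cast_eq_zero_iff F p 4).1 (by exact_mod_cast e)))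
  omega

theorem maximal_eight_u {p : ℕ} (hF : Fintype.card F = p ^ 2) (hp : p.Prime) (hp4 : p % 4 = 3)
    {R : Subgroup (GL (Fin 8) F)} (hS : Cfsg.Geo.IsSymplecticTypeGroup 2 R)
    (hirr : Cfsg.Geo.ActsAbsolutelyIrreducibly (Cfsg.Geo.matrixSet R)) (hR : R ≤ Cfsg.GU 8 F p)
    (hz : Nat.card (Subgroup.center R) = 4) :
    Cfsg.Geo.IsMaximalIn (Cfsg.GU 8 F p ⊓ Cfsg.Geo.specialLinear (Fin 8) F)
      (Cfsg.Geo.subgroupNormalizer R ⊓ (Cfsg.GU 8 F p ⊓ Cfsg.Geo.specialLinear (Fin 8) F)) := by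
  obtain ⟨τ, hτq, hτ, hq, -⟩ := exists_powHom hF
  refine maximal_of_udichotomy hτq hτ hq (by norm_num) hp hp4
    (udichotomy_step hτq hq (by norm_num) dvd_rfl (by norm_num) (Four.base_four_u hτq hq hp)) hS hirr hR hz fun e => ?_
  haveI := Fact.mk hp
  haveI : CharP F p := charP_of_card_eq_prime_pow (f := 2) (by rw [hF])
  have := (Nat.prime_dvd_prime_iff_eq hp Nat.prime_two).1
    (hp.dvd_of_dvd_pow (show p ∣ 2 ^ 3 from (CharP.cast_eq_zero_iff F p 8).1 (by exact_mod_cast e)))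
  omega

end Cfsg.Agent.ClassicalMax.SympType
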