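import Cfsg.Agent.ClassicalMax.SympType.Corner
import Cfsg.Agent.Classical.HermGroup
import Cfsg.Prelude.Def_LieClassical

/-!
Two-groups of symplectic type made of similitudes of a hermitian form: coordinates adapted to the form.
-/

set_option autoImplicit false
set_option linter.unusedSectionVars false

namespace Cfsg.Agent.ClassicalMax.SympType

open Matrix Cfsg.Agent.Classical

variable {a b c ι κ μ : Type*} {E : Type*} [Field E]

/-- the conjugate transpose -/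
def ad (σ : E →+* E) (M : Matrix a b E) : Matrix b a E := (M.map σ)ᵀ

variable {σ : E →+* E}

theorem ad_mul [Fintype b] (M : Matrix a b E) (N : Matrix b c E) : ad σ (M * N) = ad σ N * ad σ M := by
  rw [ad, Matrix.map_mul, Matrix.transpose_mul]
  rfl

theorem ad_ad (hσ : ∀ x, σ (σ x) = x) (M : Matrix a b E) : ad σ (ad σ M) = M := by
  ext i j
  simp [ad, hσ]

theorem ad_one [DecidableEq a] : ad σ (1 : Matrix a a E) = 1 := by
  ext i j
  simp [ad, Matrix.one_apply, apply_ite σ, eq_comm]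

theorem ad_add (M N : Matrix a b E) : ad σ (M + N) = ad σ M + ad σ N := by ext i j; simp [ad]

theorem ad_sub (M N : Matrix a b E) : ad σ (M - N) = ad σ M - ad σ N := by ext i j; simp [ad]

theorem ad_neg (M : Matrix a b E) : ad σ (-M) = -ad σ M := by ext i j; simp [ad]

theorem ad_smul (k : E) (M : Matrix a b E) : ad σ (k • M) = σ k • ad σ M := by ext i j; simp [ad]

/-- the hermitian product -/
def hb (σ : E →+* E) [Fintype a] (u v : a → E) : E := (⇑σ ∘ u) ⬝ᵥ v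

theorem hb_mulVec [Fintype a] [Fintype b] (hσ : ∀ x, σ (σ x) = x) (M : Matrix a b E) (u : b → E) (v : a → E) :
    hb σ (M *ᵥ u) v = hb σ u (ad σ M *ᵥ v) := by
  rw [hb, hb, Matrix.dotProduct_mulVec, ad, Matrix.vecMul_transpose]
  congr 1
  funext i
  exact RingHom.map_mulVec σ M u i

theorem hb_swap [Fintype a] (hσ : ∀ x, σ (σ x) = x) (u v : a → E) : σ (hb σ u v) = hb σ v u := by
  simp only [hb, dotProduct, map_sum, Function.comp_apply, map_mul, hσ, mul_comm]

theorem hb_eq_hermB {n : ℕ} (u v : Fin n → E) : hb σ u v = hermB n σ u v := rfl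

variable [Fintype ι] [DecidableEq ι] [Fintype κ] [DecidableEq κ] [Fintype μ] [DecidableEq μ]

/-- The unitary group. -/
def UG (σ : E →+* E) : Subgroup (GL ι E) where
  carrier := {g | ad σ (g : Matrix ι ι E) * g = 1}
  one_mem' := by simp [ad_one]
  mul_mem' := fun {g h} hg hh => by
    simp only [Set.mem_ofPred_eq, Units.val_mul, ad_mul] at hg hh ⊢
    rw [Matrix.mul_assoc, ← Matrix.mul_assoc (ad σ (g : Matrix ι ι E)), hg, Matrix.one_mul, hh]
  inv_mem' := fun {g} hg => by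
    simp only [Set.mem_ofPred_eq] at hg ⊢
    have e : ((g⁻¹ : GL ι E) : Matrix ι ι E) = ad σ (g : Matrix ι ι E) := Units.inv_eq_of_mul_eq_one_left hg
    calc ad σ ((g⁻¹ : GL ι E) : Matrix ι ι E) * ((g⁻¹ : GL ι E) : Matrix ι ι E)
        = ad σ ((g⁻¹ : GL ι E) : Matrix ι ι E) * ad σ (g : Matrix ι ι E) := by rw [← e]
      _ = 1 := by rw [← ad_mul, ← Units.val_mul, mul_inv_cancel, Units.val_one, ad_one]

theorem mem_UG {g : GL ι E} : g ∈ UG σ ↔ ad σ (g : Matrix ι ι E) * g = 1 := Iff.rfl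

theorem inv_of_UG {g : GL ι E} (hg : g ∈ UG σ) : ((g⁻¹ : GL ι E) : Matrix ι ι E) = ad σ (g : Matrix ι ι E) :=
  Units.inv_eq_of_mul_eq_one_left hg

theorem hb_UG (hσ : ∀ x, σ (σ x) = x) {g : GL ι E} (hg : g ∈ UG σ) (u v : ι → E) :
    hb σ ((g : Matrix ι ι E) *ᵥ u) ((g : Matrix ι ι E) *ᵥ v) = hb σ u v := by
  rw [hb_mulVec hσ, Matrix.mulVec_mulVec, hg, Matrix.one_mulVec]

theorem sc_mem_UG [Nonempty ι] {k : Eˣ} : (sc k : GL ι E) ∈ UG σ ↔ σ (k : E) * k = 1 := by
  rw [mem_UG, sc_val, ad_smul, ad_one, smul_mul_smul_comm, Matrix.one_mul]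
  constructor
  · intro e
    have := congrFun (congrFun e (Classical.arbitrary ι)) (Classical.arbitrary ι)
    simpa using this
  · intro e
    rw [e, one_smul]

theorem UG_iff_GU {n q : ℕ} (hσq : ∀ x, σ x = x ^ q) (g : GL (Fin n) E) : g ∈ UG σ ↔ g ∈ Cfsg.GU n E q := by
  rw [mem_GU_iff hσq, preserves_iff_cols]
  constructor
  · intro h i k
    have := congrFun (congrFun h i) k
    simp [ad, Matrix.mul_apply, Matrix.one_apply] at this
    simp [hermB_apply, Matrix.mulVec_single, this]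
  · intro h
    ext i k
    have := h i k
    simp [hermB_apply, Matrix.mulVec_single] at this
    simp [ad, Matrix.mul_apply, Matrix.one_apply, this]

/-- coordinates are adapted to the form -/
def Emb.IsU {e : Matrix ι ι E} (σ : E →+* E) (eb : Emb e κ) : Prop := eb.proj = ad σ eb.inc

variable [Finite E]

theorem exists_uemb {e : Matrix ι ι E} {d : ℕ} (hσ : Herm.IsInvol σ) (he : ad σ e = e) (eb : Emb e (Fin d)) :
    ∃ eb' : Emb e (Fin d), eb'.IsU σ := by
  classical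
  obtain ⟨Γ, hΓ⟩ : ∃ Γ, Γ = ad σ eb.inc * eb.inc := ⟨_, rfl⟩
  have had : ad σ eb.inc = Γ * eb.proj := by
    calc ad σ eb.inc = ad σ (e * eb.inc) := by rw [eb.e_inc]
      _ = ad σ eb.inc * (eb.inc * eb.proj) := by rw [ad_mul, he, eb.ip]
      _ = _ := by rw [hΓ, Matrix.mul_assoc]
  have hinv : Γ * (eb.proj * ad σ eb.proj) = 1 := by
    rw [hΓ, Matrix.mul_assoc, ← Matrix.mul_assoc eb.inc, eb.ip, ← Matrix.mul_assoc]
    calc ad σ eb.inc * e * ad σ eb.proj = ad σ (eb.proj * (e * eb.inc)) := by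
          rw [ad_mul, ad_mul, he]
      _ = 1 := by rw [eb.e_inc, eb.pi, ad_one]
  obtain ⟨B, hBdef⟩ : ∃ B : (Fin d → E) →ₛₗ[σ] (Fin d → E) →ₗ[E] E,
      ∀ u v, B u v = hb σ (eb.inc *ᵥ u) (eb.inc *ᵥ v) :=
    ⟨LinearMap.mk₂'ₛₗ σ (RingHom.id E) (fun u v => hb σ (eb.inc *ᵥ u) (eb.inc *ᵥ v))
      (fun u u' v => by
        simp only [hb, Matrix.mulVec_add, ← add_dotProduct]
        congr 1; funext i; simp)
      (fun k u v => by
        simp only [hb, Matrix.mulVec_smul, ← smul_dotProduct]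
        congr 1; funext i; simp)
      (fun u v v' => by simp only [hb, Matrix.mulVec_add, dotProduct_add])
      (fun k u v => by simp only [hb, Matrix.mulVec_smul, dotProduct_smul]; rfl), fun u v => rfl⟩
  have hH : Herm.IsHerm B :=
    { toIsInvol := hσ
      symm := fun u v => by rw [hBdef, hBdef, hb_swap hσ.invol]
      nondeg := fun u hu => by
        have h1 : ∀ v, hb σ (Γ *ᵥ u) v = 0 := fun v => by
          have hΓs : ad σ Γ = Γ := by rw [hΓ, ad_mul, ad_ad hσ.invol]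
          have := hu v
          rw [hBdef, hb_mulVec hσ.invol, Matrix.mulVec_mulVec, ← hΓ] at this
          rwa [hb_mulVec hσ.invol, hΓs]
        have h2 : Γ *ᵥ u = 0 := funext fun i => by
          have := h1 (Pi.single i 1)
          simpa [hb] using this
        rw [← Matrix.one_mulVec u, ← mul_eq_one_comm.1 hinv, ← Matrix.mulVec_mulVec, h2, Matrix.mulVec_zero] }
  obtain ⟨b, hb'⟩ := Herm.exists_orthonormal hH
  have hfin : Module.finrank E (Fin d → E) = d := Module.finrank_fin_fun E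
  obtain ⟨C, hC⟩ : ∃ C : Matrix (Fin d) (Fin d) E, C = (Matrix.of fun k => b (Fin.cast hfin.symm k))ᵀ := ⟨_, rfl⟩
  have hcol : ∀ k, C *ᵥ Pi.single k 1 = b (Fin.cast hfin.symm k) := fun k => by
    rw [Matrix.mulVec_single_one, hC]; rfl
  have hG : ad σ C * Γ * C = 1 := by
    ext i k
    have e1 : (ad σ C * Γ * C) i k = B (C *ᵥ Pi.single i 1) (C *ᵥ Pi.single k 1) := by
      rw [hBdef, hb_mulVec hσ.invol, Matrix.mulVec_mulVec, ← hΓ, hb_mulVec hσ.invol, Matrix.mulVec_mulVec,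
        Matrix.mulVec_mulVec, hb]
      simp [Matrix.mulVec_single_one, dotProduct, Pi.single_apply, apply_ite σ]
    rw [e1, hcol, hcol, hb', Matrix.one_apply]
    simp
  have hCu : C * (ad σ C * Γ) = 1 := mul_eq_one_comm.1 hG
  refine ⟨⟨eb.inc * C, ad σ C * ad σ eb.inc, ?_, ?_⟩, ?_⟩
  · rw [Matrix.mul_assoc, ← Matrix.mul_assoc (ad σ eb.inc), ← hΓ, ← Matrix.mul_assoc, hG]
  · rw [had, ← Matrix.mul_assoc (ad σ C), Matrix.mul_assoc eb.inc, ← Matrix.mul_assoc C, hCu, Matrix.one_mul, eb.ip]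
  · show ad σ C * ad σ eb.inc = ad σ (eb.inc * C)
    rw [ad_mul]

namespace Emb

variable {e : Matrix ι ι E} {eb : Emb e κ}

theorem ad_inc (hσ : Herm.IsInvol σ) (hu : eb.IsU σ) : ad σ eb.proj = eb.inc := by rw [hu, ad_ad hσ.invol]

theorem ad_e (hσ : Herm.IsInvol σ) (hu : eb.IsU σ) : ad σ e = e := by
  calc ad σ e = ad σ (eb.inc * eb.proj) := by rw [eb.ip]
    _ = _ := by rw [ad_mul, ad_inc hσ hu, ← hu, eb.ip]

theorem res_mem (hσ : Herm.IsInvol σ) (hu : eb.IsU σ) {g : GL ι E} (hg : g ∈ UG σ)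
    (hc : (g : Matrix ι ι E) * e = e * g) : eb.res ⟨g, hc⟩ ∈ UG σ := by
  rw [mem_UG, Emb.res_val, show ad σ (eb.val (g : Matrix ι ι E)) = eb.val (ad σ (g : Matrix ι ι E)) by
    rw [Emb.val, ad_mul, ad_mul, ad_inc hσ hu, ← hu, Emb.val, Matrix.mul_assoc], ← eb.val_mul hc, hg, eb.val_one]

end Emb

theorem lift_mem_UG {e : Matrix ι ι E} {eb : Emb e μ} (hσ : Herm.IsInvol σ) (hu : eb.IsU σ) {g : GL μ E}
    (hg : g ∈ UG σ) : eb.lift g ∈ UG σ := by
  rw [mem_UG, eb.lift_val, ad_add, ad_sub, ad_one, Emb.ad_e hσ hu, ad_mul, ad_mul, Emb.ad_inc hσ hu, ← hu,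
    ← Matrix.mul_assoc, eb.pmul, hg, eb.pone]

/-- A two-group of symplectic type of similitudes, with the involutions isometries. -/
structure PSU (σ : E →+* E) (R : Subgroup (GL ι E)) : Prop extends PS R where
  invol : Herm.IsInvol σ
  jconj : ∀ j : E, j * j = -1 → σ j = -j
  unit : ∀ x ∈ R, x * x = 1 → x ∈ UG σ

namespace PSU

variable {R : Subgroup (GL ι E)} (h : PSU σ R)
include h

theorem ad_self {x : GL ι E} (hx : x ∈ R) (hxx : x * x = 1) : ad σ (x : Matrix ι ι E) = x := by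
  rw [← inv_of_UG (h.unit x hx hxx), inv_eq_of_mul_eq_one_right hxx]

theorem ad_ez {x : GL ι E} (hx : x ∈ R) (hxx : x * x = 1) : ad σ (ez x) = ez x := by
  rw [ez, ad_smul, ad_add, ad_one, h.ad_self hx hxx, map_inv₀, map_ofNat]

theorem mem_of_neg {a : GL ι E} (ha : a ∈ R) (ha2 : a * a = -1) : a ∈ UG σ := by
  obtain ⟨j, hj⟩ := h.fourth
  have hj0 : j ≠ 0 := fun e => by simp [e] at hj
  haveI := h.toPS.nonempty
  obtain ⟨u, hu⟩ : ∃ u : Eˣ, (u : E) = j := ⟨Units.mk0 j hj0, rfl⟩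
  have huu : u * u = -1 := Units.ext (by rw [Units.val_mul, hu, hj, Units.val_neg, Units.val_one])
  have h1 : sc u * a * (sc u * a) = 1 := by
    rw [mul_assoc, ← mul_assoc a, ← sc_comm, mul_assoc (sc u) a, ← mul_assoc, sc_mul, huu, ha2, sc_neg_one]
    simp
  have h2 : (sc u : GL ι E) ∈ UG σ := sc_mem_UG.2 (by rw [hu, h.jconj j hj, neg_mul, hj, neg_neg])
  have := mul_mem (inv_mem h2) (h.unit _ (mul_mem (h.scal u) ha) h1)
  rwa [inv_mul_cancel_left] at this

theorem exists_uchart {x : GL ι E} (hx : x ∈ R) (hxx : x * x = 1) (hx1 : pr x ≠ 1) {d : ℕ}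
    (hd : Fintype.card ι = 2 * d) : ∃ ch : Chart R x (Fin d), ch.em.IsU σ := by
  obtain ⟨ch⟩ := h.toPS.exists_chart hx hxx hx1 hd
  obtain ⟨em, hem⟩ := exists_uemb h.invol (h.ad_ez hx hxx) ch.em
  exact ⟨{ ch with em := em }, hem⟩

end PSU

namespace Chart

variable {R : Subgroup (GL ι E)} {x : GL ι E} {ch : Chart R x κ}

theorem y_self (h : PSU σ R) (ch : Chart R x κ) : ad σ (ch.y : Matrix ι ι E) = ch.y := h.ad_self ch.ymem ch.ysq

theorem ad_δ (h : PSU σ R) (hu : ch.em.IsU σ) (a b : GL κ E) :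
    ad σ ((ch.δ h.toPS a b : GL ι E) : Matrix ι ι E) =
      ch.em.inc * ad σ (a : Matrix κ κ E) * ch.em.proj +
        (ch.y : Matrix ι ι E) * ch.em.inc * ad σ (b : Matrix κ κ E) * (ch.em.proj * (ch.y : Matrix ι ι E)) := by
  rw [ch.δ_val h.toPS, ad_add]
  have hu' : ad σ ch.em.inc = ch.em.proj := hu.symm
  simp only [ad_mul, ch.y_self h, Emb.ad_inc h.invol hu, hu', Matrix.mul_assoc]

theorem δ_UG (h : PSU σ R) (hu : ch.em.IsU σ) {a b : GL κ E} (ha : a ∈ UG σ) (hb : b ∈ UG σ) :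
    ch.δ h.toPS a b ∈ UG σ := by
  have e : ad σ ((ch.δ h.toPS a b : GL ι E) : Matrix ι ι E) = ((ch.δ h.toPS a⁻¹ b⁻¹ : GL ι E) : Matrix ι ι E) := by
    rw [ch.ad_δ h hu, ← inv_of_UG ha, ← inv_of_UG hb, ← ch.δ_val h.toPS]
  rw [mem_UG, e, ← Units.val_mul, ← ch.δ_inv, inv_mul_cancel, Units.val_one]

theorem fst_UG (h : PSU σ R) (hu : ch.em.IsU σ) {a b : GL κ E} (hg : ch.δ h.toPS a b ∈ UG σ) : a ∈ UG σ := by
  have h2 := Emb.res_mem h.invol hu hg (ch.δ_cent h.toPS a b)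
  rwa [show ch.em.res ⟨_, ch.δ_cent h.toPS a b⟩ = a from Units.ext (ch.δ_fst h.toPS a b)] at h2

theorem PSU_restrict (h : PSU σ R) (hu : ch.em.IsU σ) : PSU σ (ch.em.restrict R) := by
  refine ⟨ch.PS_restrict h.toPS, h.invol, h.jconj, fun a ha haa => ?_⟩
  obtain ⟨u, hu', hue, hua⟩ := ch.em.mem_restrict.1 ha
  obtain ⟨k, hk⟩ := pr_eq_one_iff.1 (h.toPS.pr_sq hu')
  haveI := h.toPS.nonempty
  have hne : Nonempty κ := (ch.PS_restrict h.toPS).nonempty
  have h1 : u * u = 1 := by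
    have e1 : ch.em.val ((u * u : GL ι E) : Matrix ι ι E) = 1 := by
      rw [Units.val_mul, ch.em.val_mul hue, hua, ← Units.val_mul, haa, Units.val_one]
    rw [hk, sc_val, ch.em.val_smul, ch.em.val_one] at e1
    have : (k : E) = 1 := by
      have := congrFun (congrFun e1 (Classical.arbitrary κ)) (Classical.arbitrary κ)
      simpa using this
    rw [hk, show k = 1 from Units.ext this, sc_one]
  rw [show a = ch.em.res ⟨u, hue⟩ from Units.ext hua.symm]
  exact Emb.res_mem h.invol hu (h.unit u hu' h1) hue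

end Chart

end Cfsg.Agent.ClassicalMax.SympType
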