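import Cfsg.Agent.ClassicalMax.SympType.FourKlein

/-!
A two-group of symplectic type in four dimensions is conjugate to the standard one, and the overgroups of its
normaliser normalise it or contain the special linear group.
-/

set_option autoImplicit false
set_option linter.unusedSectionVars false

namespace Cfsg.Agent.ClassicalMax.SympType

open Matrix

section General

variable {ι : Type*} [Fintype ι] [DecidableEq ι] {E : Type*} [Field E] [Finite E] {R : Subgroup (GL ι E)}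

/-- An element conjugating a finite group into itself does so backwards as well. -/
theorem inv_of_norm {g : GL ι E} (hg : ∀ r ∈ R, g * r * g⁻¹ ∈ R) : ∀ r ∈ R, g⁻¹ * r * g ∈ R := by
  intro r hr
  haveI : Finite R := inferInstance
  have hinj : Function.Injective (fun r : R => (⟨g * r * g⁻¹, hg r r.2⟩ : R)) := fun a b e => by
    have e' := congrArg Subtype.val e
    exact Subtype.ext (mul_left_cancel (mul_right_cancel e'))
  obtain ⟨s, hs⟩ := Finite.surjective_of_injective hinj ⟨r, hr⟩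
  have e' : g * s * g⁻¹ = r := congrArg Subtype.val hs
  rw [← e', show g⁻¹ * (g * s * g⁻¹) * g = (s : GL ι E) by group]
  exact s.2

theorem PS.invol (h : PS R) {r : GL ι E} (hr : r ∈ R) (hr1 : pr r ≠ 1) :
    ∃ y ∈ R, y * y = 1 ∧ pr y = pr r ∧ pr y ≠ 1 := by
  obtain ⟨c, y, hy, rfl, hyy⟩ := h.root r hr
  have e : pr y = pr (sc c * y) := by rw [map_mul, pr_sc, one_mul]
  exact ⟨y, hy, hyy, e, e ▸ hr1⟩

theorem PS.anti_of_pr (h : PS R) {x y z : GL ι E} (e : pr z = pr y) (hxy : x * y = -(y * x)) :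
    x * z = -(z * x) := by
  obtain ⟨c, rfl⟩ := pr_eq_iff.1 e.symm
  rw [← mul_assoc, ← sc_comm, mul_assoc, hxy, mul_neg, mul_assoc]

theorem PS.comm_of_pr (h : PS R) {x y z : GL ι E} (e : pr z = pr y) (hxy : x * y = y * x) :
    x * z = z * x := by
  obtain ⟨c, rfl⟩ := pr_eq_iff.1 e.symm
  rw [← mul_assoc, ← sc_comm, mul_assoc, hxy, mul_assoc]

/-- two commuting anticommuting pairs of involutions -/
theorem PS.exists_quad (h : PS R) (hd : 3 ≤ Fintype.card ι) : ∃ x ∈ R, ∃ y ∈ R, ∃ a ∈ R, ∃ b ∈ R,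
    x * x = 1 ∧ y * y = 1 ∧ a * a = 1 ∧ b * b = 1 ∧ x * y = -(y * x) ∧ a * b = -(b * a) ∧
    a * x = x * a ∧ a * y = y * a ∧ b * x = x * b ∧ b * y = y * b := by
  classical
  haveI := h.nonempty
  have hbig : 4 < Nat.card (R.map (pr (ι := ι) (E := E))) := by
    have := h.card_sq_le
    have := Nat.mul_le_mul hd hd
    omega
  obtain ⟨x₀, hx₀, hx₀1⟩ : ∃ r ∈ R, pr r ≠ 1 := by
    by_contra! hc
    have : Nat.card (R.map (pr (ι := ι) (E := E))) ≤ 1 :=
      Finite.card_le_one_iff_subsingleton.2 ⟨fun u v => Subtype.ext (by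
        obtain ⟨_, ru, hru, rfl⟩ := u
        obtain ⟨_, rv, hrv, rfl⟩ := v
        show pr ru = pr rv
        rw [hc ru hru, hc rv hrv])⟩
    omega
  obtain ⟨x, hx, hxx, -, hx1⟩ := h.invol hx₀ hx₀1
  obtain ⟨y₀, hy₀, hxy₀⟩ := h.exists_anti hx hx1
  have hy₀1 : pr y₀ ≠ 1 := h.pr_anti_ne_one (show y₀ * x = -(x * y₀) by rw [hxy₀, neg_neg])
  obtain ⟨y, hy, hyy, hye, hy1⟩ := h.invol hy₀ hy₀1
  have hxy : x * y = -(y * x) := h.anti_of_pr hye hxy₀
  obtain ⟨c, hc, hcn⟩ : ∃ c ∈ R, pr c ∉ Subgroup.closure (pr '' ({x, y} : Set (GL ι E))) := by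
    by_contra! hall
    have hsub : (R.map (pr (ι := ι) (E := E)) : Set (PG ι E)) ⊆ ↑({1, pr x, pr y, pr x * pr y} : Finset (PG ι E)) := by
      rintro _ ⟨r, hr, rfl⟩
      have := hall r hr
      rw [Set.image_pair] at this
      rcases h.closure_two ⟨x, hx, rfl⟩ ⟨y, hy, rfl⟩ this with e | e | e | e <;> simp [e]
    have h1 := Set.ncard_le_ncard hsub (Finset.finite_toSet _)
    rw [Set.ncard_coe_finset] at h1
    have h2 := h1.trans Finset.card_le_four
    have h3 : Nat.card (R.map (pr (ι := ι) (E := E))) = ((R.map (pr (ι := ι) (E := E)) : Subgroup (PG ι E)) : Set (PG ι E)).ncard :=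
      Nat.card_coe_set_eq _
    omega
  have hS : ∀ s ∈ ({x, y} : Set (GL ι E)), s ∈ R := by
    rintro s (rfl | rfl) <;> assumption
  obtain ⟨u₀, hu₀, huS, huc⟩ := h.sep hS hc hcn
  have hu₀1 : pr u₀ ≠ 1 := h.pr_anti_ne_one huc
  obtain ⟨a, ha, haa, hae, ha1⟩ := h.invol hu₀ hu₀1
  have hax : a * x = x * a := (h.comm_of_pr hae (huS x (by simp)).symm).symm
  have hay : a * y = y * a := (h.comm_of_pr hae (huS y (by simp)).symm).symm
  have han : pr a ∉ Subgroup.closure (pr '' ({x, y} : Set (GL ι E))) := by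
    rw [Set.image_pair]
    intro hin
    rcases h.closure_two ⟨x, hx, rfl⟩ ⟨y, hy, rfl⟩ hin with e | e | e | e
    · exact ha1 e
    · exact h.not_comm_of_anti (show y * a = -(a * y) from h.anti_of_pr e (by rw [hxy, neg_neg])) hay.symm
    · exact h.not_comm_of_anti (h.anti_of_pr e hxy) hax.symm
    · rw [← map_mul] at e
      have e' : x * (x * y) = -((x * y) * x) := by rw [mul_assoc x y x, ← mul_neg, ← hxy]
      exact h.not_comm_of_anti (h.anti_of_pr e e') hax.symm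
  obtain ⟨b₀, hb₀, hbS, hba⟩ := h.sep hS ha han
  have hb₀1 : pr b₀ ≠ 1 := h.pr_anti_ne_one hba
  obtain ⟨b, hb, hbb, hbe, -⟩ := h.invol hb₀ hb₀1
  exact ⟨x, hx, y, hy, a, ha, b, hb, hxx, hyy, haa, hbb, hxy, h.anti_of_pr hbe (by rw [hba, neg_neg]), hax, hay,
    (h.comm_of_pr hbe (hbS x (by simp)).symm).symm, (h.comm_of_pr hbe (hbS y (by simp)).symm).symm⟩

end General

namespace Four

variable {F : Type*} [Field F] [Fintype F]

local notation "M4" => Matrix (Fin 4) (Fin 4) F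
local notation "G4" => GL (Fin 4) F

/-- a basis carrying the group to the standard one -/
theorem exists_conj {R : Subgroup G4} (h : PS R) : ∃ P : G4, ∀ g : G4, g ∈ R ↔ P⁻¹ * g * P ∈ R0 F := by
  classical
  obtain ⟨x, hx, y, hy, a, ha, b, hb, hxx, hyy, haa, hbb, hxy, hab, hax, hay, hbx, hby⟩ :=
    h.exists_quad (by simp)
  have hx1 := h.pr_anti_ne_one hxy
  have ha1 := h.pr_anti_ne_one hab
  have hne : pr a ≠ pr x := fun e => h.not_comm_of_anti
    (h.anti_of_pr e (show y * x = -(x * y) by rw [hxy, neg_neg])) hay.symm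
  have hpm := h.proj_mul_ne hx ha hx1 ha1 hne
  obtain ⟨w, hw⟩ : ∃ w : Fin 4 → F, (((1 : M4) + (a : M4)) * (1 + (x : M4))) *ᵥ w ≠ 0 := by
    by_contra! hc
    exact hpm (Matrix.ext_of_mulVec_single fun s => by rw [hc, Matrix.zero_mulVec])
  obtain ⟨v, hv⟩ : ∃ v, v = (((1 : M4) + (a : M4)) * (1 + (x : M4))) *ᵥ w := ⟨_, rfl⟩
  rw [← hv] at hw
  have val : ∀ {p q : G4}, p * q = q * p → (p : M4) * q = q * p := fun e => congrArg Units.val e
  have valn : ∀ {p q : G4}, p * q = -(q * p) → (p : M4) * q = -((q : M4) * p) := fun e => congrArg Units.val e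
  have sqv : ∀ {p : G4}, p * p = 1 → (p : M4) * p = 1 := fun e => congrArg Units.val e
  have hxv : (x : M4) *ᵥ v = v := by
    rw [hv, Matrix.mulVec_mulVec]
    congr 1
    rw [← Matrix.mul_assoc, pcomm (val hax.symm), Matrix.mul_assoc]
    congr 1
    rw [mul_add, mul_one, sqv hxx, add_comm]
  have hav : (a : M4) *ᵥ v = v := by
    rw [hv, Matrix.mulVec_mulVec]
    congr 1
    rw [← Matrix.mul_assoc]
    congr 1
    rw [mul_add, mul_one, sqv haa, add_comm]
  obtain ⟨cols, hcols⟩ : ∃ cols : Fin 4 → Fin 4 → F,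
      cols = ![v, (b : M4) *ᵥ v, (y : M4) *ᵥ v, (y : M4) *ᵥ ((b : M4) *ᵥ v)] := ⟨_, rfl⟩
  obtain ⟨Pm, hPm⟩ : ∃ Pm : M4, Pm = (Matrix.of cols)ᵀ := ⟨_, rfl⟩
  have hPcol : ∀ s, Pm *ᵥ Pi.single s 1 = cols s := fun s => by
    rw [Matrix.mulVec_single_one, hPm]; rfl
  have yb : (y : M4) * b = b * y := val hby.symm
  -- the action of the four involutions
  have hgens : ∀ k, ((![x, a, y, b] : Fin 4 → G4) k : M4) * Pm = Pm * gMat k := by
    intro k
    refine Matrix.ext_of_mulVec_single fun s => ?_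
    rw [← Matrix.mulVec_mulVec, ← Matrix.mulVec_mulVec, hPcol]
    have hsplit : ∀ z : Fin 4 → F, Pm *ᵥ z = ∑ t, z t • cols t := fun z => by
      funext u
      simp [Matrix.mulVec, dotProduct, hPm, Finset.sum_apply, mul_comm]
    rw [hsplit, gMat_eq, hcols]
    have xb : (x : M4) *ᵥ ((b : M4) *ᵥ v) = (b : M4) *ᵥ v := by
      rw [Matrix.mulVec_mulVec, ← val hbx, ← Matrix.mulVec_mulVec, hxv]
    have xy : ∀ z, (x : M4) *ᵥ ((y : M4) *ᵥ z) = -((y : M4) *ᵥ ((x : M4) *ᵥ z)) := fun z => by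
      rw [Matrix.mulVec_mulVec, valn hxy, Matrix.neg_mulVec, ← Matrix.mulVec_mulVec]
    have ab : (a : M4) *ᵥ ((b : M4) *ᵥ v) = -((b : M4) *ᵥ v) := by
      rw [Matrix.mulVec_mulVec, valn hab, Matrix.neg_mulVec, ← Matrix.mulVec_mulVec, hav]
    have ay : ∀ z, (a : M4) *ᵥ ((y : M4) *ᵥ z) = (y : M4) *ᵥ ((a : M4) *ᵥ z) := fun z => by
      rw [Matrix.mulVec_mulVec, val hay, ← Matrix.mulVec_mulVec]
    have by' : ∀ z, (b : M4) *ᵥ ((y : M4) *ᵥ z) = (y : M4) *ᵥ ((b : M4) *ᵥ z) := fun z => by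
      rw [Matrix.mulVec_mulVec, ← yb, ← Matrix.mulVec_mulVec]
    have yy : ∀ z, (y : M4) *ᵥ ((y : M4) *ᵥ z) = z := fun z => by
      rw [Matrix.mulVec_mulVec, sqv hyy, Matrix.one_mulVec]
    have bb : ∀ z, (b : M4) *ᵥ ((b : M4) *ᵥ z) = z := fun z => by
      rw [Matrix.mulVec_mulVec, sqv hbb, Matrix.one_mulVec]
    fin_cases k <;> fin_cases s <;>
      simp [Fin.sum_univ_four, hxv, hav, xb, xy, ab, ay, by', yy, bb, Matrix.mulVec_neg, -Matrix.mulVec_mulVec]
  -- linear independence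
  have hnz : ∀ s, cols s ≠ 0 := by
    have key : ∀ (g : G4) (z : Fin 4 → F), z ≠ 0 → (g : M4) *ᵥ z ≠ 0 := fun g z hz e => hz (by
      have := congrArg (fun t => ((g⁻¹ : G4) : M4) *ᵥ t) e
      simpa [Matrix.mulVec_mulVec] using this)
    intro s
    rw [hcols]
    fin_cases s <;> simp
    · exact hw
    · exact key _ _ hw
    · exact key _ _ hw
    · exact key (y * b) v hw
  have hunit : IsUnit Pm := by
    refine Matrix.mulVec_injective_iff_isUnit.1 ((injective_iff_map_eq_zero (Matrix.mulVecLin Pm)).2 fun z hz => ?_)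
    have hz' : Pm *ᵥ z = 0 := hz
    have hP : ∀ k, Pm *ᵥ ((gMat k : M4) *ᵥ z) = 0 := fun k => by
      rw [Matrix.mulVec_mulVec, ← hgens, ← Matrix.mulVec_mulVec, hz', Matrix.mulVec_zero]
    funext s
    have e1 : Pm *ᵥ (((1 : M4) + (if chi 0 (Sum.inl 0) then 1 else (if s.1 < 2 then 1 else -1 : F)) • gMat 0) *ᵥ
        (((1 : M4) + (if s.1 % 2 = 0 then 1 else -1 : F) • gMat 1) *ᵥ z)) = 0 := by
      simp only [Matrix.add_mulVec, Matrix.one_mulVec, Matrix.smul_mulVec, Matrix.mulVec_add, Matrix.mulVec_smul, hz',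
        hP, smul_zero, add_zero, zero_add]
      rw [Matrix.mulVec_mulVec, ← hgens, ← Matrix.mulVec_mulVec, hP, Matrix.mulVec_zero, smul_zero, smul_zero]
    have e2 : ((1 : M4) + (if chi 0 (Sum.inl 0) then 1 else (if s.1 < 2 then 1 else -1 : F)) • gMat 0) *ᵥ
        (((1 : M4) + (if s.1 % 2 = 0 then 1 else -1 : F) • gMat 1) *ᵥ z) = (4 * z s) • Pi.single s 1 := by
      rw [gMat_eq]
      funext t
      fin_cases s <;> fin_cases t <;>
        simp [chi, Matrix.mulVec, dotProduct, Fin.sum_univ_four] <;> ring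
    rw [e2, Matrix.mulVec_smul, hPcol] at e1
    have h4 : (4 : F) ≠ 0 := by rw [show (4 : F) = 2 * 2 by norm_num]; exact mul_ne_zero h.two h.two
    exact (mul_eq_zero.1 ((smul_eq_zero.1 e1).resolve_right (hnz s))).resolve_left h4
  obtain ⟨P, hP⟩ := hunit
  have hconj : ∀ k, P⁻¹ * (![x, a, y, b] : Fin 4 → G4) k * P = ga k := by
    intro k
    rw [mul_assoc, inv_mul_eq_iff_eq_mul]
    refine Units.ext ?_
    rw [Units.val_mul, Units.val_mul, hP, hgens k, ga_val]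
  have hmem : ∀ k, (![x, a, y, b] : Fin 4 → G4) k ∈ R := fun k => by fin_cases k <;> assumption
  refine ⟨P, fun g => ⟨fun hg k => ?_, fun hg => ?_⟩⟩
  · rw [← hconj k]
    rcases h.comm g hg _ (hmem k) with e | e
    · left
      calc P⁻¹ * g * P * (P⁻¹ * (![x, a, y, b] : Fin 4 → G4) k * P) = P⁻¹ * (g * (![x, a, y, b] : Fin 4 → G4) k) * P := by group
        _ = P⁻¹ * ((![x, a, y, b] : Fin 4 → G4) k * g) * P := by rw [e]
        _ = _ := by group
    · right
      calc P⁻¹ * g * P * (P⁻¹ * (![x, a, y, b] : Fin 4 → G4) k * P) = P⁻¹ * (g * (![x, a, y, b] : Fin 4 → G4) k) * P := by group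
        _ = -(P⁻¹ * ((![x, a, y, b] : Fin 4 → G4) k * g) * P) := by rw [e, mul_neg, neg_mul]
        _ = _ := by congr 1; group
  · obtain ⟨c, u, hu, hgu⟩ := R0_decomp h.two hg
    have hgu' : g = sc c * (P * SpecialLinearGroup.toGL u * P⁻¹) := by
      calc g = P * (P⁻¹ * g * P) * P⁻¹ := by group
        _ = _ := by rw [hgu, ← mul_assoc P, ← sc_comm, mul_assoc, mul_assoc, mul_assoc]
    rw [hgu']
    refine mul_mem (h.scal c) ?_
    clear hgu hgu'
    induction hu using Subgroup.closure_induction with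
    | mem z hz =>
      obtain ⟨k, rfl⟩ := hz
      show P * ga k * P⁻¹ ∈ R
      rw [← hconj k, show P * (P⁻¹ * (![x, a, y, b] : Fin 4 → G4) k * P) * P⁻¹ = (![x, a, y, b] : Fin 4 → G4) k by group]
      exact hmem k
    | one => rw [map_one, mul_one, mul_inv_cancel]; exact one_mem _
    | mul p q _ _ ihp ihq =>
      rw [map_mul, show P * (SpecialLinearGroup.toGL p * SpecialLinearGroup.toGL q) * P⁻¹ =
        P * SpecialLinearGroup.toGL p * P⁻¹ * (P * SpecialLinearGroup.toGL q * P⁻¹) by group]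
      exact mul_mem ihp ihq
    | inv p _ ih =>
      rw [map_inv, show P * (SpecialLinearGroup.toGL p)⁻¹ * P⁻¹ = (P * SpecialLinearGroup.toGL p * P⁻¹)⁻¹ by group]
      exact inv_mem ih

end Four

open Four in
/-- The base case: four dimensions, linear. -/
theorem base_four {F : Type*} [Field F] [Fintype F] (hp : (Fintype.card F).Prime) {R : Subgroup (GL (Fin 4) F)}
    (h : PS R) (K : Subgroup (GL (Fin 4) F))
    (hK : ∀ g ∈ Cfsg.Geo.specialLinear (Fin 4) F, (∀ r ∈ R, g * r * g⁻¹ ∈ R) → g ∈ K) :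
    (∀ g ∈ K, ∀ r ∈ R, g * r * g⁻¹ ∈ R) ∨ Cfsg.Geo.specialLinear (Fin 4) F ≤ K := by
  classical
  obtain ⟨j, hj⟩ := h.fourth
  obtain ⟨P, hP⟩ := exists_conj h
  have hdet : ∀ g : GL (Fin 4) F, P * g * P⁻¹ ∈ Cfsg.Geo.specialLinear (Fin 4) F ↔ g ∈ Cfsg.Geo.specialLinear (Fin 4) F := by
    intro g
    show Matrix.GeneralLinearGroup.det _ = 1 ↔ Matrix.GeneralLinearGroup.det _ = 1
    rw [map_mul, map_mul, map_inv, mul_comm _ (Matrix.GeneralLinearGroup.det g), mul_inv_cancel_right]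
  have tr : ∀ g : GL (Fin 4) F, (∀ r ∈ R0 F, g * r * g⁻¹ ∈ R0 F) →
      ∀ r ∈ R, P * g * P⁻¹ * r * (P * g * P⁻¹)⁻¹ ∈ R := by
    intro g hg r hr
    refine (hP _).2 ?_
    rw [show P⁻¹ * (P * g * P⁻¹ * r * (P * g * P⁻¹)⁻¹) * P = g * (P⁻¹ * r * P) * g⁻¹ by group]
    exact hg _ ((hP r).1 hr)
  rcases std_base h.two hp hj (K.comap (MulAut.conj P).toMonoidHom) (fun g hg hn _ => by
    show P * g * P⁻¹ ∈ K
    exact hK _ ((hdet g).2 hg) (tr g hn)) with hnorm | hall
  · left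
    obtain ⟨N, hN⟩ : ∃ N, N = K ⊓ Cfsg.Geo.specialLinear (Fin 4) F := ⟨_, rfl⟩
    have hNR : ∀ n ∈ N, ∀ r ∈ R, n * r * n⁻¹ ∈ R := by
      intro n hn r hr
      rw [hN] at hn
      have e : P * (P⁻¹ * n * P) * P⁻¹ = n := by group
      have := tr (P⁻¹ * n * P) (hnorm _ (by show P * (P⁻¹ * n * P) * P⁻¹ ∈ K; rw [e]; exact hn.1)
        ((hdet _).1 (by rw [e]; exact hn.2))) r hr
      rwa [e] at this
    have hRN : ∀ r ∈ R, ∃ c, ∃ n ∈ N, r = sc c * n := by
      intro r hr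
      obtain ⟨c, u, -, hu⟩ := R0_decomp h.two ((hP r).1 hr)
      refine ⟨c, P * SpecialLinearGroup.toGL u * P⁻¹, ?_, ?_⟩
      · have hR : P * SpecialLinearGroup.toGL u * P⁻¹ ∈ R := by
          refine (hP _).2 ?_
          rw [show P⁻¹ * (P * SpecialLinearGroup.toGL u * P⁻¹) * P = SpecialLinearGroup.toGL u by group]
          have := mul_mem (sc_mem c⁻¹) ((hP r).1 hr)
          rwa [hu, ← mul_assoc, sc_mul, inv_mul_cancel, sc_one, one_mul] at this
        rw [hN]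
        exact ⟨hK _ ((hdet _).2 (mem_SL_of u)) (fun s hs => R.mul_mem (R.mul_mem hR hs) (R.inv_mem hR)),
          (hdet _).2 (mem_SL_of u)⟩
      · calc r = P * (P⁻¹ * r * P) * P⁻¹ := by group
          _ = _ := by rw [hu, ← mul_assoc P, ← sc_comm, mul_assoc, mul_assoc, mul_assoc]
    refine normal_of_normal h hNR (fun k hk n hn => ?_) hRN ?_
    · rw [hN] at hn ⊢
      refine ⟨K.mul_mem (K.mul_mem hk hn.1) (K.inv_mem hk), ?_⟩
      exact (MonoidHom.normal_ker (Matrix.GeneralLinearGroup.det : GL (Fin 4) F →* Fˣ)).conj_mem n hn.2 k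
    · intro a ha b hb ha2 hb2 hna hnb T U hT hU
      have hconjT : ∀ {a T : GL (Fin 4) F}, a ∈ R → a * a = -1 → (T : Matrix (Fin 4) (Fin 4) F) = 1 + (a : Matrix (Fin 4) (Fin 4) F) →
          ∀ r ∈ R, T * r * T⁻¹ ∈ R := by
        intro a T ha ha2 hT r hr
        rcases h.comm a ha r hr with e | e
        · rw [(h.lift_conj hr ha ha2 hT).1 e]; exact hr
        · rw [(h.lift_conj hr ha ha2 hT).2 e]; exact mul_mem ha hr
      refine ⟨Units.mk0 (2 : F)⁻¹ (inv_ne_zero h.two), ?_⟩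
      have hSL : sc (Units.mk0 (2 : F)⁻¹ (inv_ne_zero h.two)) * (T * U) ∈ Cfsg.Geo.specialLinear (Fin 4) F :=
        Units.ext (by
          rw [Matrix.GeneralLinearGroup.val_det_apply, Units.val_mul, Units.val_mul, sc_val, Matrix.smul_mul,
            Matrix.one_mul, hT, hU, Units.val_mk0]
          exact det_lift_mul h ha hb ha2 hb2 hna hnb)
      rw [hN]
      refine ⟨hK _ hSL fun r hr => ?_, hSL⟩
      have := hconjT ha ha2 hT _ (hconjT hb hb2 hU r hr)
      rw [show T * (U * r * U⁻¹) * T⁻¹ = T * U * r * (T * U)⁻¹ by group] at this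
      generalize (sc (Units.mk0 (2 : F)⁻¹ (inv_ne_zero h.two)) : GL (Fin 4) F) = z, sc_conj (ι := Fin 4) (Units.mk0 (2 : F)⁻¹ (inv_ne_zero h.two)) (T * U * r * (T * U)⁻¹) = hz at *
      rw [show z * (T * U) * r * (z * (T * U))⁻¹ = z * (T * U * r * (T * U)⁻¹) * z⁻¹ by group, hz]
      exact this
  · right
    intro g hg
    have h1 : P⁻¹ * g * P ∈ Cfsg.Geo.specialLinear (Fin 4) F :=
      (hdet _).1 (by rw [show P * (P⁻¹ * g * P) * P⁻¹ = g by group]; exact hg)
    have h2 : P * (P⁻¹ * g * P) * P⁻¹ ∈ K := hall h1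
    rwa [show P * (P⁻¹ * g * P) * P⁻¹ = g by group] at h2

end Cfsg.Agent.ClassicalMax.SympType
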