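import Cfsg.Agent.ClassicalMax.SympType.Lift

/-!
Restriction to the image of an idempotent, block coordinates for an involution and an anticommuting one, and the
group induced on an eigenspace.
-/

set_option autoImplicit false
set_option linter.unusedSectionVars false

namespace Cfsg.Agent.ClassicalMax.SympType

open Matrix

variable {ι κ μ : Type*} [Fintype ι] [DecidableEq ι] [Fintype κ] [DecidableEq κ] [Fintype μ] [DecidableEq μ]
  {E : Type*} [Field E]

local notation "G" => GL ι E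
local notation "M" => Matrix ι ι E

/-- coordinates on the image of an idempotent -/
structure Emb (e : Matrix ι ι E) (κ : Type*) [Fintype κ] [DecidableEq κ] where
  inc : Matrix ι κ E
  proj : Matrix κ ι E
  pi : proj * inc = 1
  ip : inc * proj = e

namespace Emb

variable {e : Matrix ι ι E} (eb : Emb e κ)

include eb in
theorem idem : e * e = e := by
  calc e * e = eb.inc * eb.proj * (eb.inc * eb.proj) := by rw [eb.ip]
    _ = e := by rw [Matrix.mul_assoc, ← Matrix.mul_assoc eb.proj, eb.pi, Matrix.one_mul, eb.ip]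

theorem proj_e : eb.proj * e = eb.proj := by
  calc eb.proj * e = eb.proj * (eb.inc * eb.proj) := by rw [eb.ip]
    _ = _ := by rw [← Matrix.mul_assoc, eb.pi, Matrix.one_mul]

theorem e_inc : e * eb.inc = eb.inc := by
  calc e * eb.inc = eb.inc * eb.proj * eb.inc := by rw [eb.ip]
    _ = _ := by rw [Matrix.mul_assoc, eb.pi, Matrix.mul_one]

/-- the restriction of a matrix -/
def val (m : M) : Matrix κ κ E := eb.proj * m * eb.inc

theorem val_one : eb.val 1 = 1 := by rw [val, Matrix.mul_one, eb.pi]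

theorem val_smul (c : E) (m : M) : eb.val (c • m) = c • eb.val m := by
  simp [val, Matrix.mul_smul, Matrix.smul_mul]

theorem val_neg (m : M) : eb.val (-m) = -eb.val m := by simp [val]

theorem val_mul {a b : M} (hb : b * e = e * b) : eb.val (a * b) = eb.val a * eb.val b := by
  have h1 : eb.val a * eb.val b = eb.proj * a * (e * b) * eb.inc := by
    simp only [val, ← eb.ip, Matrix.mul_assoc]
  rw [h1, ← hb, val]
  simp only [Matrix.mul_assoc, eb.e_inc]

theorem inc_val (m : M) : eb.inc * eb.val m * eb.proj = e * m * e := by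
  simp only [val, ← eb.ip, Matrix.mul_assoc]

theorem val_of_mul {m m' : M} (h : e * m = e * m') : eb.val m = eb.val m' := by
  rw [val, val, ← eb.proj_e, Matrix.mul_assoc eb.proj e, Matrix.mul_assoc eb.proj e, h]

theorem mul_of_val {m m' : M} (hm : m * e = e * m) (hm' : m' * e = e * m') (h : eb.val m = eb.val m') :
    e * m = e * m' := by
  have k : ∀ {z : M}, z * e = e * z → e * z * e = e * z := fun {z} hz => by
    rw [Matrix.mul_assoc, hz, ← Matrix.mul_assoc, eb.idem]
  rw [← k hm, ← k hm', ← eb.inc_val, ← eb.inc_val, h]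

theorem val_e : eb.val e = 1 := by rw [val, eb.proj_e, eb.pi]

/-- the elements commuting with the idempotent -/
def cent (e : M) : Subgroup G where
  carrier := {g | (g : M) * e = e * g}
  one_mem' := by simp
  mul_mem' := fun {a b} ha hb => by
    simp only [Set.mem_ofPred_eq, Units.val_mul] at ha hb ⊢
    rw [Matrix.mul_assoc, hb, ← Matrix.mul_assoc, ha, Matrix.mul_assoc]
  inv_mem' := fun {a} ha => by
    simp only [Set.mem_ofPred_eq] at ha ⊢
    calc ((a⁻¹ : G) : M) * e = ((a⁻¹ : G) : M) * (e * a) * ((a⁻¹ : G) : M) := by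
          simp only [Matrix.mul_assoc, ← Units.val_mul, mul_inv_cancel, Units.val_one, Matrix.mul_one]
      _ = e * ((a⁻¹ : G) : M) := by
          rw [← ha, ← Matrix.mul_assoc, ← Units.val_mul, inv_mul_cancel, Units.val_one, Matrix.one_mul]

theorem mem_cent {g : G} : g ∈ cent e ↔ (g : M) * e = e * g := Iff.rfl

/-- restriction as a homomorphism -/
def res : cent (ι := ι) (E := E) e →* GL κ E where
  toFun g :=
    { val := eb.val (g.1 : M)
      inv := eb.val ((g.1⁻¹ : G) : M)
      val_inv := by rw [← eb.val_mul (inv_mem g.2), ← Units.val_mul, mul_inv_cancel, Units.val_one, eb.val_one]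
      inv_val := by rw [← eb.val_mul g.2, ← Units.val_mul, inv_mul_cancel, Units.val_one, eb.val_one] }
  map_one' := Units.ext eb.val_one
  map_mul' a b := Units.ext (eb.val_mul b.2)

theorem res_val (g : cent (ι := ι) (E := E) e) : ((eb.res g : GL κ E) : Matrix κ κ E) = eb.val (g.1 : M) := rfl

/-- the image of a subgroup on the eigenspace -/
def restrict (R : Subgroup G) : Subgroup (GL κ E) := (R.subgroupOf (cent e)).map eb.res

theorem mem_restrict {R : Subgroup G} {a : GL κ E} :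
    a ∈ eb.restrict R ↔ ∃ g ∈ R, (g : M) * e = e * g ∧ eb.val (g : M) = a := by
  constructor
  · rintro ⟨g, hg, rfl⟩
    exact ⟨g.1, hg, g.2, rfl⟩
  · rintro ⟨g, hg, hc, hv⟩
    exact ⟨⟨g, hc⟩, hg, Units.ext hv⟩

/-- composition of coordinates -/
def comp {f : Matrix κ κ E} (em₂ : Emb f μ) : Emb (eb.inc * f * eb.proj) μ where
  inc := eb.inc * em₂.inc
  proj := em₂.proj * eb.proj
  pi := by rw [Matrix.mul_assoc, ← Matrix.mul_assoc eb.proj, eb.pi, Matrix.one_mul, em₂.pi]
  ip := by
    conv_rhs => rw [← em₂.ip]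
    simp only [Matrix.mul_assoc]

theorem comp_val {f : Matrix κ κ E} (em₂ : Emb f μ) (m : M) : (eb.comp em₂).val m = em₂.val (eb.val m) := by
  simp only [val, comp, Matrix.mul_assoc]

end Emb

theorem exists_emb {e : M} (he : e * e = e) {d : ℕ} (hd : e.rank = d) : Nonempty (Emb e (Fin d)) := by
  classical
  obtain ⟨f, hf⟩ : ∃ f, f = Matrix.toLin' e := ⟨_, rfl⟩
  have hfin : Module.finrank E (LinearMap.range f) = d := by rw [← hd, Matrix.rank, hf]; rfl
  let B : Module.Basis (Fin d) E (LinearMap.range f) := Module.finBasisOfFinrankEq E _ hfin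
  let I : (Fin d → E) →ₗ[E] (ι → E) := (LinearMap.range f).subtype ∘ₗ B.equivFun.symm.toLinearMap
  let P : (ι → E) →ₗ[E] (Fin d → E) := B.equivFun.toLinearMap ∘ₗ f.rangeRestrict
  have hfI : ∀ v, f (I v) = I v := fun v => by
    obtain ⟨z, hz⟩ := (B.equivFun.symm v).2
    show f (B.equivFun.symm v : ι → E) = _
    rw [← hz, hf, Matrix.toLin'_apply, Matrix.toLin'_apply, Matrix.mulVec_mulVec, he, ← Matrix.toLin'_apply, ← hf, hz]
    rfl
  refine ⟨⟨LinearMap.toMatrix' I, LinearMap.toMatrix' P, ?_, ?_⟩⟩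
  · rw [← LinearMap.toMatrix'_comp, ← LinearMap.toMatrix'_id]
    congr 1
    refine LinearMap.ext fun v => ?_
    show B.equivFun (f.rangeRestrict (I v)) = v
    rw [show f.rangeRestrict (I v) = B.equivFun.symm v from Subtype.ext (hfI v), LinearEquiv.apply_symm_apply]
  · rw [← LinearMap.toMatrix'_comp]
    conv_rhs => rw [← LinearMap.toMatrix'_toLin' e, ← hf]
    congr 1
    refine LinearMap.ext fun v => ?_
    show ((B.equivFun.symm (B.equivFun (f.rangeRestrict v)) : LinearMap.range f) : ι → E) = f v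
    rw [LinearEquiv.symm_apply_apply]
    rfl

/-- the projection to the fixed space of an involution -/
def ez (z : G) : M := (2 : E)⁻¹ • (1 + (z : M))

theorem ez_idem (h2 : (2 : E) ≠ 0) {z : G} (hz : z * z = 1) : ez z * ez z = ez z := by
  have e : (z : M) * z = 1 := congrArg Units.val hz
  rw [ez, smul_mul_smul_comm, mul_add, mul_one, add_mul, one_mul, e, add_comm (z : M) 1, ← two_smul E, smul_smul]
  congr 1
  field_simp

theorem z_mul_ez {z : G} (hz : z * z = 1) : (z : M) * ez z = ez z ∧ ez z * (z : M) = ez z := by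
  have e : (z : M) * z = 1 := congrArg Units.val hz
  constructor
  · rw [ez, Matrix.mul_smul, mul_add, mul_one, e, add_comm]
  · rw [ez, Matrix.smul_mul, add_mul, one_mul, e, add_comm]

theorem comm_ez_iff (h2 : (2 : E) ≠ 0) {g z : G} : (g : M) * ez z = ez z * g ↔ g * z = z * g := by
  have hi : ((2 : E)⁻¹) ≠ 0 := inv_ne_zero h2
  constructor
  · intro e
    rw [ez, Matrix.mul_smul, Matrix.smul_mul] at e
    have e' := smul_right_injective M hi e
    simp only [mul_add, mul_one, add_mul, one_mul] at e'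
    exact Units.ext (add_left_cancel e')
  · intro e
    rw [ez, Matrix.mul_smul, Matrix.smul_mul, mul_add, mul_one, add_mul, one_mul, ← Units.val_mul, ← Units.val_mul, e]

variable [Finite E] {R : Subgroup (GL ι E)}

theorem half_rank {e : M} (he : e * e = e) (y : G) (hy : (y : M) * e * ((y⁻¹ : G) : M) = 1 - e) :
    2 * e.rank = Fintype.card ι := by
  have hu : ∀ g : G, IsUnit (g : M).det := fun g => (Matrix.isUnit_iff_isUnit_det _).1 g.isUnit
  have hrank : (1 - e).rank = e.rank := by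
    rw [← hy, Matrix.rank_mul_eq_left_of_isUnit_det _ _ (hu _),
      Matrix.rank_mul_eq_right_of_isUnit_det _ _ (hu _)]
  obtain ⟨f, hf⟩ : ∃ f, f = Matrix.toLin' e := ⟨_, rfl⟩
  have hid : IsIdempotentElem f := by
    show f * f = f
    rw [hf, Module.End.mul_eq_comp, ← Matrix.toLin'_mul, he]
  have h1 := f.finrank_range_add_finrank_ker
  rw [LinearMap.IsIdempotentElem.ker_eq_range_one_sub hid, Module.finrank_pi] at h1
  have e2 : (1 - e).rank = Module.finrank E (LinearMap.range (1 - f)) := by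
    rw [Matrix.rank, hf, show (1 - e).mulVecLin = 1 - Matrix.toLin' e from
      LinearMap.ext fun v => by simp [Matrix.sub_mulVec]]
  have e3 : e.rank = Module.finrank E (LinearMap.range f) := by rw [Matrix.rank, hf]; rfl
  omega

theorem anti_ez {x y : G} (hxy : x * y = -(y * x)) (h2 : (2 : E) ≠ 0) : (y : M) * ez x = (1 - ez x) * y := by
  have e : (x : M) * y = -((y : M) * x) := congrArg Units.val hxy
  rw [ez, Matrix.mul_smul, mul_add, mul_one, sub_mul, one_mul, Matrix.smul_mul, add_mul, one_mul, e]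
  ext u v
  simp only [Matrix.smul_apply, Matrix.add_apply, Matrix.sub_apply, Matrix.neg_apply, smul_eq_mul]
  field_simp
  ring

theorem PS.rank_ez (h : PS R) {x : G} (hx : x ∈ R) (hxx : x * x = 1) (hx1 : pr x ≠ 1) :
    2 * (ez x).rank = Fintype.card ι := by
  obtain ⟨y, -, hxy⟩ := h.exists_anti hx hx1
  exact half_rank (ez_idem h.two hxx) y (by
    rw [anti_ez hxy h.two, Matrix.mul_assoc, ← Units.val_mul, mul_inv_cancel, Units.val_one, Matrix.mul_one])

/-- an involution, an anticommuting one, and coordinates on the fixed space -/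
structure Chart (R : Subgroup G) (x : G) (κ : Type*) [Fintype κ] [DecidableEq κ] where
  mem : x ∈ R
  sq : x * x = 1
  y : G
  ymem : y ∈ R
  ysq : y * y = 1
  anti : x * y = -(y * x)
  em : Emb (ez x) κ

theorem PS.exists_chart (h : PS R) {x : G} (hx : x ∈ R) (hxx : x * x = 1) (hx1 : pr x ≠ 1) {d : ℕ}
    (hd : Fintype.card ι = 2 * d) : Nonempty (Chart R x (Fin d)) := by
  obtain ⟨y₀, hy₀, hxy₀⟩ := h.exists_anti hx hx1
  obtain ⟨c, y, hy, rfl, hyy⟩ := h.root y₀ hy₀
  have hxy : x * y = -(y * x) := by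
    rw [← mul_assoc, ← sc_comm, mul_assoc, mul_assoc (sc c) y x, ← mul_neg] at hxy₀
    exact mul_left_cancel hxy₀
  have := h.rank_ez hx hxx hx1
  obtain ⟨em⟩ := exists_emb (ez_idem h.two hxx) (d := d) (by omega)
  exact ⟨⟨hx, hxx, y, hy, hyy, hxy, em⟩⟩

namespace Chart

variable {x : GL ι E} (ch : Chart R x κ) (h : PS R)

include ch in
theorem pr_ne (h : PS R) : pr x ≠ 1 := h.pr_anti_ne_one ch.anti

/-- the inclusion matrix of both eigenspaces -/
def Q : Matrix ι (κ ⊕ κ) E := Matrix.fromCols ch.em.inc ((ch.y : M) * ch.em.inc)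

/-- the coordinates in both eigenspaces -/
def Q' : Matrix (κ ⊕ κ) ι E := Matrix.fromRows ch.em.proj (ch.em.proj * (ch.y : M))

theorem yy : (ch.y : M) * ch.y = 1 := congrArg Units.val ch.ysq

include h in
theorem proj_y_inc : ch.em.proj * (ch.y : M) * ch.em.inc = 0 := by
  have e1 : ch.em.proj * (ch.y : M) * ch.em.inc = ch.em.proj * ((ez x * (1 - ez x)) * (ch.y : M)) * ch.em.inc := by
    calc ch.em.proj * (ch.y : M) * ch.em.inc = ch.em.proj * ez x * (ch.y : M) * (ez x * ch.em.inc) := by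
          rw [ch.em.proj_e, ch.em.e_inc]
      _ = ch.em.proj * (ez x * ((ch.y : M) * ez x)) * ch.em.inc := by simp only [Matrix.mul_assoc]
      _ = _ := by rw [anti_ez ch.anti h.two]; simp only [Matrix.mul_assoc]
  rw [e1, mul_sub, mul_one, ch.em.idem, sub_self, Matrix.zero_mul, Matrix.mul_zero, Matrix.zero_mul]

include h in
theorem Q'_Q : ch.Q' * ch.Q = 1 := by
  rw [Q', Q, Matrix.fromRows_mul_fromCols, ← Matrix.fromBlocks_one]
  congr 1
  · exact ch.em.pi
  · rw [← Matrix.mul_assoc]; exact ch.proj_y_inc h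
  · exact ch.proj_y_inc h
  · rw [← Matrix.mul_assoc, Matrix.mul_assoc ch.em.proj, ch.yy, Matrix.mul_one]; exact ch.em.pi

include h in
theorem Q_Q' : ch.Q * ch.Q' = 1 := by
  rw [Q', Q, Matrix.fromCols_mul_fromRows, ch.em.ip]
  have : (ch.y : M) * ch.em.inc * (ch.em.proj * (ch.y : M)) = 1 - ez x := by
    calc (ch.y : M) * ch.em.inc * (ch.em.proj * (ch.y : M)) = (ch.y : M) * (ch.em.inc * ch.em.proj) * (ch.y : M) := by
          simp only [Matrix.mul_assoc]
      _ = _ := by rw [ch.em.ip, anti_ez ch.anti h.two, Matrix.mul_assoc, ch.yy, Matrix.mul_one]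
  rw [this, add_sub_cancel]

/-- block coordinates -/
def Ψ : GL (κ ⊕ κ) E →* G where
  toFun m :=
    { val := ch.Q * (m : Matrix (κ ⊕ κ) (κ ⊕ κ) E) * ch.Q'
      inv := ch.Q * ((m⁻¹ : GL (κ ⊕ κ) E) : Matrix (κ ⊕ κ) (κ ⊕ κ) E) * ch.Q'
      val_inv := by
        rw [Matrix.mul_assoc _ ch.Q', ← Matrix.mul_assoc ch.Q', ← Matrix.mul_assoc ch.Q', ch.Q'_Q h, Matrix.one_mul,
          Matrix.mul_assoc, ← Matrix.mul_assoc (m : Matrix (κ ⊕ κ) (κ ⊕ κ) E), ← Units.val_mul, mul_inv_cancel,
          Units.val_one, Matrix.one_mul, ch.Q_Q' h]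
      inv_val := by
        rw [Matrix.mul_assoc _ ch.Q', ← Matrix.mul_assoc ch.Q', ← Matrix.mul_assoc ch.Q', ch.Q'_Q h, Matrix.one_mul,
          Matrix.mul_assoc, ← Matrix.mul_assoc ((m⁻¹ : GL (κ ⊕ κ) E) : Matrix (κ ⊕ κ) (κ ⊕ κ) E), ← Units.val_mul,
          inv_mul_cancel, Units.val_one, Matrix.one_mul, ch.Q_Q' h] }
  map_one' := Units.ext (by simp [ch.Q_Q' h])
  map_mul' a b := Units.ext (by
    simp only [Units.val_mul]
    rw [Matrix.mul_assoc _ ch.Q', ← Matrix.mul_assoc ch.Q', ← Matrix.mul_assoc ch.Q', ch.Q'_Q h, Matrix.one_mul]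
    simp only [Matrix.mul_assoc])

theorem Ψ_val (m : GL (κ ⊕ κ) E) : ((ch.Ψ h m : G) : M) = ch.Q * (m : Matrix (κ ⊕ κ) (κ ⊕ κ) E) * ch.Q' := rfl

include h in
theorem Ψ_det (m : GL (κ ⊕ κ) E) : ((ch.Ψ h m : G) : M).det = (m : Matrix (κ ⊕ κ) (κ ⊕ κ) E).det := by
  rw [ch.Ψ_val]
  calc (ch.Q * (m : Matrix (κ ⊕ κ) (κ ⊕ κ) E) * ch.Q').det
      = (1 + ch.Q * (((m : Matrix (κ ⊕ κ) (κ ⊕ κ) E) - 1) * ch.Q')).det := by
        congr 1
        rw [Matrix.sub_mul, Matrix.mul_sub, Matrix.one_mul, ch.Q_Q' h, add_sub_cancel, Matrix.mul_assoc]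
    _ = (1 + ((m : Matrix (κ ⊕ κ) (κ ⊕ κ) E) - 1) * ch.Q' * ch.Q).det := by rw [Matrix.det_one_add_mul_comm]
    _ = _ := by rw [Matrix.mul_assoc, ch.Q'_Q h, Matrix.mul_one, add_sub_cancel]

/-- two diagonal blocks -/
def dia (a b : GL κ E) : GL (κ ⊕ κ) E :=
  ⟨Matrix.fromBlocks (a : Matrix κ κ E) 0 0 (b : Matrix κ κ E),
    Matrix.fromBlocks ((a⁻¹ : GL κ E) : Matrix κ κ E) 0 0 ((b⁻¹ : GL κ E) : Matrix κ κ E),
    by simp [Matrix.fromBlocks_multiply], by simp [Matrix.fromBlocks_multiply]⟩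

omit ch in
theorem dia_mul (a b a' b' : GL κ E) : dia a b * dia a' b' = dia (a * a') (b * b') :=
  Units.ext (by simp [dia, Matrix.fromBlocks_multiply])

omit ch in
theorem dia_inv (a b : GL κ E) : (dia a b)⁻¹ = dia a⁻¹ b⁻¹ :=
  inv_eq_of_mul_eq_one_right (by rw [dia_mul, mul_inv_cancel, mul_inv_cancel]; exact Units.ext (by simp [dia]))

/-- the block diagonal element -/
def δ (a b : GL κ E) : G := ch.Ψ h (dia a b)

theorem δ_val (a b : GL κ E) : ((ch.δ h a b : G) : M) = ch.em.inc * (a : Matrix κ κ E) * ch.em.proj +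
    (ch.y : M) * ch.em.inc * (b : Matrix κ κ E) * (ch.em.proj * (ch.y : M)) := by
  rw [δ, ch.Ψ_val, Q, Q', dia, Matrix.fromCols_mul_fromBlocks, Matrix.mul_zero, Matrix.mul_zero, add_zero, zero_add,
    Matrix.fromCols_mul_fromRows]

theorem δ_mul (a b a' b' : GL κ E) : ch.δ h a b * ch.δ h a' b' = ch.δ h (a * a') (b * b') := by
  rw [δ, δ, δ, ← map_mul, dia_mul]

theorem δ_inv (a b : GL κ E) : (ch.δ h a b)⁻¹ = ch.δ h a⁻¹ b⁻¹ := by rw [δ, δ, ← map_inv, dia_inv]

include h in
theorem ez_y_inc : ez x * ((ch.y : M) * ch.em.inc) = 0 := by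
  calc ez x * ((ch.y : M) * ch.em.inc) = ch.em.inc * ch.em.proj * ((ch.y : M) * ch.em.inc) := by rw [ch.em.ip]
    _ = ch.em.inc * (ch.em.proj * (ch.y : M) * ch.em.inc) := by simp only [Matrix.mul_assoc]
    _ = 0 := by rw [ch.proj_y_inc h, Matrix.mul_zero]

include h in
theorem proj_y_ez : ch.em.proj * (ch.y : M) * ez x = 0 := by
  calc ch.em.proj * (ch.y : M) * ez x = ch.em.proj * (ch.y : M) * (ch.em.inc * ch.em.proj) := by rw [ch.em.ip]
    _ = 0 := by rw [← Matrix.mul_assoc, ch.proj_y_inc h, Matrix.zero_mul]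

include h in
theorem δ_cent (a b : GL κ E) : ((ch.δ h a b : G) : M) * ez x = ez x * (ch.δ h a b : G) := by
  rw [ch.δ_val h, add_mul, mul_add, Matrix.mul_assoc _ ch.em.proj (ez x), ch.em.proj_e,
    Matrix.mul_assoc _ (ch.em.proj * (ch.y : M)) (ez x), ch.proj_y_ez h, Matrix.mul_zero,
    show ez x * (ch.em.inc * (a : Matrix κ κ E) * ch.em.proj) = ez x * ch.em.inc * (a : Matrix κ κ E) * ch.em.proj by
      simp only [Matrix.mul_assoc], ch.em.e_inc,
    show ez x * ((ch.y : M) * ch.em.inc * (b : Matrix κ κ E) * (ch.em.proj * (ch.y : M))) =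
      ez x * ((ch.y : M) * ch.em.inc) * (b : Matrix κ κ E) * (ch.em.proj * (ch.y : M)) by simp only [Matrix.mul_assoc],
    ch.ez_y_inc h, Matrix.zero_mul, Matrix.zero_mul]

include h in
theorem δ_comm_x (a b : GL κ E) : ch.δ h a b * x = x * ch.δ h a b := (comm_ez_iff h.two).1 (ch.δ_cent h a b)

include h in
theorem δ_fst (a b : GL κ E) : ch.em.val ((ch.δ h a b : G) : M) = a := by
  have e0 : ch.em.proj * (ch.y : M) * ch.em.inc = 0 := ch.proj_y_inc h
  rw [ch.δ_val h, Emb.val, Matrix.mul_add, Matrix.add_mul,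
    show ch.em.proj * (ch.em.inc * (a : Matrix κ κ E) * ch.em.proj) * ch.em.inc =
      ch.em.proj * ch.em.inc * (a : Matrix κ κ E) * (ch.em.proj * ch.em.inc) by simp only [Matrix.mul_assoc],
    show ch.em.proj * ((ch.y : M) * ch.em.inc * (b : Matrix κ κ E) * (ch.em.proj * (ch.y : M))) * ch.em.inc =
      ch.em.proj * (ch.y : M) * ch.em.inc * (b : Matrix κ κ E) * (ch.em.proj * (ch.y : M)) * ch.em.inc by
        simp only [Matrix.mul_assoc], e0, ch.em.pi]
  simp

include h in
/-- an element commuting with the involution is block diagonal -/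
theorem eq_δ {g : G} (hg : g * x = x * g) {a b : GL κ E} (ha : ch.em.val (g : M) = a)
    (hb : ch.em.val ((ch.y : M) * g * (ch.y : M)) = b) : g = ch.δ h a b := by
  have hge : (g : M) * ez x = ez x * g := (comm_ez_iff h.two).2 hg
  have hc : ((ch.y * g * ch.y : G)) * x = x * (ch.y * g * ch.y) := by
    have a1 : ch.y * x = -(x * ch.y) := by rw [ch.anti, neg_neg]
    calc ch.y * g * ch.y * x = ch.y * g * (ch.y * x) := by simp only [mul_assoc]
      _ = -(ch.y * (g * x) * ch.y) := by rw [a1, mul_neg]; simp only [mul_assoc]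
      _ = -(ch.y * x * (g * ch.y)) := by rw [hg]; simp only [mul_assoc]
      _ = x * (ch.y * g * ch.y) := by rw [a1, neg_mul, neg_neg]; simp only [mul_assoc]
  have hce : ((ch.y * g * ch.y : G) : M) * ez x = ez x * (ch.y * g * ch.y : G) := (comm_ez_iff h.two).2 hc
  refine Units.ext ?_
  rw [ch.δ_val h, ← ha, ← hb, ch.em.inc_val]
  have e2 : (ch.y : M) * ch.em.inc * ch.em.val ((ch.y : M) * g * (ch.y : M)) * (ch.em.proj * (ch.y : M)) =
      (ch.y : M) * (ch.em.inc * ch.em.val ((ch.y : M) * g * (ch.y : M)) * ch.em.proj) * (ch.y : M) := by simp only [Matrix.mul_assoc]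
  rw [e2, ch.em.inc_val]
  have v : ((ch.y * g * ch.y : G) : M) = (ch.y : M) * g * ch.y := by simp only [Units.val_mul]
  rw [v] at hce
  rw [Matrix.mul_assoc (ez x) _ (ez x), hge, ← Matrix.mul_assoc, ch.em.idem, Matrix.mul_assoc (ez x) _ (ez x), hce,
    ← Matrix.mul_assoc (ez x) (ez x), ch.em.idem, ← Matrix.mul_assoc (ch.y : M) (ez x), anti_ez ch.anti h.two]
  simp only [Matrix.mul_assoc]
  rw [← Matrix.mul_assoc (ch.y : M) (ch.y : M), ch.yy, Matrix.one_mul, Matrix.mul_one, sub_mul, one_mul,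
    add_sub_cancel]

include h in
/-- the elements of the group commuting with the involution -/
theorem mem_cases {u : G} (hu : u ∈ R) (hux : u * x = x * u) :
    ∃ a ∈ ch.em.restrict R, ch.em.val (u : M) = a ∧ (u = ch.δ h a a ∨ u = ch.δ h a (-a)) := by
  have hue : (u : M) * ez x = ez x * u := (comm_ez_iff h.two).2 hux
  refine ⟨ch.em.res ⟨u, hue⟩, ch.em.mem_restrict.2 ⟨u, hu, hue, rfl⟩, rfl, ?_⟩
  have v : (ch.y : M) * u * ch.y = ((ch.y * u * ch.y : G) : M) := by simp only [Units.val_mul]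
  rcases h.comm ch.y ch.ymem u hu with e | e
  · left
    refine ch.eq_δ h hux rfl ?_
    rw [v, e, mul_assoc, ch.ysq, mul_one]
    rfl
  · right
    refine ch.eq_δ h hux rfl ?_
    rw [v, e, neg_mul, mul_assoc, ch.ysq, mul_one, Units.val_neg, Emb.val_neg, Units.val_neg]
    rfl

include h in
theorem δ_one_neg : x = ch.δ h 1 (-1) := by
  refine ch.eq_δ h rfl ?_ ?_
  · rw [ch.em.val_of_mul (m' := 1) (by rw [(z_mul_ez ch.sq).2, Matrix.mul_one]), ch.em.val_one, Units.val_one]
  · have e : ch.y * x * ch.y = -x := by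
      rw [show ch.y * x = -(x * ch.y) by rw [ch.anti, neg_neg], neg_mul, mul_assoc, ch.ysq, mul_one]
    rw [show (ch.y : M) * x * ch.y = ((ch.y * x * ch.y : G) : M) by simp only [Units.val_mul], e, Units.val_neg,
      ch.em.val_neg, ch.em.val_of_mul (m' := 1) (by rw [(z_mul_ez ch.sq).2, Matrix.mul_one]), ch.em.val_one,
      Units.val_neg, Units.val_one]

include h in
theorem y_δ (a b : GL κ E) : ch.y * ch.δ h a b * ch.y = ch.δ h b a := by
  refine Units.ext ?_
  rw [Units.val_mul, Units.val_mul, ch.δ_val h, ch.δ_val h, mul_add, add_mul]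
  simp only [Matrix.mul_assoc]
  rw [← Matrix.mul_assoc (ch.y : M) (ch.y : M), ch.yy, Matrix.one_mul, Matrix.mul_one, add_comm]

include h in
/-- both signs occur -/
theorem δ_mem {a : GL κ E} (ha : a ∈ ch.em.restrict R) : ch.δ h a a ∈ R ∧ ch.δ h a (-a) ∈ R := by
  obtain ⟨u, hu, hue, hv⟩ := ch.em.mem_restrict.1 ha
  obtain ⟨a', -, hv', hcase⟩ := ch.mem_cases h hu ((comm_ez_iff h.two).1 hue)
  obtain rfl : a' = a := Units.ext (hv'.symm.trans hv)
  have hxm : ∀ s : GL κ E, x * ch.δ h a' s = ch.δ h a' (-s) := fun s => by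
    calc x * ch.δ h a' s = ch.δ h 1 (-1) * ch.δ h a' s := by rw [← ch.δ_one_neg h]
      _ = _ := by rw [ch.δ_mul, one_mul, neg_one_mul]
  rcases hcase with e | e
  · exact ⟨e ▸ hu, hxm a' ▸ mul_mem ch.mem (e ▸ hu)⟩
  · refine ⟨?_, e ▸ hu⟩
    have := mul_mem ch.mem (e ▸ hu)
    rwa [hxm, neg_neg] at this

include h in
theorem PS_restrict (ch : Chart R x κ) : PS (ch.em.restrict R) := by
  have hdim : Fintype.card ι = 2 * Fintype.card κ := by
    have e1 := h.rank_ez ch.mem ch.sq (ch.pr_ne h)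
    have e2 : (ez x).rank = Fintype.card κ := by
      refine le_antisymm ?_ ?_
      · rw [← ch.em.ip]; exact (Matrix.rank_mul_le_left _ _).trans (Matrix.rank_le_card_width _)
      · have h1 : (ch.em.proj * ch.em.inc).rank ≤ (ez x).rank := by
          rw [show ch.em.proj * ch.em.inc = ch.em.proj * (ez x * ch.em.inc) by rw [ch.em.e_inc]]
          exact (Matrix.rank_mul_le_right _ _).trans (Matrix.rank_mul_le_left _ _)
        rwa [ch.em.pi, Matrix.rank_one] at h1
    omega
  have hne : Fintype.card κ ≠ 0 := fun e0 => h.dim (by rw [hdim, e0]; simp)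
  haveI : Nonempty κ := Fintype.card_pos_iff.1 (Nat.pos_of_ne_zero hne)
  refine ⟨h.two, fun e0 => h.dim (by rw [hdim, Nat.cast_mul, e0, mul_zero]), h.fourth, fun c => ?_, ?_, ?_, ?_⟩
  · refine ch.em.mem_restrict.2 ⟨sc c, h.scal c, ?_, ?_⟩
    · rw [sc_val, Matrix.smul_mul, Matrix.one_mul, Matrix.mul_smul, Matrix.mul_one]
    · rw [sc_val, ch.em.val_smul, ch.em.val_one, sc_val]
  · intro a ha b hb
    obtain ⟨u, hu, hue, hua⟩ := ch.em.mem_restrict.1 ha
    obtain ⟨v, hv, hve, hvb⟩ := ch.em.mem_restrict.1 hb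
    rcases h.comm u hu v hv with e | e
    · left
      refine Units.ext ?_
      rw [Units.val_mul, Units.val_mul, ← hua, ← hvb, ← ch.em.val_mul hve, ← ch.em.val_mul hue, ← Units.val_mul,
        ← Units.val_mul, e]
    · right
      refine Units.ext ?_
      rw [Units.val_neg, Units.val_mul, Units.val_mul, ← hua, ← hvb, ← ch.em.val_mul hve, ← ch.em.val_mul hue,
        ← ch.em.val_neg, ← Units.val_mul, ← Units.val_mul, ← Units.val_neg, e]
  · intro N hN
    obtain ⟨W, hW⟩ : ∃ W : M, W = ch.em.inc * N * ch.em.proj + (ch.y : M) * ch.em.inc * N * (ch.em.proj * (ch.y : M)) :=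
      ⟨_, rfl⟩
    have hyW : (ch.y : M) * W = W * ch.y := by
      rw [hW, mul_add, add_mul]
      simp only [Matrix.mul_assoc]
      rw [← Matrix.mul_assoc (ch.y : M) (ch.y : M), ch.yy, Matrix.one_mul, Matrix.mul_one, add_comm]
    have hWQ : W = ch.Q * Matrix.fromBlocks N 0 0 N * ch.Q' := by
      rw [hW, Q, Q', Matrix.fromCols_mul_fromBlocks, Matrix.mul_zero, Matrix.mul_zero, add_zero, zero_add,
        Matrix.fromCols_mul_fromRows]
    have hδW : ∀ a b : GL κ E, N * (a : Matrix κ κ E) = a * N → N * (b : Matrix κ κ E) = b * N →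
        W * (ch.δ h a b : G) = (ch.δ h a b : G) * W := by
      intro a b ha hb
      rw [hWQ, δ, ch.Ψ_val]
      have k : ∀ A B : Matrix (κ ⊕ κ) (κ ⊕ κ) E, ch.Q * A * ch.Q' * (ch.Q * B * ch.Q') = ch.Q * (A * B) * ch.Q' := by
        intro A B
        rw [Matrix.mul_assoc _ ch.Q', ← Matrix.mul_assoc ch.Q', ← Matrix.mul_assoc ch.Q', ch.Q'_Q h, Matrix.one_mul]
        simp only [Matrix.mul_assoc]
      rw [k, k, dia, Matrix.fromBlocks_multiply, Matrix.fromBlocks_multiply]
      simp [ha, hb]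
    obtain ⟨c, hc⟩ := h.irr W fun r hr => by
      rcases h.comm r hr x ch.mem with e | e
      · obtain ⟨a, ha, -, hcase⟩ := ch.mem_cases h hr e
        rcases hcase with rfl | rfl
        · exact hδW a a (hN a ha) (hN a ha)
        · exact hδW a (-a) (hN a ha) (by rw [Units.val_neg, Matrix.mul_neg, Matrix.neg_mul, hN a ha])
      · have hyr : ch.y * r * x = x * (ch.y * r) := by
          rw [mul_assoc, e, mul_neg, ← mul_assoc, show ch.y * x = -(x * ch.y) by rw [ch.anti, neg_neg], neg_mul,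
            neg_neg, mul_assoc]
        obtain ⟨a, ha, -, hcase⟩ := ch.mem_cases h (mul_mem ch.ymem hr) hyr
        have key : W * ((ch.y * r : G) : M) = ((ch.y * r : G) : M) * W := by
          rcases hcase with e' | e' <;> rw [e']
          · exact hδW a a (hN a ha) (hN a ha)
          · exact hδW a (-a) (hN a ha) (by rw [Units.val_neg, Matrix.mul_neg, Matrix.neg_mul, hN a ha])
        have er : (r : M) = (ch.y : M) * ((ch.y * r : G) : M) := by
          rw [← Units.val_mul, ← mul_assoc, ch.ysq, one_mul]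
        rw [er, ← Matrix.mul_assoc, ← hyW, Matrix.mul_assoc, key, ← Matrix.mul_assoc]
    refine ⟨c, ?_⟩
    have : ch.em.val W = N := by
      rw [hW, Emb.val, Matrix.mul_add, Matrix.add_mul,
        show ch.em.proj * (ch.em.inc * N * ch.em.proj) * ch.em.inc =
          ch.em.proj * ch.em.inc * N * (ch.em.proj * ch.em.inc) by simp only [Matrix.mul_assoc],
        show ch.em.proj * ((ch.y : M) * ch.em.inc * N * (ch.em.proj * (ch.y : M))) * ch.em.inc =
          ch.em.proj * (ch.y : M) * ch.em.inc * N * (ch.em.proj * (ch.y : M)) * ch.em.inc by simp only [Matrix.mul_assoc],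
        ch.proj_y_inc h, ch.em.pi]
      simp
    rw [← this, hc, ch.em.val_smul, ch.em.val_one]
  · intro a ha
    obtain ⟨u, hu, hue, hua⟩ := ch.em.mem_restrict.1 ha
    obtain ⟨c, u', hu', rfl, huu⟩ := h.root u hu
    have hue' : (u' : M) * ez x = ez x * u' := by
      rw [Units.val_mul, sc_val, Matrix.smul_mul, Matrix.one_mul, Matrix.smul_mul, Matrix.mul_smul] at hue
      exact smul_right_injective M c.ne_zero hue
    refine ⟨c, ch.em.res ⟨u', hue'⟩, ch.em.mem_restrict.2 ⟨u', hu', hue', rfl⟩, Units.ext ?_, ?_⟩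
    · rw [← hua, Units.val_mul, Units.val_mul, sc_val, sc_val, Matrix.smul_mul, Matrix.one_mul, Matrix.smul_mul,
        Matrix.one_mul, ch.em.val_smul]
      rfl
    · refine Units.ext ?_
      show ch.em.val (u' : M) * ch.em.val (u' : M) = 1
      rw [← ch.em.val_mul hue', ← Units.val_mul, huu, Units.val_one, ch.em.val_one]

end Chart

end Cfsg.Agent.ClassicalMax.SympType
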