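import Cfsg.Agent.ClassicalMax.SympType.Ascent

/-!
Self-centralising elementary abelian subgroups with a symplectic pairing: when the centralisers of their elements
normalise them, every element fixes a single conjugate.
-/

set_option autoImplicit false

namespace Cfsg.Agent.ClassicalMax.SympType

variable {K : Type*} [Group K]

/-- A self-centralising elementary abelian subgroup with a non-degenerate alternating pairing invariant under its
normaliser. -/
structure Data (A : Subgroup K) (Perp : K → K → Prop) : Prop where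
  sq : ∀ a ∈ A, a * a = 1
  cent : ∀ g, (∀ a ∈ A, g * a = a * g) → g ∈ A
  self : ∀ x ∈ A, Perp x x
  symm : ∀ x ∈ A, ∀ y ∈ A, Perp x y → Perp y x
  mul : ∀ x ∈ A, ∀ y ∈ A, ∀ z ∈ A, Perp (x * y) z ↔ (Perp x z ↔ Perp y z)
  nondeg : ∀ x ∈ A, (∀ y ∈ A, Perp x y) → x = 1
  inv : ∀ g ∈ Subgroup.normalizer (A : Set K), ∀ x ∈ A, ∀ y ∈ A,
    Perp x y → Perp (g * x * g⁻¹) (g * y * g⁻¹)

/-- The normaliser. -/
abbrev nz (A : Subgroup K) : Subgroup K := Subgroup.normalizer (A : Set K)

/-- For any two independent elements some normalising element fixes the first and moves the second off its perp. -/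
def Move (A : Subgroup K) (Perp : K → K → Prop) : Prop :=
  ∀ e ∈ A, ∀ u ∈ A, e ≠ 1 → u ≠ 1 → e ≠ u → ∃ g ∈ nz A, g * e * g⁻¹ = e ∧ ¬ Perp (g * u * g⁻¹) u

theorem eq_one_of_conj {k x : K} (h : k⁻¹ * x * k = 1) : x = 1 := by
  calc x = k * (k⁻¹ * x * k) * k⁻¹ := by group
    _ = 1 := by rw [h, mul_one, mul_inv_cancel]

namespace Data

variable {A : Subgroup K} {Perp : K → K → Prop} (D : Data A Perp)
include D

theorem inv_eq {a : K} (ha : a ∈ A) : a⁻¹ = a := inv_eq_of_mul_eq_one_right (D.sq a ha)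

theorem comm {a b : K} (ha : a ∈ A) (hb : b ∈ A) : a * b = b * a := by
  rw [← D.inv_eq (mul_mem ha hb), _root_.mul_inv_rev, D.inv_eq ha, D.inv_eq hb]

theorem perp_one {z : K} (hz : z ∈ A) : Perp 1 z := by
  have := D.mul 1 (one_mem A) 1 (one_mem A) z hz
  rw [one_mul] at this
  tauto

theorem conj_mem {g a : K} (hg : g ∈ nz A) (ha : a ∈ A) : g * a * g⁻¹ ∈ A :=
  (Subgroup.mem_normalizer_iff.1 hg a).1 ha

theorem le_nz : A ≤ nz A := fun a ha => Subgroup.le_normalizer ha

theorem mem_nz [Finite K] {g : K} (h : ∀ a ∈ A, g * a * g⁻¹ ∈ A) : g ∈ nz A := by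
  haveI : Finite (A : Set K) := Subtype.finite
  exact Subgroup.mem_normalizer_fintype fun a ha => h a ha

/-- Perpendicular to everything in a subgroup. -/
def perpTo (W : Set K) : Subgroup K where
  carrier := {x | x ∈ A ∧ ∀ w ∈ W, w ∈ A → Perp x w}
  one_mem' := ⟨one_mem A, fun _ _ hw => D.perp_one hw⟩
  mul_mem' := fun {x y} hx hy => ⟨mul_mem hx.1 hy.1, fun w hw hwA =>
    (D.mul x hx.1 y hy.1 w hwA).2 (iff_of_true (hx.2 w hw hwA) (hy.2 w hw hwA))⟩
  inv_mem' := fun {x} hx => by rw [D.inv_eq hx.1]; exact hx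

theorem mem_perpTo {W : Set K} {x : K} : x ∈ D.perpTo W ↔ x ∈ A ∧ ∀ w ∈ W, w ∈ A → Perp x w := Iff.rfl

theorem card_perp_mul_le [Finite K] (W : Subgroup K) (hW : W ≤ A) :
    Nat.card (D.perpTo W) * Nat.card W ≤ Nat.card A := by
  induction hn : Nat.card A - Nat.card W using Nat.strong_induction_on generalizing W with
  | _ n ih =>
  subst hn
  rcases eq_or_lt_of_le hW with rfl | hlt
  · rw [show D.perpTo (W : Set K) = ⊥ from eq_bot_iff.2 fun x hx =>
      Subgroup.mem_bot.2 (D.nondeg x hx.1 fun y hy => hx.2 y hy hy), Subgroup.card_bot, one_mul]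
  · obtain ⟨u, huA, huW⟩ := SetLike.exists_of_lt hlt
    set W' := W ⊔ Subgroup.zpowers u with hW'
    have hW'A : W' ≤ A := sup_le hW (Subgroup.zpowers_le.2 huA)
    have hsub : W ≤ W' := le_sup_left
    have h2 : 2 * Nat.card W ≤ Nat.card W' := by
      obtain ⟨c, hc⟩ := Subgroup.card_dvd_of_le hsub
      have hne : Nat.card W ≠ Nat.card W' := fun h =>
        huW ((Subgroup.eq_of_le_of_card_ge hsub h.ge) ▸ Subgroup.mem_sup_right (Subgroup.mem_zpowers u))
      have hW0 : 0 < Nat.card W := Nat.card_pos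
      have hW'0 : 0 < Nat.card W' := Nat.card_pos
      rcases c with _ | _ | c
      · simp at hc; omega
      · simp at hc; omega
      · rw [hc]; nlinarith
    have hle := ih _ (by
      have h3 := Subgroup.card_le_of_le hW'A
      have : 0 < Nat.card W := Nat.card_pos
      omega) W' hW'A rfl
    have hhalf : Nat.card (D.perpTo W) ≤ 2 * Nat.card (D.perpTo W') := by
      classical
      by_cases hall : ∀ x ∈ D.perpTo W, Perp x u
      · have : D.perpTo W ≤ D.perpTo W' := fun x hx => ⟨hx.1, fun w hw hwA => by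
          have : W' ≤ D.perpTo {x} := sup_le (fun v hv => ⟨hW hv, fun t ht htA => by
              rw [Set.mem_singleton_iff.1 ht]; exact D.symm x hx.1 v (hW hv) (hx.2 v hv (hW hv))⟩)
            (Subgroup.zpowers_le.2 ⟨huA, fun t ht htA => by
              rw [Set.mem_singleton_iff.1 ht]; exact D.symm x hx.1 u huA (hall x hx)⟩)
          exact D.symm w hwA x hx.1 ((this hw).2 x rfl hx.1)⟩
        have := Subgroup.card_le_of_le this
        omega
      · push Not at hall
        obtain ⟨x₀, hx₀, hx₀u⟩ := hall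
        have hsub' : ∀ x ∈ D.perpTo W, Perp x u → x ∈ D.perpTo W' := fun x hx hxu => ⟨hx.1, fun w hw hwA => by
          have : W' ≤ D.perpTo {x} := sup_le (fun v hv => ⟨hW hv, fun t ht htA => by
              rw [Set.mem_singleton_iff.1 ht]; exact D.symm x hx.1 v (hW hv) (hx.2 v hv (hW hv))⟩)
            (Subgroup.zpowers_le.2 ⟨huA, fun t ht htA => by
              rw [Set.mem_singleton_iff.1 ht]; exact D.symm x hx.1 u huA hxu⟩)
          exact D.symm w hwA x hx.1 ((this hw).2 x rfl hx.1)⟩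
        let f : D.perpTo W → D.perpTo W' × Bool := fun x =>
          if h : Perp x.1 u then (⟨x.1, hsub' _ x.2 h⟩, true)
          else (⟨x.1 * x₀, hsub' _ (mul_mem x.2 hx₀) ((D.mul _ x.2.1 _ hx₀.1 u huA).2 (iff_of_false h hx₀u))⟩, false)
        have hf : Function.Injective f := fun x y hxy => by
          simp only [f] at hxy
          split_ifs at hxy <;> simp only [Prod.mk.injEq, Subtype.mk.injEq] at hxy
          · exact Subtype.ext hxy.1
          · exact absurd hxy.2 (by decide)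
          · exact absurd hxy.2 (by decide)
          · exact Subtype.ext (mul_right_cancel hxy.1)
        have := Nat.card_le_card_of_injective f hf
        rw [Nat.card_prod, Nat.card_eq_fintype_card (α := Bool), Fintype.card_bool] at this
        omega
    calc Nat.card (D.perpTo W) * Nat.card W ≤ 2 * Nat.card (D.perpTo W') * Nat.card W :=
          Nat.mul_le_mul_right _ hhalf
      _ = Nat.card (D.perpTo W') * (2 * Nat.card W) := by ring
      _ ≤ Nat.card (D.perpTo W') * Nat.card W' := Nat.mul_le_mul_left _ h2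
      _ ≤ Nat.card A := hle

/-- The commutator map of an involution of the normaliser. -/
theorem cm_mem {b u : K} (hb : b ∈ nz A) (hb2 : b * b = 1) (hu : u ∈ A) : u * (b * u * b) ∈ A :=
  mul_mem hu (by simpa [inv_eq_of_mul_eq_one_right hb2] using D.conj_mem hb hu)

theorem cm_mul {b u v : K} (hb : b ∈ nz A) (hb2 : b * b = 1) (hu : u ∈ A) (hv : v ∈ A) :
    (u * v) * (b * (u * v) * b) = u * (b * u * b) * (v * (b * v * b)) := by
  have hbi : b⁻¹ = b := inv_eq_of_mul_eq_one_right hb2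
  have hbu : b * u * b ∈ A := by simpa [hbi] using D.conj_mem hb hu
  have e : b * (u * v) * b = (b * u * b) * (b * v * b) := by
    rw [show b * u * b * (b * v * b) = b * u * (b * b) * v * b by simp only [mul_assoc], hb2, mul_one]
    simp only [mul_assoc]
  calc u * v * (b * (u * v) * b) = u * (v * (b * u * b)) * (b * v * b) := by rw [e]; simp only [mul_assoc]
    _ = _ := by rw [D.comm hv hbu]; simp only [mul_assoc]

/-- The commutators with an involution are perpendicular to what it centralises. -/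
theorem cm_perp {b u y : K} (hb : b ∈ nz A) (hb2 : b * b = 1) (hu : u ∈ A) (hy : y ∈ A)
    (hby : b * y = y * b) : Perp (u * (b * u * b)) y := by
  have hbi : b⁻¹ = b := inv_eq_of_mul_eq_one_right hb2
  have hy' : b * y * b = y := by rw [hby, mul_assoc, hb2, mul_one]
  have hbu : b * u * b ∈ A := by simpa [hbi] using D.conj_mem hb hu
  refine (D.mul u hu _ hbu y hy).2 ⟨fun h => ?_, fun h => ?_⟩
  · simpa [hbi, hy'] using D.inv b hb u hu y hy h
  · have := D.inv b hb _ hbu y hy h
    rwa [hbi, hy', show b * (b * u * b) * b = (b * b) * u * (b * b) by simp only [mul_assoc], hb2, one_mul,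
      mul_one] at this

end Data

/-- The conjugate of `A` by `k`. -/
def cj (A : Subgroup K) (k : K) : Subgroup K := A.map (MulAut.conj k).toMonoidHom

theorem mem_cj {A : Subgroup K} {k b : K} : b ∈ cj A k ↔ k⁻¹ * b * k ∈ A := by
  constructor
  · rintro ⟨a, ha, rfl⟩
    simpa [mul_assoc] using ha
  · exact fun h => ⟨_, h, by simp [mul_assoc]⟩

namespace Data

variable {A : Subgroup K} {Perp : K → K → Prop} (D : Data A Perp) [Finite K]
include D

/-- Two mutually normalising conjugates coincide if their intersection is rigid. -/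
theorem mem_of_mutual (hmove : Move A Perp) (hcard : 4 < Nat.card A) {k : K}
    (hAB : ∀ a ∈ A, k⁻¹ * a * k ∈ nz A) (hBA : ∀ b ∈ cj A k, b ∈ nz A)
    (hinv : ∀ e ∈ A, k⁻¹ * e * k ∈ A → e ≠ 1 → ∀ g ∈ nz A, g * e * g⁻¹ = e → k⁻¹ * g * k ∈ nz A) :
    k ∈ nz A := by
  classical
  by_contra hk
  have hB : ∀ {b : K}, b ∈ cj A k → b * b = 1 := fun {b} hb => by
    have h := D.sq _ (mem_cj.1 hb)
    rw [show k⁻¹ * b * k * (k⁻¹ * b * k) = k⁻¹ * (b * b) * k by group] at h
    exact eq_one_of_conj h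
  obtain ⟨b, hb, hbA⟩ : ∃ b ∈ cj A k, b ∉ A := by
    by_contra h
    push Not at h
    refine hk (D.mem_nz fun a ha => h _ (mem_cj.2 ?_))
    simpa [mul_assoc] using ha
  have hcE : ∀ {b : K}, b ∈ cj A k → ∀ u ∈ A, k⁻¹ * (u * (b * u * b)) * k ∈ A := fun {b} hb u hu => by
    have h1 := D.conj_mem (hAB u hu) (mem_cj.1 hb)
    have h2 := mul_mem h1 (mem_cj.1 hb)
    rwa [show k⁻¹ * u * k * (k⁻¹ * b * k) * (k⁻¹ * u * k)⁻¹ * (k⁻¹ * b * k) = k⁻¹ * (u * b * u⁻¹ * b) * k by group,
      D.inv_eq hu, show u * b * u * b = u * (b * u * b) by simp only [mul_assoc]] at h2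
  -- a non-trivial element of the radical
  obtain ⟨x, hx, hxb⟩ : ∃ x ∈ A, b * x ≠ x * b := by
    by_contra h
    push Not at h
    exact hbA (D.cent b h)
  set v := x * (b * x * b) with hv
  have hvA : v ∈ A := D.cm_mem (hBA b hb) (hB hb) hx
  have hv1 : v ≠ 1 := fun h => hxb (by
    have h1 := congrArg (fun t => x * t * b) h
    simp only [hv, mul_one] at h1
    rwa [← mul_assoc x x, D.sq x hx, one_mul, mul_assoc (b * x), hB hb, mul_one] at h1)
  have hrad : ∀ y ∈ A, k⁻¹ * y * k ∈ A → Perp v y := fun y hy hyk =>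
    D.cm_perp (hBA b hb) (hB hb) hx hy (by
      have := D.comm (mem_cj.1 hb) hyk
      rw [show k⁻¹ * b * k * (k⁻¹ * y * k) = k⁻¹ * (b * y) * k by group,
        show k⁻¹ * y * k * (k⁻¹ * b * k) = k⁻¹ * (y * b) * k by group] at this
      exact mul_left_cancel (mul_right_cancel this))
  by_cases hbig : ∃ e ∈ A, k⁻¹ * e * k ∈ A ∧ e ≠ 1 ∧ e ≠ v
  · obtain ⟨e, he, hek, he1, hev⟩ := hbig
    obtain ⟨g, hg, hge, hgv⟩ := hmove e he v hvA he1 hv1 hev
    have hgvA := D.conj_mem hg hvA
    have hgk : k⁻¹ * (g * v * g⁻¹) * k ∈ A := by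
      have := D.conj_mem (hinv e he hek he1 g hg hge) (hcE hb x hx)
      rwa [show k⁻¹ * g * k * (k⁻¹ * (x * (b * x * b)) * k) * (k⁻¹ * g * k)⁻¹ = k⁻¹ * (g * v * g⁻¹) * k by
        rw [hv]; group] at this
    exact hgv (D.symm v hvA _ hgvA (hrad _ hgvA hgk))
  · push Not at hbig
    -- all the outside elements act as the same transvection
    have hval : ∀ {c : K}, c ∈ cj A k → ∀ u ∈ A, u * (c * u * c) = 1 ∨ u * (c * u * c) = v := fun {c} hc u hu =>
      (eq_or_ne _ 1).imp_right fun h1 => hbig _ (D.cm_mem (hBA c hc) (hB hc) hu) (hcE hc u hu) h1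
    have hfix : ∀ {c : K}, c ∈ cj A k → c ∉ A → ∀ u ∈ A, (u * (c * u * c) = 1 ↔ Perp v u) := by
      intro c hc hcA
      have hcN := hBA c hc
      have hcomm : ∀ u ∈ A, u * (c * u * c) = 1 → c * u = u * c := fun u hu h => by
        have h1 := congrArg (fun t => u * t * c) h
        simp only [mul_one] at h1
        rwa [← mul_assoc u u, D.sq u hu, one_mul, mul_assoc (c * u), hB hc, mul_one] at h1
      obtain ⟨x₀, hx₀, hx₀c⟩ : ∃ x₀ ∈ A, x₀ * (c * x₀ * c) ≠ 1 := by
        by_contra h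
        push Not at h
        exact hcA (D.cent c fun u hu => hcomm u hu (h u hu))
      have hx₀v := (hval hc x₀ hx₀).resolve_left hx₀c
      have himp : ∀ u ∈ A, u * (c * u * c) = 1 → Perp v u := fun u hu h =>
        hx₀v ▸ D.cm_perp hcN (hB hc) hx₀ hu (hcomm u hu h)
      intro u hu
      refine ⟨himp u hu, fun hp => ?_⟩
      obtain ⟨y, hy, hyv⟩ : ∃ y ∈ A, ¬ Perp v y := by
        by_contra h
        push Not at h
        exact hv1 (D.nondeg v hvA h)
      by_contra hne
      have huv := (hval hc u hu).resolve_left hne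
      have hyv' : y * (c * y * c) = v := (hval hc y hy).resolve_left fun h => hyv (himp y hy h)
      have h3 := himp (u * y) (mul_mem hu hy) (by rw [D.cm_mul hcN (hB hc) hu hy, huv, hyv', D.sq v hvA])
      exact hyv (D.symm y hy v hvA (((D.mul u hu y hy v hvA).1 (D.symm v hvA _ (mul_mem hu hy) h3)).1
        (D.symm v hvA u hu hp)))
    have hbA' : ∀ c ∈ cj A k, c ∈ A → c = 1 ∨ c = v := fun c hc hcA =>
      (eq_or_ne c 1).imp_right fun h1 => hbig c hcA (mem_cj.1 hc) h1
    have hsub : (cj A k : Set K) ⊆ ({1, v, b, b * v} : Finset K) := fun c hc => by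
      simp only [Finset.coe_insert, Finset.coe_singleton, Set.mem_insert_iff, Set.mem_singleton_iff]
      by_cases hcA : c ∈ A
      · rcases hbA' c hc hcA with h | h <;> simp [h]
      have hbc : b * c ∈ A := D.cent _ fun u hu => by
        have e1 : b * u * b = c * u * c := by
          have h1 := hfix hb hbA u hu
          have h2 := hfix hc hcA u hu
          have hb' := hval hb u hu
          have hc' := hval hc u hu
          refine mul_left_cancel (a := u) ?_
          by_cases hp : Perp v u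
          · rw [h1.2 hp, h2.2 hp]
          · rw [hb'.resolve_left (hp ∘ h1.1), hc'.resolve_left (hp ∘ h2.1)]
        calc b * c * u = b * (c * u * c) * c := by simp only [mul_assoc, hB hc, mul_one]
          _ = b * (b * u * b) * c := by rw [e1]
          _ = u * (b * c) := by simp only [← mul_assoc, hB hb, one_mul]
      rcases hbA' _ (mul_mem hb hc) hbc with h | h
      · exact Or.inr (Or.inr (Or.inl (by rw [← inv_eq_of_mul_eq_one_right h, inv_eq_of_mul_eq_one_right (hB hb)])))
      · exact Or.inr (Or.inr (Or.inr (by rw [← h, ← mul_assoc, hB hb, one_mul])))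
    have hle : Nat.card (cj A k) ≤ 4 := by
      rw [show Nat.card (cj A k) = Nat.card (cj A k : Set K) from rfl, Nat.card_coe_set_eq]
      exact (Set.ncard_le_ncard hsub (Finset.finite_toSet _)).trans
        (by rw [Set.ncard_coe_finset]; exact Finset.card_le_four)
    have : Nat.card (cj A k) = Nat.card A :=
      (Nat.card_congr (A.equivMapOfInjective _ (MulAut.conj k).injective).toEquiv).symm
    omega

/-- A subgroup normalised by everything that normalises `nz A` is `A` itself. -/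
theorem nz_self (hmove : Move A Perp) (hcard : 4 < Nat.card A) {k : K}
    (hk : k ∈ Subgroup.normalizer (nz A : Set K)) : k ∈ nz A := by
  have h := Subgroup.mem_normalizer_iff.1 (inv_mem hk)
  refine D.mem_of_mutual hmove hcard (fun a ha => ?_) (fun b hb => ?_) fun e _ _ _ g hg _ => ?_
  · simpa using (h a).1 (D.le_nz ha)
  · have := (h b).2 (by simpa using D.le_nz (mem_cj.1 hb))
    exact this
  · simpa using (h g).1 hg

/-- For a non-trivial element fixing a second point the fixed halves are Lagrangian. -/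
theorem lagrangian (hmove : Move A Perp) (hcard : 4 < Nat.card A)
    (hC : ∀ a ∈ A, a ≠ 1 → ∀ g, g * a = a * g → g ∈ nz A) {a k : K} (ha : a ∈ A) (ha1 : a ≠ 1)
    (hak : k⁻¹ * a * k ∈ nz A) (hk : k ∉ nz A) :
    ∃ A₀ B₀ : Subgroup K, A₀ ≤ A ∧ B₀ ≤ cj A k ∧ B₀ ≤ nz A ∧ A₀ ≠ ⊥ ∧
      Nat.card B₀ * Nat.card B₀ = Nat.card A ∧ Nat.card A₀ * Nat.card A₀ = Nat.card A ∧
      (∀ b ∈ B₀, ∀ u ∈ A₀, b * u = u * b) ∧
      (∀ u ∈ A, (∀ w ∈ A₀, Perp u w) ↔ u ∈ A₀) ∧
      (∀ e ∈ A, k⁻¹ * e * k ∈ A → e = 1) ∧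
      (∀ u ∈ A, u ∉ A₀ → ∀ w ∈ A₀, ∃ b ∈ B₀, u * (b * u * b) = w) ∧
      (∀ b ∈ B₀, ∀ u ∈ A, u * (b * u * b) ∈ A₀) ∧
      (∀ b ∈ B₀, b ≠ 1 → ∀ u ∈ A, b * u = u * b → u ∈ A₀) := by
  classical
  have hE : ∀ k, k ∉ nz A → ∀ e ∈ A, k⁻¹ * e * k ∈ A → e = 1 := by
    intro k hk e he hek
    by_contra he1
    have hek1 : k⁻¹ * e * k ≠ 1 := fun h => he1 (eq_one_of_conj h)
    refine hk (D.mem_of_mutual hmove hcard (fun u hu => hC _ hek hek1 _ ?_) (fun b hb => hC e he he1 _ ?_)
      fun e' he' hek' he1' g _ hge => hC _ hek' (fun h => he1' (eq_one_of_conj h)) _ ?_)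
    · rw [show k⁻¹ * u * k * (k⁻¹ * e * k) = k⁻¹ * (u * e) * k by group,
        show k⁻¹ * e * k * (k⁻¹ * u * k) = k⁻¹ * (e * u) * k by group, D.comm hu he]
    · have := congrArg (fun t => k * t * k⁻¹) (D.comm (mem_cj.1 hb) hek)
      simpa [mul_assoc] using this
    · have hc : g * e' = e' * g := mul_inv_eq_iff_eq_mul.1 hge
      rw [show k⁻¹ * g * k * (k⁻¹ * e' * k) = k⁻¹ * (g * e') * k by group,
        show k⁻¹ * e' * k * (k⁻¹ * g * k) = k⁻¹ * (e' * g) * k by group, hc]
  let half : K → Subgroup K := fun k => A ⊓ (nz A).comap (MulAut.conj k⁻¹).toMonoidHom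
  have mem_half : ∀ {k u : K}, u ∈ half k ↔ u ∈ A ∧ k⁻¹ * u * k ∈ nz A := fun {k u} => by
    simp [half, Subgroup.mem_inf]
  let other : K → Subgroup K := fun k => (half k⁻¹).map (MulAut.conj k).toMonoidHom
  have mem_other : ∀ {k b : K}, b ∈ other k ↔ b ∈ cj A k ∧ b ∈ nz A := fun {k b} => by
    constructor
    · rintro ⟨u, hu, rfl⟩
      obtain ⟨h1, h2⟩ := mem_half.1 hu
      exact ⟨mem_cj.2 (by simpa [mul_assoc] using h1), by simpa using h2⟩
    · rintro ⟨h1, h2⟩
      exact ⟨k⁻¹ * b * k, mem_half.2 ⟨mem_cj.1 h1, by simpa [mul_assoc] using h2⟩, by simp [mul_assoc]⟩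
  have hk' : k⁻¹ ∉ nz A := fun h => hk (by simpa using inv_mem h)
  have hex : ∀ k u, u ∈ half k → u ≠ 1 → k ∉ nz A → ∃ b ∈ other k, b ≠ 1 ∧ b * u = u * b := by
    intro k u hu hu1 _
    obtain ⟨huA, huN⟩ := mem_half.1 hu
    set u' := k⁻¹ * u * k with hu'
    have hu2 : u' * u' = 1 := by rw [hu', show k⁻¹ * u * k * (k⁻¹ * u * k) = k⁻¹ * (u * u) * k by group, D.sq u huA]; simp
    obtain ⟨c, hc, hc1, hcu⟩ : ∃ c ∈ A, c ≠ 1 ∧ c * u' = u' * c := by
      obtain ⟨c₀, hc₀, hc₀1⟩ : ∃ c ∈ A, c ≠ 1 := by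
        by_contra h
        push Not at h
        have : A = ⊥ := eq_bot_iff.2 fun x hx => Subgroup.mem_bot.2 (h x hx)
        rw [this, Subgroup.card_bot] at hcard
        omega
      by_cases h : c₀ * (u' * c₀ * u') = 1
      · refine ⟨c₀, hc₀, hc₀1, ?_⟩
        have h' := congrArg (fun t => c₀ * t * u') h
        simp only [mul_one, ← mul_assoc, D.sq c₀ hc₀, one_mul] at h'
        rw [mul_assoc (u' * c₀), hu2, mul_one] at h'
        exact h'.symm
      · refine ⟨_, D.cm_mem huN hu2 hc₀, h, ?_⟩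
        have hm : u' * c₀ * u' ∈ A := by simpa [inv_eq_of_mul_eq_one_right hu2] using D.conj_mem huN hc₀
        calc c₀ * (u' * c₀ * u') * u' = (u' * c₀ * u') * c₀ * u' := by rw [D.comm hc₀ hm]
          _ = u' * (c₀ * (u' * c₀ * u')) := by simp only [mul_assoc]
    refine ⟨k * c * k⁻¹, mem_other.2 ⟨mem_cj.2 (by simpa [mul_assoc] using hc), hC u huA hu1 _ ?_⟩,
      fun h => hc1 (eq_one_of_conj (k := k⁻¹) (by rwa [inv_inv])), ?_⟩ <;>
    · have := congrArg (fun t => k * t * k⁻¹) hcu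
      simpa [hu', mul_assoc] using this
  have hB2 : ∀ {k b : K}, b ∈ other k → b * b = 1 := fun {k b} hb => by
    obtain ⟨u, hu, rfl⟩ := hb
    simp [← map_mul, D.sq u (mem_half.1 hu).1]
  have hcomm : ∀ k, k ∉ nz A → ∀ b ∈ other k, ∀ u ∈ half k, b * u = u * b := by
    intro k hk b hb u hu
    obtain ⟨hbB, hbN⟩ := mem_other.1 hb
    obtain ⟨huA, huN⟩ := mem_half.1 hu
    have h1 : u * (b * u * b) ∈ A := D.cm_mem hbN (hB2 hb) huA
    have h2 : k⁻¹ * (u * (b * u * b)) * k ∈ A := by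
      have := mul_mem (D.conj_mem huN (mem_cj.1 hbB)) (mem_cj.1 hbB)
      rwa [show k⁻¹ * u * k * (k⁻¹ * b * k) * (k⁻¹ * u * k)⁻¹ * (k⁻¹ * b * k) = k⁻¹ * (u * b * u⁻¹ * b) * k by group,
        D.inv_eq huA, show u * b * u * b = u * (b * u * b) by simp only [mul_assoc]] at this
    have h3 := congrArg (fun t => u * t * b) (hE k hk _ h1 h2)
    simp only [mul_one] at h3
    rwa [← mul_assoc u u, D.sq u huA, one_mul, mul_assoc (b * u), hB2 hb, mul_one] at h3
  have hcent : ∀ k, k ∉ nz A → ∀ b ∈ other k, b ≠ 1 → ∀ u ∈ A, b * u = u * b → u ∈ half k := by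
    intro k _ b hb hb1 u hu hbu
    refine mem_half.2 ⟨hu, hC _ (mem_cj.1 (mem_other.1 hb).1)
      (fun h => hb1 (eq_one_of_conj h)) _ ?_⟩
    have := congrArg (fun t => k⁻¹ * t * k) hbu.symm
    simpa [mul_assoc] using this
  have hcard2 : ∀ k, Nat.card (other k) = Nat.card (half k⁻¹) := fun k =>
    (Nat.card_congr ((half k⁻¹).equivMapOfInjective _ (MulAut.conj k).injective).toEquiv).symm
  -- the count on one side
  have count : ∀ k, k ∉ nz A → ∀ b ∈ other k, b ≠ 1 →
      (∀ u ∈ A, u * (b * u * b) ∈ D.perpTo (half k)) ∧ D.perpTo (half k) ≤ half k ∧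
      Nat.card (D.perpTo (half k)) * Nat.card (half k) = Nat.card A := by
    intro k hk b hb hb1
    have hbN := (mem_other.1 hb).2
    have himg : ∀ u ∈ A, u * (b * u * b) ∈ D.perpTo (half k) := fun u hu => ⟨D.cm_mem hbN (hB2 hb) hu,
      fun w hw hwA => D.cm_perp hbN (hB2 hb) hu hwA (hcomm k hk b hb w hw)⟩
    have himg2 : ∀ u ∈ A, u * (b * u * b) ∈ half k := fun u hu => hcent k hk b hb hb1 _ (D.cm_mem hbN (hB2 hb) hu) (by
      have hm : b * u * b ∈ A := by simpa [inv_eq_of_mul_eq_one_right (hB2 hb)] using D.conj_mem hbN hu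
      calc b * (u * (b * u * b)) = (b * u * b) * u * b := by simp only [mul_assoc]
        _ = u * (b * u * b) * b := by rw [D.comm hm hu])
    let φ : A →* K :=
      { toFun := fun u => u.1 * (b * u.1 * b)
        map_one' := by simp [hB2 hb]
        map_mul' := fun u v => D.cm_mul hbN (hB2 hb) u.2 v.2 }
    have hker : φ.ker.map A.subtype = half k := by
      ext u
      constructor
      · rintro ⟨⟨u, hu⟩, hu1, rfl⟩
        refine hcent k hk b hb hb1 u hu ?_
        have h3 := congrArg (fun t => u * t * b) (show u * (b * u * b) = 1 from hu1)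
        simp only [mul_one] at h3
        rwa [← mul_assoc u u, D.sq u hu, one_mul, mul_assoc (b * u), hB2 hb, mul_one] at h3
      · intro hu
        have huA := (mem_half.1 hu).1
        refine ⟨⟨u, huA⟩, ?_, rfl⟩
        show u * (b * u * b) = 1
        rw [hcomm k hk b hb u hu, mul_assoc u b b, hB2 hb, mul_one, D.sq u huA]
    have hck : Nat.card φ.ker = Nat.card (half k) := by
      rw [← hker]; exact Nat.card_congr (φ.ker.equivMapOfInjective _ A.subtype_injective).toEquiv
    have hrange : φ.range ≤ D.perpTo (half k) := by rintro _ ⟨u, rfl⟩; exact himg u.1 u.2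
    have h1 := Subgroup.card_mul_index φ.ker
    rw [Subgroup.index_ker, hck] at h1
    have h2 := D.card_perp_mul_le (half k) (fun u hu => (mem_half.1 hu).1)
    have h3 := Subgroup.card_le_of_le hrange
    have h4 : 0 < Nat.card (half k) := Nat.card_pos
    have h5 : Nat.card φ.range = Nat.card (D.perpTo (half k)) :=
      le_antisymm h3 (Nat.le_of_mul_le_mul_left (by rw [h1, mul_comm]; exact h2) h4)
    have heq : φ.range = D.perpTo (half k) := Subgroup.eq_of_le_of_card_ge hrange h5.ge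
    refine ⟨himg, ?_, by rw [← h5, mul_comm]; exact h1⟩
    rw [← heq]
    rintro _ ⟨u, rfl⟩
    exact himg2 u.1 u.2
  obtain ⟨b₀, hb₀, hb₀1, -⟩ := hex k a (mem_half.2 ⟨ha, hak⟩) ha1 hk
  obtain ⟨u₀, hu₀, hu₀e⟩ := hb₀
  have hu₀1 : u₀ ≠ 1 := fun h => hb₀1 (by rw [← hu₀e, h, map_one])
  obtain ⟨b₀', hb₀', hb₀'1, -⟩ := hex k⁻¹ u₀ hu₀ hu₀1 hk'
  have hb₀k : b₀ ∈ other k := ⟨u₀, hu₀, hu₀e⟩
  obtain ⟨-, hle, hprod⟩ := count k hk b₀ hb₀k hb₀1
  obtain ⟨-, hle', hprod'⟩ := count k⁻¹ hk' b₀' hb₀' hb₀'1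
  set H := Nat.card (half k)
  set H' := Nat.card (half k⁻¹)
  have hP : Nat.card (D.perpTo (half k)) ≤ H := Subgroup.card_le_of_le hle
  have hP' : Nat.card (D.perpTo (half k⁻¹)) ≤ H' := Subgroup.card_le_of_le hle'
  -- the commutator is injective on the other side
  have hinj : ∀ u ∈ A, u ∉ half k → ∀ b ∈ other k, ∀ c ∈ other k,
      u * (b * u * b) = u * (c * u * c) → b = c := by
    intro u hu hun b hb c hc h
    have e := mul_left_cancel h
    have hcb : c * b ∈ other k := mul_mem hc hb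
    by_contra hne
    have hcb1 : c * b ≠ 1 := fun h => hne (by
      rw [← inv_eq_of_mul_eq_one_right h, inv_eq_of_mul_eq_one_right (hB2 hc)])
    refine hun (hcent k hk _ hcb hcb1 u hu ?_)
    calc c * b * u = c * (b * u * b) * b := by simp only [mul_assoc, hB2 hb, mul_one]
      _ = c * (c * u * c) * b := by rw [e]
      _ = u * (c * b) := by simp only [← mul_assoc, hB2 hc, one_mul]
  have hfull : half k ≠ A := fun h => by
    obtain ⟨x, hx, hxne⟩ : ∃ x ∈ A, x ∉ half k := by
      by_contra hc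
      push Not at hc
      have hall : ∀ u ∈ A, b₀ * u = u * b₀ := fun u hu => hcomm k hk b₀ hb₀k u (hc u hu)
      refine hb₀1 (hE k hk b₀ (D.cent b₀ hall) (mem_cj.1 (mem_other.1 hb₀k).1))
    exact hxne (h ▸ hx)
  obtain ⟨x₀, hx₀, hx₀n⟩ : ∃ x ∈ A, x ∉ half k := by
    by_contra hc
    push Not at hc
    exact hfull (le_antisymm (fun u hu => (mem_half.1 hu).1) hc)
  have hval : ∀ b ∈ other k, ∀ u ∈ A, u * (b * u * b) ∈ D.perpTo (half k) := fun b hb u hu => by
    by_cases hb1 : b = 1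
    · subst hb1; simp [D.sq u hu, one_mem]
    · exact (count k hk b hb hb1).1 u hu
  have hsize : H' ≤ Nat.card (D.perpTo (half k)) := by
    rw [show H' = Nat.card (other k) from (hcard2 k).symm]
    exact Nat.card_le_card_of_injective (fun b : other k => (⟨_, hval b b.2 x₀ hx₀⟩ : D.perpTo (half k)))
      fun b c h => Subtype.ext (hinj x₀ hx₀ hx₀n _ b.2 _ c.2 (congrArg Subtype.val h))
  have hA0 : 0 < Nat.card (D.perpTo (half k⁻¹)) := Nat.card_pos
  have hH : 0 < H := Nat.card_pos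
  have hPP : Nat.card (D.perpTo (half k)) = H ∧ H' = H := by
    constructor <;> nlinarith
  have heq : D.perpTo (half k) = half k := Subgroup.eq_of_le_of_card_ge hle hPP.1.ge
  refine ⟨half k, other k, fun u hu => (mem_half.1 hu).1, fun b hb => (mem_other.1 hb).1,
    fun b hb => (mem_other.1 hb).2, ?_, ?_, ?_, fun b hb u hu => hcomm k hk b hb u hu, fun u hu => ?_,
    fun e he hek => hE k hk e he hek, fun u hu hun w hw => ?_, fun b hb u hu => heq ▸ hval b hb u hu,
    fun b hb hb1 u hu h => hcent k hk b hb hb1 u hu h⟩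
  · exact fun h => ha1 (Subgroup.mem_bot.1 (h ▸ mem_half.2 ⟨ha, hak⟩ : a ∈ (⊥ : Subgroup K)))
  · rw [hcard2, show Nat.card (half k⁻¹) = H from hPP.2, ← hprod, hPP.1]
  · rw [← hprod, hPP.1]
  · constructor
    · intro h
      exact heq ▸ (show u ∈ D.perpTo (half k) from ⟨hu, fun w hw _ => h w hw⟩)
    · intro h w hw
      rw [← heq] at h
      exact h.2 w hw (mem_half.1 hw).1
  · let f : other k → half k := fun b => ⟨_, heq ▸ hval b b.2 u hu⟩
    have hf : Function.Bijective f := (Nat.bijective_iff_injective_and_card f).2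
      ⟨fun b c h => Subtype.ext (hinj u hu hun _ b.2 _ c.2 (congrArg Subtype.val h)), by rw [hcard2]; exact hPP.2⟩
    obtain ⟨b, hb⟩ := hf.2 ⟨w, hw⟩
    exact ⟨b.1, b.2, congrArg Subtype.val hb⟩

end Data

end Cfsg.Agent.ClassicalMax.SympType
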