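import Cfsg.Agent.ClassicalMax.SympType.Blocks
import Cfsg.Agent.ClassicalMax.SympType.SLLib
import Cfsg.Agent.ClassicalMax.SympType.BaseFour

/-!
Corners cut out by two commuting involutions and the elements of an overgroup acting on them.
-/

set_option autoImplicit false
set_option linter.unusedSectionVars false

namespace Cfsg.Agent.ClassicalMax.SympType

open Matrix
open scoped commutatorElement

variable {ι κ μ : Type*} [Fintype ι] [DecidableEq ι] [Fintype κ] [DecidableEq κ] [Fintype μ] [DecidableEq μ]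
  {E : Type*} [Field E]

local notation "G" => GL ι E
local notation "M" => Matrix ι ι E

namespace Emb

variable {e : Matrix ι ι E} (eb : Emb e μ)

theorem compl_inc : (1 - e) * eb.inc = 0 := by rw [Matrix.sub_mul, Matrix.one_mul, eb.e_inc, sub_self]

theorem proj_compl : eb.proj * (1 - e) = 0 := by rw [Matrix.mul_sub, Matrix.mul_one, eb.proj_e, sub_self]

theorem pmul (a b : Matrix μ μ E) :
    (1 - e + eb.inc * a * eb.proj) * (1 - e + eb.inc * b * eb.proj) = 1 - e + eb.inc * (a * b) * eb.proj := by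
  rw [add_mul, mul_add, mul_add,
    show (1 - e) * (eb.inc * b * eb.proj) = (1 - e) * eb.inc * b * eb.proj by simp only [Matrix.mul_assoc],
    show eb.inc * a * eb.proj * (1 - e) = eb.inc * a * (eb.proj * (1 - e)) by simp only [Matrix.mul_assoc],
    show eb.inc * a * eb.proj * (eb.inc * b * eb.proj) = eb.inc * a * (eb.proj * eb.inc) * b * eb.proj by
      simp only [Matrix.mul_assoc],
    eb.compl_inc, eb.proj_compl, eb.pi, Matrix.mul_zero, Matrix.zero_mul, Matrix.zero_mul, add_zero, zero_add,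
    Matrix.mul_one, Matrix.mul_assoc eb.inc a b,
    show (1 - e) * (1 - e) = 1 - e by rw [sub_mul, mul_sub, mul_sub, mul_one, one_mul, eb.idem]; simp]

theorem pone : 1 - e + eb.inc * (1 : Matrix μ μ E) * eb.proj = 1 := by
  rw [Matrix.mul_one, eb.ip, sub_add_cancel]

/-- extension by the identity -/
def lift : GL μ E →* G where
  toFun a :=
    { val := 1 - e + eb.inc * (a : Matrix μ μ E) * eb.proj
      inv := 1 - e + eb.inc * ((a⁻¹ : GL μ E) : Matrix μ μ E) * eb.proj
      val_inv := by rw [eb.pmul, ← Units.val_mul, mul_inv_cancel, Units.val_one, eb.pone]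
      inv_val := by rw [eb.pmul, ← Units.val_mul, inv_mul_cancel, Units.val_one, eb.pone] }
  map_one' := Units.ext eb.pone
  map_mul' a b := Units.ext (eb.pmul _ _).symm

theorem lift_val (a : GL μ E) : ((eb.lift a : G) : M) = 1 - e + eb.inc * (a : Matrix μ μ E) * eb.proj := rfl

theorem val_lift (a : GL μ E) : eb.val ((eb.lift a : G) : M) = a := by
  rw [Emb.val, eb.lift_val, Matrix.mul_add, eb.proj_compl, zero_add,
    show eb.proj * (eb.inc * (a : Matrix μ μ E) * eb.proj) * eb.inc = eb.proj * eb.inc * (a : Matrix μ μ E) * (eb.proj * eb.inc) by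
      simp only [Matrix.mul_assoc], eb.pi, Matrix.one_mul, Matrix.mul_one]

theorem lift_mem_cent (a : GL μ E) : ((eb.lift a : G) : M) * e = e * (eb.lift a : G) := by
  rw [eb.lift_val, add_mul, mul_add, sub_mul, mul_sub, one_mul, mul_one, Matrix.mul_assoc _ eb.proj e, eb.proj_e,
    show e * (eb.inc * (a : Matrix μ μ E) * eb.proj) = e * eb.inc * (a : Matrix μ μ E) * eb.proj by simp only [Matrix.mul_assoc],
    eb.e_inc]

/-- the extension commutes with a matrix fixing the idempotent -/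
theorem lift_comm {z : M} (h1 : z * e = e) (h2 : e * z = e) (a : GL μ E) :
    ((eb.lift a : G) : M) * z = z * (eb.lift a : G) := by
  have zi : z * eb.inc = eb.inc := by rw [← eb.e_inc, ← Matrix.mul_assoc, h1]
  have pz : eb.proj * z = eb.proj := by rw [← eb.proj_e, Matrix.mul_assoc, h2]
  rw [eb.lift_val, add_mul, mul_add, sub_mul, mul_sub, one_mul, mul_one, h1, h2, Matrix.mul_assoc _ eb.proj z, pz,
    show z * (eb.inc * (a : Matrix μ μ E) * eb.proj) = z * eb.inc * (a : Matrix μ μ E) * eb.proj by simp only [Matrix.mul_assoc], zi]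

/-- the extension is trivial off the idempotent -/
theorem mul_lift {p : M} (hp : p * e = 0) (a : GL μ E) : p * ((eb.lift a : G) : M) = p := by
  have pi' : p * eb.inc = 0 := by rw [← eb.e_inc, ← Matrix.mul_assoc, hp, Matrix.zero_mul]
  rw [eb.lift_val, mul_add, mul_sub, mul_one, hp, sub_zero,
    show p * (eb.inc * (a : Matrix μ μ E) * eb.proj) = p * eb.inc * (a : Matrix μ μ E) * eb.proj by simp only [Matrix.mul_assoc], pi',
    Matrix.zero_mul, Matrix.zero_mul, add_zero]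

/-- its determinant on a larger eigenspace -/
theorem det_val_lift {f : Matrix ι ι E} (ec : Emb f κ) (hf : f * e = e) (a : GL μ E) :
    (ec.val ((eb.lift a : G) : M)).det = (a : Matrix μ μ E).det := by
  have fi : f * eb.inc = eb.inc := by rw [← eb.e_inc, ← Matrix.mul_assoc, hf]
  have h1 : ec.val ((eb.lift a : G) : M) =
      1 + ec.proj * eb.inc * (((a : Matrix μ μ E) - 1) * (eb.proj * ec.inc)) := by
    rw [Emb.val, eb.lift_val,
      show 1 - e + eb.inc * (a : Matrix μ μ E) * eb.proj = 1 + eb.inc * ((a : Matrix μ μ E) - 1) * eb.proj by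
        rw [Matrix.mul_sub, Matrix.sub_mul, Matrix.mul_one, eb.ip]; abel,
      Matrix.mul_add, Matrix.add_mul, Matrix.mul_one, ec.pi]
    simp only [Matrix.mul_assoc]
  rw [h1, Matrix.det_one_add_mul_comm, Matrix.mul_assoc,
    show eb.proj * ec.inc * (ec.proj * eb.inc) = eb.proj * (ec.inc * ec.proj * eb.inc) by simp only [Matrix.mul_assoc],
    ec.ip, fi, eb.pi, Matrix.mul_one, add_sub_cancel]

end Emb

/-- pairs agreeing on a projection -/
def Agree (p : M) : Subgroup (G × G) where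
  carrier := {q | (q.1 : M) * p = p * q.1 ∧ (q.2 : M) * p = p * q.2 ∧ p * (q.1 : M) = p * (q.2 : M)}
  one_mem' := by simp
  mul_mem' := fun {a b} ha hb => by
    simp only [Set.mem_ofPred_eq, Prod.fst_mul, Prod.snd_mul, Units.val_mul] at *
    refine ⟨?_, ?_, ?_⟩
    · rw [Matrix.mul_assoc, hb.1, ← Matrix.mul_assoc, ha.1, Matrix.mul_assoc]
    · rw [Matrix.mul_assoc, hb.2.1, ← Matrix.mul_assoc, ha.2.1, Matrix.mul_assoc]
    · rw [← Matrix.mul_assoc, ha.2.2, ← ha.2.1, Matrix.mul_assoc, hb.2.2, ← Matrix.mul_assoc, ha.2.1, Matrix.mul_assoc]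
  inv_mem' := fun {a} ha => by
    simp only [Set.mem_ofPred_eq, Prod.fst_inv, Prod.snd_inv] at *
    have h1 := (Emb.cent p).inv_mem (x := a.1) ha.1
    have h2 := (Emb.cent p).inv_mem (x := a.2) ha.2.1
    rw [Emb.mem_cent] at h1 h2
    refine ⟨h1, h2, ?_⟩
    calc p * ((a.1⁻¹ : G) : M) = ((a.2⁻¹ : G) : M) * ((a.2 : M) * p) * ((a.1⁻¹ : G) : M) := by
          rw [← Matrix.mul_assoc, ← Units.val_mul, inv_mul_cancel, Units.val_one, Matrix.one_mul]
      _ = ((a.2⁻¹ : G) : M) * p * ((a.1 : M) * ((a.1⁻¹ : G) : M)) := by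
          rw [ha.2.1, ← ha.2.2]; simp only [Matrix.mul_assoc]
      _ = p * ((a.2⁻¹ : G) : M) := by rw [← Units.val_mul, mul_inv_cancel, Units.val_one, Matrix.mul_one, h2]

theorem mem_agree {p : M} {a b : G} :
    (a, b) ∈ Agree p ↔ (a : M) * p = p * a ∧ (b : M) * p = p * b ∧ p * (a : M) = p * (b : M) := Iff.rfl

theorem ez_comm {x w : G} (e : x * w = w * x) : ez x * ez w = ez w * ez x := by
  have e' : (x : M) * w = w * x := congrArg Units.val e
  rw [ez, ez, smul_mul_smul_comm, smul_mul_smul_comm]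
  congr 1
  rw [add_mul, mul_add, mul_add, add_mul, mul_add, mul_add, e']
  simp only [one_mul, mul_one]
  abel

variable [Finite E] {R K : Subgroup (GL ι E)}

/-- The dichotomy for the overgroups of the normaliser within the elements of determinant one. -/
def Dichotomy (κ : Type*) [Fintype κ] [DecidableEq κ] (E : Type*) [Field E] : Prop :=
  ∀ R : Subgroup (GL κ E), PS R → ∀ K : Subgroup (GL κ E),
    (∀ g : GL κ E, (g : Matrix κ κ E).det = 1 → (∀ r ∈ R, g * r * g⁻¹ ∈ R) → g ∈ K) →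
    (∀ g ∈ K, ∀ r ∈ R, g * r * g⁻¹ ∈ R) ∨ ∀ g : GL κ E, (g : Matrix κ κ E).det = 1 → g ∈ K

/-- The centraliser of an involution acts monomially on its fixed space. -/
def Small (R K : Subgroup G) (x : G) : Prop :=
  ∀ g ∈ K, g * x = x * g → ∀ u ∈ R, u * x = x * u →
    ∃ r ∈ R, (1 + (x : M)) * ((g * u * g⁻¹ : G) : M) = (1 + (x : M)) * (r : M)

namespace Chart

variable {x : GL ι E} (ch : Chart R x κ) (h : PS R)

/-- the overgroup induces everything on the fixed space -/
def Big (K : Subgroup G) : Prop := ∀ s : GL κ E, (s : Matrix κ κ E).det = 1 → s ∈ ch.em.restrict K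

/-- a non-scalar element of the overgroup acting trivially on the other eigenspace -/
def Kernel (K : Subgroup G) : Prop :=
  ∃ a : GL κ E, (∀ c : E, (a : Matrix κ κ E) ≠ c • 1) ∧ ch.δ h a 1 ∈ K

include h in
theorem δ_diag_normalises {s : GL κ E} (hs : ∀ a ∈ ch.em.restrict R, s * a * s⁻¹ ∈ ch.em.restrict R) :
    ∀ r ∈ R, ch.δ h s s * r * (ch.δ h s s)⁻¹ ∈ R := by
  have main : ∀ r ∈ R, r * x = x * r → ch.δ h s s * r * (ch.δ h s s)⁻¹ ∈ R := by
    intro r hr e
    obtain ⟨a, ha, -, hcase⟩ := ch.mem_cases h hr e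
    rcases hcase with rfl | rfl
    · rw [ch.δ_inv, ch.δ_mul, ch.δ_mul]
      exact (ch.δ_mem h (hs a ha)).1
    · rw [ch.δ_inv, ch.δ_mul, ch.δ_mul, mul_neg, neg_mul]
      exact (ch.δ_mem h (hs a ha)).2
  intro r hr
  rcases h.comm r hr x ch.mem with e | e
  · exact main r hr e
  · have hyr : ch.y * r * x = x * (ch.y * r) := by
      rw [mul_assoc, e, mul_neg, ← mul_assoc, show ch.y * x = -(x * ch.y) by rw [ch.anti, neg_neg], neg_mul,
        neg_neg, mul_assoc]
    have h1 := mul_mem ch.ymem (main _ (mul_mem ch.ymem hr) hyr)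
    have hc : ch.y * ch.δ h s s = ch.δ h s s * ch.y := by
      calc ch.y * ch.δ h s s = ch.y * ch.δ h s s * (ch.y * ch.y) := by rw [ch.ysq, mul_one]
        _ = _ := by rw [← mul_assoc, ch.y_δ h]
    rwa [show ch.y * (ch.δ h s s * (ch.y * r) * (ch.δ h s s)⁻¹) = ch.y * ch.δ h s s * ch.y * r * (ch.δ h s s)⁻¹ by
      simp only [mul_assoc], hc, mul_assoc (ch.δ h s s), ch.ysq, mul_one] at h1

include h in
theorem δ_det (a b : GL κ E) :
    ((ch.δ h a b : G) : M).det = (a : Matrix κ κ E).det * (b : Matrix κ κ E).det := by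
  rw [δ, ch.Ψ_det h, dia, Matrix.det_fromBlocks_zero₂₁]

include h in
/-- normalising on the fixed space means monomial centralisers -/
theorem small_of_norm
    (h1 : ∀ s ∈ ch.em.restrict K, ∀ r ∈ ch.em.restrict R, s * r * s⁻¹ ∈ ch.em.restrict R) : Small R K x := by
  intro g hg hgx u hu hux
  have hge : (g : M) * ez x = ez x * g := (comm_ez_iff h.two).2 hgx
  have hue : (u : M) * ez x = ez x * u := (comm_ez_iff h.two).2 hux
  have h2 := h1 (ch.em.res ⟨g, hge⟩) (ch.em.mem_restrict.2 ⟨g, hg, hge, rfl⟩) (ch.em.res ⟨u, hue⟩)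
    (ch.em.mem_restrict.2 ⟨u, hu, hue, rfl⟩)
  rw [← map_inv, ← map_mul, ← map_mul] at h2
  obtain ⟨r, hr, hre, hrv⟩ := ch.em.mem_restrict.1 h2
  refine ⟨r, hr, ?_⟩
  have hme : ((g * u * g⁻¹ : G) : M) * ez x = ez x * (g * u * g⁻¹ : G) :=
    (Emb.cent (ez x)).mul_mem ((Emb.cent (ez x)).mul_mem hge hue) ((Emb.cent (ez x)).inv_mem hge)
  have h3 := ch.em.mul_of_val hme hre hrv.symm
  simp only [ez, Matrix.smul_mul] at h3
  exact smul_right_injective M (inv_ne_zero h.two) h3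

include h in
/-- the dichotomy on the fixed space -/
theorem small_or_big (hT : Dichotomy κ E)
    (hK : ∀ g : G, (g : M).det = 1 → (∀ r ∈ R, g * r * g⁻¹ ∈ R) → g ∈ K) : Small R K x ∨ ch.Big K := by
  rcases hT _ (ch.PS_restrict h) (ch.em.restrict K) (fun s hdet hs =>
    ch.em.mem_restrict.2 ⟨ch.δ h s s, hK _ (by rw [ch.δ_det h, hdet, one_mul]) (ch.δ_diag_normalises h hs),
      ch.δ_cent h s s, ch.δ_fst h s s⟩) with h1 | h1
  · exact Or.inl (ch.small_of_norm h h1)
  · exact Or.inr h1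

include h in
/-- an element acting on the fixed space as an extension fixes the second involution up to the first -/
theorem corner_key (hnk : ¬ ch.Kernel h K) (hyK : ch.y ∈ K) {w : G} (hwK : w ∈ K)
    (hww : w * w = 1) (hwx : w * x = x * w) {e : M} (eb : Emb e μ) (he : ez x * ez w = e) (s : GL μ E)
    {g : G} (hg : g ∈ K) (hge : (g : M) * ez x = ez x * g) (hgv : ch.em.val (g : M) = ch.em.val ((eb.lift s : G) : M)) :
    (g, eb.lift s) ∈ Agree (ez x) ∧ (g * w * g⁻¹ = w ∨ g * w * g⁻¹ = x * w) := by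
  have hxx := ez_idem h.two ch.sq
  have hwi := ez_idem h.two hww
  have hcm := ez_comm hwx.symm
  have e1 : ez x * e = e := by rw [← he, ← Matrix.mul_assoc, hxx]
  have e2 : e * ez x = e := by rw [← he, hcm, Matrix.mul_assoc, hxx]
  have e3 : ez w * e = e := by rw [← he, hcm, ← Matrix.mul_assoc, hwi]
  have e4 : e * ez w = e := by rw [← he, Matrix.mul_assoc, hwi]
  have hAx : ∀ a : GL μ E, eb.lift a * x = x * eb.lift a := fun a => (comm_ez_iff h.two).1 (eb.lift_comm e1 e2 a)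
  have hAw : ∀ a : GL μ E, eb.lift a * w = w * eb.lift a := fun a => (comm_ez_iff h.two).1 (eb.lift_comm e3 e4 a)
  have hwe : (w : M) * ez x = ez x * w := (comm_ez_iff h.two).2 hwx
  have hone : (1 : M) - ez x ≠ 0 := by
    intro e0
    have e5 : ez x = 1 := (sub_eq_zero.1 e0).symm
    have := (z_mul_ez ch.sq).1
    rw [e5, Matrix.mul_one] at this
    exact ch.pr_ne h (by rw [show x = 1 from Units.ext this, map_one])
  obtain ⟨A, hA⟩ : ∃ A, A = eb.lift s := ⟨_, rfl⟩
  have hAe : (A : M) * ez x = ez x * A := hA ▸ eb.lift_comm e1 e2 _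
  rw [← hA] at hgv
  have hag : (g, A) ∈ Agree (ez x) := mem_agree.2 ⟨hge, hAe, ch.em.mul_of_val hge hAe hgv⟩
  refine ⟨hA ▸ hag, ?_⟩
  obtain ⟨h₀, hh₀⟩ : ∃ h₀, h₀ = g * w * g⁻¹ * w := ⟨_, rfl⟩
  have hh₀K : h₀ ∈ K := hh₀ ▸ mul_mem (mul_mem (mul_mem hg hwK) (inv_mem hg)) hwK
  have hww' : (w, w) ∈ Agree (ez x) := mem_agree.2 ⟨hwe, hwe, rfl⟩
  have hh₀a : (h₀, (1 : G)) ∈ Agree (ez x) := by
    have := mul_mem (mul_mem (mul_mem hag hww') (inv_mem hag)) hww'
    simp only [Prod.mk_mul_mk, Prod.inv_mk] at this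
    rwa [← hh₀, show A * w * A⁻¹ * w = 1 by
      rw [show A * w = w * A from hA ▸ hAw _, mul_inv_cancel_right, hww]] at this
  obtain ⟨h1, -, h3⟩ := mem_agree.1 hh₀a
  have hh₀x : h₀ * x = x * h₀ := (comm_ez_iff h.two).1 h1
  have hv : ch.em.val (h₀ : M) = ((1 : GL κ E) : Matrix κ κ E) := by
    rw [ch.em.val_of_mul h3]
    exact ch.em.val_one
  have hc : ch.y * h₀ * ch.y * x = x * (ch.y * h₀ * ch.y) := by
    have a1 : ch.y * x = -(x * ch.y) := by rw [ch.anti, neg_neg]
    calc ch.y * h₀ * ch.y * x = ch.y * h₀ * (ch.y * x) := by simp only [mul_assoc]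
      _ = -(ch.y * (h₀ * x) * ch.y) := by rw [a1, mul_neg]; simp only [mul_assoc]
      _ = -(ch.y * x * (h₀ * ch.y)) := by rw [hh₀x]; simp only [mul_assoc]
      _ = x * (ch.y * h₀ * ch.y) := by rw [a1, neg_mul, neg_neg]; simp only [mul_assoc]
  obtain ⟨b, hb⟩ : ∃ b, b = ch.em.res ⟨ch.y * h₀ * ch.y, (comm_ez_iff h.two).2 hc⟩ := ⟨_, rfl⟩
  have hδ : h₀ = ch.δ h 1 b := ch.eq_δ h hh₀x hv (by rw [hb, Emb.res_val, Units.val_mul, Units.val_mul])
  obtain ⟨c, hc'⟩ : ∃ c : E, (b : Matrix κ κ E) = c • 1 := by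
    by_contra! hall
    refine hnk ⟨b, hall, ?_⟩
    rw [← ch.y_δ h 1 b, ← hδ]
    exact mul_mem (mul_mem hyK hh₀K) hyK
  have hval : (h₀ : M) = ez x + c • (1 - ez x) := by
    rw [hδ, ch.δ_val h, hc', Units.val_one, Matrix.mul_one, ch.em.ip, Matrix.mul_smul, Matrix.mul_one,
      Matrix.smul_mul]
    congr 2
    have := ch.Q_Q' h
    rw [Q, Q', Matrix.fromCols_mul_fromRows, ch.em.ip] at this
    exact eq_sub_of_add_eq' this
  have hw2 : h₀ * w = g * w * g⁻¹ := by rw [hh₀, mul_assoc, hww, mul_one]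
  have hhw : (h₀ : M) * w = w * h₀ := by
    rw [hval, add_mul, mul_add, Matrix.smul_mul, Matrix.mul_smul, sub_mul, mul_sub, one_mul, mul_one, hwe]
  have hsq : h₀ * h₀ = 1 := by
    have e5 : h₀ * w * (h₀ * w) = 1 := by
      rw [hw2, show g * w * g⁻¹ * (g * w * g⁻¹) = g * (w * w) * g⁻¹ by group, hww, mul_one, mul_inv_cancel]
    rw [mul_assoc, ← mul_assoc w, show w * h₀ = h₀ * w from (Units.ext hhw).symm, mul_assoc h₀ w w, hww,
      mul_one] at e5
    exact e5
  have hc2 : (c * c - 1) • ((1 : M) - ez x) = 0 := by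
    have e5 : (h₀ : M) * h₀ = 1 := congrArg Units.val hsq
    have i1 : (1 - ez x) * (1 - ez x) = 1 - ez x := by rw [sub_mul, mul_sub, mul_sub, mul_one, one_mul, hxx]; simp
    have i2 : ez x * (1 - ez x) = 0 := by rw [mul_sub, mul_one, hxx, sub_self]
    have i3 : (1 - ez x) * ez x = 0 := by rw [sub_mul, one_mul, hxx, sub_self]
    rw [hval, add_mul, mul_add, mul_add, Matrix.smul_mul, Matrix.mul_smul, Matrix.smul_mul, Matrix.mul_smul, i1, i2,
      i3, hxx, smul_zero, add_zero, zero_add, smul_smul] at e5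
    rw [sub_smul, one_smul, sub_eq_zero]
    exact eq_sub_of_add_eq' e5
  rcases mul_self_eq_one_iff.1 (sub_eq_zero.1 ((smul_eq_zero.1 hc2).resolve_right hone)) with rfl | rfl
  · left
    rw [← hw2, show h₀ = 1 from Units.ext (by rw [hval, one_smul, add_sub_cancel, Units.val_one]), one_mul]
  · right
    rw [← hw2, show h₀ = x from Units.ext (by
      rw [hval, neg_one_smul, neg_sub, ez, ← add_sub_assoc, ← two_smul E, smul_smul, mul_inv_cancel₀ h.two, one_smul,
        add_sub_cancel_left])]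

include h in
/-- the elements realising the commutators of a corner -/
theorem corner_lift (hbig : ch.Big K) (hnk : ¬ ch.Kernel h K) (hyK : ch.y ∈ K) {w : G} (hwK : w ∈ K)
    (hww : w * w = 1) (hwx : w * x = x * w) {e : M} (eb : Emb e μ) (he : ez x * ez w = e)
    (a : SpecialLinearGroup μ E) (ha : a ∈ commutatorSet (SpecialLinearGroup μ E)) :
    ∃ g ∈ K, g * x = x * g ∧ g * w = w * g ∧
      ez x * (g : M) = ez x * ((eb.lift (SpecialLinearGroup.toGL a) : G) : M) := by
  obtain ⟨a₀, a₁, rfl⟩ := ha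
  have hxx := ez_idem h.two ch.sq
  have hwi := ez_idem h.two hww
  have hcm := ez_comm hwx.symm
  have e1 : ez x * e = e := by rw [← he, ← Matrix.mul_assoc, hxx]
  have e2 : e * ez x = e := by rw [← he, hcm, Matrix.mul_assoc, hxx]
  have e3 : ez w * e = e := by rw [← he, hcm, ← Matrix.mul_assoc, hwi]
  have e4 : e * ez w = e := by rw [← he, Matrix.mul_assoc, hwi]
  have hAx : ∀ a : GL μ E, eb.lift a * x = x * eb.lift a := fun a => (comm_ez_iff h.two).1 (eb.lift_comm e1 e2 a)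
  have hAw : ∀ a : GL μ E, eb.lift a * w = w * eb.lift a := fun a => (comm_ez_iff h.two).1 (eb.lift_comm e3 e4 a)
  have hwe : (w : M) * ez x = ez x * w := (comm_ez_iff h.two).2 hwx
  have hone : (1 : M) - ez x ≠ 0 := by
    intro e0
    have e5 : ez x = 1 := (sub_eq_zero.1 e0).symm
    have := (z_mul_ez ch.sq).1
    rw [e5, Matrix.mul_one] at this
    exact ch.pr_ne h (by rw [show x = 1 from Units.ext this, map_one])
  have key : ∀ s : SpecialLinearGroup μ E, ∃ g ∈ K, (g, eb.lift (SpecialLinearGroup.toGL s)) ∈ Agree (ez x) ∧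
      (g * w * g⁻¹ = w ∨ g * w * g⁻¹ = x * w) := by
    intro s
    have hAe := eb.lift_comm e1 e2 (SpecialLinearGroup.toGL s)
    have hdet : ((ch.em.res ⟨_, hAe⟩ : GL κ E) : Matrix κ κ E).det = 1 := by
      show (ch.em.val ((eb.lift (SpecialLinearGroup.toGL s) : G) : M)).det = 1
      rw [eb.det_val_lift ch.em e1]
      exact s.2
    obtain ⟨g, hg, hge, hgv⟩ := ch.em.mem_restrict.1 (hbig _ hdet)
    exact ⟨g, hg, ch.corner_key h hnk hyK hwK hww hwx eb he _ hg hge hgv⟩
  obtain ⟨g₀, hg₀, ha₀, hw₀⟩ := key a₀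
  obtain ⟨g₁, hg₁, ha₁, hw₁⟩ := key a₁
  obtain ⟨hgx₀, -, -⟩ := mem_agree.1 ha₀
  obtain ⟨hgx₁, -, -⟩ := mem_agree.1 ha₁
  have ag := mul_mem (mul_mem (mul_mem ha₀ ha₁) (inv_mem ha₀)) (inv_mem ha₁)
  simp only [Prod.mk_mul_mk, Prod.inv_mk, ← map_mul, ← map_inv, ← commutatorElement_def] at ag
  obtain ⟨i1, -, i3⟩ := mem_agree.1 ag
  refine ⟨⁅g₀, g₁⁆, mul_mem (mul_mem (mul_mem hg₀ hg₁) (inv_mem hg₀)) (inv_mem hg₁), (comm_ez_iff h.two).1 i1, ?_, i3⟩
  have cx : ∀ {g : G}, g * x = x * g → g * (x * w) * g⁻¹ = x * (g * w * g⁻¹) := fun {g} hgx => by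
    rw [← mul_assoc g, hgx]; simp only [mul_assoc]
  have c₀ := cx ((comm_ez_iff h.two).1 hgx₀)
  have c₁ := cx ((comm_ez_iff h.two).1 hgx₁)
  have hswap : g₀ * g₁ * w * (g₀ * g₁)⁻¹ = g₁ * g₀ * w * (g₁ * g₀)⁻¹ := by
    rw [show g₀ * g₁ * w * (g₀ * g₁)⁻¹ = g₀ * (g₁ * w * g₁⁻¹) * g₀⁻¹ by group,
      show g₁ * g₀ * w * (g₁ * g₀)⁻¹ = g₁ * (g₀ * w * g₀⁻¹) * g₁⁻¹ by group]
    rcases hw₀ with e₀ | e₀ <;> rcases hw₁ with e₁ | e₁ <;> simp only [e₀, e₁, c₀, c₁]
  obtain ⟨v, hv⟩ : ∃ v, v = g₁ * g₀ * w * (g₁ * g₀)⁻¹ := ⟨_, rfl⟩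
  have hfix : ⁅g₀, g₁⁆ * v = v * ⁅g₀, g₁⁆ := by
    have e : ⁅g₀, g₁⁆ * v * ⁅g₀, g₁⁆⁻¹ = v := by
      calc ⁅g₀, g₁⁆ * v * ⁅g₀, g₁⁆⁻¹ = g₀ * g₁ * w * (g₀ * g₁)⁻¹ := by rw [hv, commutatorElement_def]; group
        _ = v := by rw [hv, hswap]
    exact mul_inv_eq_iff_eq_mul.1 e
  have hv2 : v = w ∨ v = x * w := by
    rw [hv, show g₁ * g₀ * w * (g₁ * g₀)⁻¹ = g₁ * (g₀ * w * g₀⁻¹) * g₁⁻¹ by group]
    rcases hw₀ with e₀ | e₀ <;> rcases hw₁ with e₁ | e₁ <;>
      simp only [e₀, e₁, c₁, ← mul_assoc x x, ch.sq, one_mul] <;> simp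
  rcases hv2 with e | e <;> rw [e] at hfix
  · exact hfix
  · rw [← mul_assoc, (comm_ez_iff h.two).1 i1, mul_assoc, mul_assoc] at hfix
    exact mul_left_cancel hfix

include ch h in
theorem exists_corner {d' : ℕ} (hd : Fintype.card κ = 2 * d') {w : G} (hw : w ∈ R) (hww : w * w = 1)
    (hwx : w * x = x * w) (hw1 : pr w ≠ 1) (hne : pr w ≠ pr x) :
    ∃ eb : Emb (ez x * ez w) (Fin d'), ∃ R' : Subgroup (GL (Fin d') E), PS R' ∧
      ∀ a : GL (Fin d') E, a ∈ R' ↔ ∃ u ∈ R, u * x = x * u ∧ u * w = w * u ∧ eb.val (u : M) = a := by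
  have hxe : ∀ {u : G}, u * x = x * u → (u : M) * ez x = ez x * u := fun e => (comm_ez_iff h.two).2 e
  have hP := ch.PS_restrict h
  obtain ⟨v, hv⟩ : ∃ v, v = ch.em.res ⟨w, hxe hwx⟩ := ⟨_, rfl⟩
  have hvR : v ∈ ch.em.restrict R := hv ▸ ch.em.mem_restrict.2 ⟨w, hw, hxe hwx, rfl⟩
  have hvv : v * v = 1 := by
    rw [hv]
    refine Units.ext ?_
    rw [Units.val_mul, Emb.res_val, ← ch.em.val_mul (hxe hwx), ← Units.val_mul, hww, Units.val_one, ch.em.val_one,
      Units.val_one]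
  have hv1 : pr v ≠ 1 := by
    intro e
    obtain ⟨c, hc⟩ := pr_eq_one_iff.1 e
    have hcx : ((sc c : G) : M) * ez x = ez x * (sc c : G) := hxe (sc_comm c x)
    have h1 := ch.em.mul_of_val (hxe hwx) hcx (by
      have := congrArg Units.val hc
      rw [hv, Emb.res_val, sc_val] at this
      rw [this, sc_val, ch.em.val_smul, ch.em.val_one])
    simp only [ez, Matrix.smul_mul] at h1
    rcases h.proj_inj ch.mem (ch.pr_ne h) (h.scal c) hw (smul_right_injective M (inv_ne_zero h.two) h1).symm with e' | e'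
    · exact hw1 (by rw [e', pr_sc])
    · exact hne (by rw [e', pr_sc, mul_one])
  obtain ⟨ch'⟩ := hP.exists_chart hvR hvv hv1 hd
  have heq : ch.em.inc * ez v * ch.em.proj = ez x * ez w := by
    have e1 : (2 : E)⁻¹ • ((1 : Matrix κ κ E) + (v : Matrix κ κ E)) = ch.em.val ((2 : E)⁻¹ • ((1 : M) + (w : M))) := by
      rw [ch.em.val_smul, Emb.val, Matrix.mul_add, Matrix.add_mul, Matrix.mul_one, ch.em.pi, hv, Emb.res_val,
        Emb.val]
    rw [show ez v = ch.em.val (ez w) from e1, ch.em.inc_val, Matrix.mul_assoc, ← ez_comm hwx.symm, ← Matrix.mul_assoc, ez_idem h.two ch.sq]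
  let eb : Emb (ez x * ez w) (Fin d') :=
    ⟨(ch.em.comp ch'.em).inc, (ch.em.comp ch'.em).proj, (ch.em.comp ch'.em).pi, (ch.em.comp ch'.em).ip.trans heq⟩
  have hval : ∀ m : M, eb.val m = ch'.em.val (ch.em.val m) := fun m => ch.em.comp_val ch'.em m
  refine ⟨eb, ch'.em.restrict (ch.em.restrict R), ch'.PS_restrict hP, fun a => ⟨fun ha => ?_, ?_⟩⟩
  · obtain ⟨b, hb, hbe, hba⟩ := ch'.em.mem_restrict.1 ha
    obtain ⟨u, hu, hue, hub⟩ := ch.em.mem_restrict.1 hb
    have hux : u * x = x * u := (comm_ez_iff h.two).1 hue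
    refine ⟨u, hu, hux, (h.comm u hu w hw).resolve_right fun e => ?_, by rw [hval, hub, hba]⟩
    refine hP.not_comm_of_anti (x := b) (y := v) (Units.ext ?_) ((comm_ez_iff h.two).1 hbe)
    rw [Units.val_neg, Units.val_mul, Units.val_mul, hv, Emb.res_val, ← hub, ← ch.em.val_mul (hxe hwx),
      ← ch.em.val_mul hue, ← ch.em.val_neg, ← Units.val_mul, ← Units.val_mul, ← Units.val_neg, e]
  · rintro ⟨u, hu, hux, huw, hua⟩
    have hb : ch.em.res ⟨u, hxe hux⟩ ∈ ch.em.restrict R := ch.em.mem_restrict.2 ⟨u, hu, hxe hux, rfl⟩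
    refine ch'.em.mem_restrict.2 ⟨_, hb, (comm_ez_iff h.two).2 (Units.ext ?_), by rw [Emb.res_val, ← hval, hua]⟩
    rw [Units.val_mul, Units.val_mul, hv, Emb.res_val, Emb.res_val, ← ch.em.val_mul (hxe hwx),
      ← ch.em.val_mul (hxe hux), ← Units.val_mul, ← Units.val_mul, huw]

include h in
/-- a centraliser inducing everything passes this on to the commuting involutions -/
theorem not_small (hbig : ch.Big K) (hnk : ¬ ch.Kernel h K) (hRK : R ≤ K) {d' : ℕ}
    (hd : Fintype.card κ = 2 * d') (hd2 : 2 ≤ d') {w : G} (hw : w ∈ R) (hww : w * w = 1)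
    (hwx : w * x = x * w) (hw1 : pr w ≠ 1) (hne : pr w ≠ pr x) : ¬ Small R K w := by
  intro hsm
  obtain ⟨eb, R', hR', hmem⟩ := ch.exists_corner h hd hw hww hwx hw1 hne
  obtain ⟨j, hj⟩ := h.fourth
  have hperf : commutator (SpecialLinearGroup (Fin d') E) = ⊤ := by
    refine Classical.commutator_sl_eq_top (Or.inr ⟨j, fun e => by simp [e] at hj, fun e => ?_⟩)
    rw [pow_two, hj] at e
    exact h.two (by linear_combination -e)
  obtain ⟨s, hs⟩ := exists_not_normalise hR' (by simpa using hd2)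
  refine hs ?_
  clear hs
  have hs' : s ∈ Subgroup.closure (commutatorSet (SpecialLinearGroup (Fin d') E)) := by
    rw [← commutator_eq_closure, hperf]; trivial
  induction hs' using Subgroup.closure_induction with
  | one => intro r hr; simpa using hr
  | mul a b _ _ iha ihb =>
    intro r hr
    have := iha _ (ihb r hr)
    rw [map_mul]
    convert this using 1
    group
  | inv a _ iha =>
    intro r hr
    rw [map_inv, inv_inv]
    exact inv_of_norm iha r hr
  | mem a ha =>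
    intro r' hr'
    obtain ⟨u, hu, hux, huw, hua⟩ := (hmem r').1 hr'
    obtain ⟨g, hg, hgx, hgw, hgA⟩ := ch.corner_lift h hbig hnk (hRK ch.ymem) (hRK hw) hww hwx eb rfl a ha
    obtain ⟨r, hr, hre⟩ := hsm g hg hgw u hu huw
    obtain ⟨m, hm⟩ : ∃ m, m = g * u * g⁻¹ := ⟨_, rfl⟩
    rw [← hm] at hre
    have cc : ∀ {z : G}, g * z = z * g → u * z = z * u → m * z = z * m := fun {z} e1 e2 => by
      have e3 : g⁻¹ * z = z * g⁻¹ := by rw [inv_mul_eq_iff_eq_mul, ← mul_assoc, e1, mul_inv_cancel_right]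
      rw [hm, mul_assoc, e3, ← mul_assoc, mul_assoc g, e2, ← mul_assoc, e1]
      simp only [mul_assoc]
    have hmx : (m : M) * ez x = ez x * m := (comm_ez_iff h.two).2 (cc hgx hux)
    have hmw : (m : M) * w = w * m := congrArg Units.val (cc hgw huw)
    have hrw : r * w = w * r := h.proj_comm hw hww hw1 hr hmw hre
    have hre' : ez w * (m : M) = ez w * (r : M) := by
      simp only [ez, Matrix.smul_mul, hre]
    have hre2 : (ez x * ez w) * (m : M) = (ez x * ez w) * (r : M) := by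
      rw [Matrix.mul_assoc, hre', ← Matrix.mul_assoc]
    have hcm := ez_comm hwx.symm
    have hrwe : (r : M) * ez w = ez w * r := (comm_ez_iff h.two).2 hrw
    have hrx : r * x = x * r := by
      refine (h.comm r hr x ch.mem).resolve_right fun e => ?_
      have e1 : ez x * (r : M) = (r : M) * (1 - ez x) := by
        have e' : (r : M) * x = -((x : M) * r) := congrArg Units.val e
        rw [ez, Matrix.smul_mul, add_mul, one_mul, mul_sub, mul_one, Matrix.mul_smul, mul_add, mul_one, e']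
        ext i k
        simp only [Matrix.smul_apply, Matrix.add_apply, Matrix.sub_apply, Matrix.neg_apply, smul_eq_mul]
        field_simp [h.two]
        ring
      have e2 : (ez x * ez w) * (r : M) = 0 := by
        have e3 : (ez x * ez w) * (r : M) * ez x = (ez x * ez w) * (r : M) := by
          rw [← hre2, Matrix.mul_assoc, hmx, ← Matrix.mul_assoc, hcm, Matrix.mul_assoc (ez w), ez_idem h.two ch.sq]
        rw [← e3, hcm, Matrix.mul_assoc (ez w), e1, Matrix.mul_assoc, Matrix.mul_assoc, sub_mul, one_mul,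
          ez_idem h.two ch.sq, sub_self, Matrix.mul_zero, Matrix.mul_zero]
      have e4 : ez x * ez w = 0 := by
        calc ez x * ez w = ez x * ez w * (r : M) * ((r⁻¹ : G) : M) := by
              rw [Matrix.mul_assoc, ← Units.val_mul, mul_inv_cancel, Units.val_one, Matrix.mul_one]
          _ = 0 := by rw [e2, Matrix.zero_mul]
      rw [hcm, ez, ez, smul_mul_smul_comm] at e4
      exact h.proj_mul_ne ch.mem hw (ch.pr_ne h) hw1 hne
        ((smul_eq_zero.1 e4).resolve_left (mul_ne_zero (inv_ne_zero h.two) (inv_ne_zero h.two)))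
    refine (hmem _).2 ⟨r, hr, hrx, hrw, ?_⟩
    have hE : ∀ {z : G}, z * x = x * z → z * w = w * z → (z : M) * (ez x * ez w) = ez x * ez w * z := fun {z} a1 a2 => by
      rw [← Matrix.mul_assoc, (comm_ez_iff h.two).2 a1, Matrix.mul_assoc, (comm_ez_iff h.two).2 a2, ← Matrix.mul_assoc]
    have hgv : eb.res ⟨g, hE hgx hgw⟩ = SpecialLinearGroup.toGL a := by
      refine Units.ext ?_
      rw [Emb.res_val, ← eb.val_lift (SpecialLinearGroup.toGL a)]
      refine eb.val_of_mul ?_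
      show ez x * ez w * (g : M) = ez x * ez w * ((eb.lift (SpecialLinearGroup.toGL a) : G) : M)
      calc ez x * ez w * (g : M) = ez w * (ez x * (g : M)) := by rw [← Matrix.mul_assoc, ← hcm]
        _ = ez x * ez w * ((eb.lift (SpecialLinearGroup.toGL a) : G) : M) := by rw [hgA, ← Matrix.mul_assoc, ← hcm]
    have huv : eb.res ⟨u, hE hux huw⟩ = r' := Units.ext hua
    rw [eb.val_of_mul hre2.symm, ← hgv, ← huv, ← map_inv, ← map_mul, ← map_mul, hm]
    rfl

end Chart

theorem ez_mul_self (h : PS R) {x w : G} (hxx : x * x = 1) (hwx : w * x = x * w) :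
    ez (x * w) * ez x = ez x * ez w := by
  have e1 : x * w * x = w := by rw [mul_assoc, hwx, ← mul_assoc, hxx, one_mul]
  have e1' : (x : M) * w * x = w := by
    have := congrArg Units.val e1
    simpa only [Units.val_mul] using this
  rw [ez, ez, ez, Units.val_mul, smul_mul_smul_comm, smul_mul_smul_comm]
  congr 1
  rw [add_mul, mul_add, mul_add, add_mul, mul_add, mul_add]
  simp only [one_mul, mul_one, e1']
  abel

/-- three elements acting on a common corner, each trivial on its part, give a kernel -/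
theorem triple_kernel {x w : G} (h : PS R) (ch : Chart R x κ) (chw : Chart R w κ) (chz : Chart R (x * w) κ)
    (hwx : w * x = x * w) (hw1 : pr w ≠ 1) (hne : pr w ≠ pr x) (eb : Emb (ez x * ez w) μ) {a b c : GL μ E}
    (hT : ⁅⁅a, b⁆, c⁆ ≠ 1) {g₁ g₂ g₃ : G} (hg₁ : g₁ ∈ K) (hg₂ : g₂ ∈ K) (hg₃ : g₃ ∈ K) (x₁ : g₁ * x = x * g₁)
    (w₁ : g₁ * w = w * g₁) (x₂ : g₂ * x = x * g₂) (w₂ : g₂ * w = w * g₂) (x₃ : g₃ * x = x * g₃) (w₃ : g₃ * w = w * g₃)
    (a₁ : ez x * (g₁ : M) = ez x * ((eb.lift a : G) : M)) (a₂ : ez w * (g₂ : M) = ez w * ((eb.lift b : G) : M))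
    (a₃ : ez (x * w) * (g₃ : M) = ez (x * w) * ((eb.lift c : G) : M)) : ch.Kernel h K := by
  have hw := chw.mem
  have hcm := ez_comm hwx.symm
  have hez := ez_mul_self h ch.sq hwx
  have hxz : x * (x * w) = x * w * x := by rw [mul_assoc x w x, hwx]
  have hxi := ez_idem h.two ch.sq
  have hwi := ez_idem h.two chw.sq
  obtain ⟨e, he⟩ : ∃ e : M, e = ez x * ez w := ⟨_, rfl⟩
  have hee : e * e = e := by rw [he]; exact eb.idem
  have k1 : ez x * e = e ∧ e * ez x = e := by
    refine ⟨?_, ?_⟩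
    · rw [he, ← Matrix.mul_assoc, hxi]
    · rw [he, hcm, Matrix.mul_assoc, hxi]
  have k2 : ez w * e = e ∧ e * ez w = e := by
    refine ⟨?_, ?_⟩
    · rw [he, hcm, ← Matrix.mul_assoc, hwi]
    · rw [he, Matrix.mul_assoc, hwi]
  have hzz := ez_idem h.two chz.sq
  have k3 : ez (x * w) * e = e ∧ e * ez (x * w) = e := by
    refine ⟨?_, ?_⟩
    · rw [he, ← hez, ← Matrix.mul_assoc, hzz]
    · rw [he, ← hez, ez_comm hxz.symm, Matrix.mul_assoc, hzz]
  have hce : ∀ {g : G}, g * x = x * g → g * w = w * g → (g : M) * e = e * g := fun {g} e1 e2 => by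
    rw [he, ← Matrix.mul_assoc, (comm_ez_iff h.two).2 e1, Matrix.mul_assoc, (comm_ez_iff h.two).2 e2, ← Matrix.mul_assoc]
  obtain ⟨L, hL⟩ : ∃ L : GL μ E →* G, L = eb.lift := ⟨_, rfl⟩
  have hLv : ∀ s, eb.lift s = L s := fun s => by rw [hL]
  rw [hLv] at a₁ a₂ a₃
  have hLe : ∀ s, (L s : M) * e = e * L s := fun s => by rw [← hLv, he]; exact eb.lift_mem_cent _
  have hLp : ∀ {p : M}, p * e = 0 → ∀ s, p * (L s : M) = p := fun hp s => by rw [← hLv]; exact eb.mul_lift (he ▸ hp) _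
  have hLc : ∀ {p : M}, p * e = e → e * p = e → ∀ s, (L s : M) * p = p * L s := fun p1 p2 s => by
    rw [← hLv]; exact eb.lift_comm (he ▸ p1) (he ▸ p2) _
  obtain ⟨g, hg⟩ : ∃ g, g = ⁅⁅g₁, g₂⁆, g₃⁆ := ⟨_, rfl⟩
  have hgK : g ∈ K := by
    rw [hg, commutatorElement_def, commutatorElement_def]
    have := mul_mem (mul_mem (mul_mem hg₁ hg₂) (inv_mem hg₁)) (inv_mem hg₂)
    exact mul_mem (mul_mem (mul_mem this hg₃) (inv_mem this)) (inv_mem hg₃)
  have word : ∀ {p : M} {b₁ b₂ b₃ : G}, (g₁, b₁) ∈ Agree p → (g₂, b₂) ∈ Agree p → (g₃, b₃) ∈ Agree p →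
      (g, ⁅⁅b₁, b₂⁆, b₃⁆) ∈ Agree p := fun {p b₁ b₂ b₃} h1 h2 h3 => by
    have := mul_mem (mul_mem (mul_mem h1 h2) (inv_mem h1)) (inv_mem h2)
    have := mul_mem (mul_mem (mul_mem this h3) (inv_mem this)) (inv_mem h3)
    simp only [Prod.mk_mul_mk, Prod.inv_mk, ← commutatorElement_def] at this
    rwa [hg]
  -- the four pieces
  have pe : ∀ {g : G} {f : M} {s}, g * x = x * g → g * w = w * g → e * f = e → f * (g : M) = f * (L s : M) →
      (g, L s) ∈ Agree e := fun {g f s} e1 e2 e3 e4 => mem_agree.2 ⟨hce e1 e2, hLe s, by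
    rw [← e3, Matrix.mul_assoc, e4, ← Matrix.mul_assoc]⟩
  have E1 := (mem_agree.1 (word (pe x₁ w₁ k1.2 a₁) (pe x₂ w₂ k2.2 a₂) (pe x₃ w₃ k3.2 a₃))).2.2
  rw [← map_commutatorElement, ← map_commutatorElement] at E1
  obtain ⟨T, hT'⟩ : ∃ T, T = ⁅⁅a, b⁆, c⁆ := ⟨_, rfl⟩
  rw [← hT'] at E1 hT
  have pc : ∀ {f : M} {g : G}, (g : M) * f = f * g → g * x = x * g → g * w = w * g → (g : M) * (f - e) = (f - e) * g :=
    fun e0 e1 e2 => by rw [mul_sub, sub_mul, e0, hce e1 e2]
  have pf : ∀ {f : M} {g : G} {s}, f * e = e → (g : M) * f = f * g → g * x = x * g → g * w = w * g →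
      f * (g : M) = f * (L s : M) → (g, (1 : G)) ∈ Agree (f - e) := fun {f g s} f1 f0 e1 e2 e4 => by
    refine mem_agree.2 ⟨pc f0 e1 e2, by simp, ?_⟩
    have e5 : e * (g : M) = e * (L s : M) := by
      have f2 : (f - e) * e = 0 := by rw [sub_mul, f1, hee, sub_self]
      have f3 := hLp f2 s
      rw [sub_mul] at f3
      calc e * (g : M) = (g : M) * e := (hce e1 e2).symm
        _ = (g : M) * (f * e) := by rw [f1]
        _ = f * (g : M) * e := by rw [← Matrix.mul_assoc, f0]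
        _ = f * e * (L s : M) := by rw [e4, Matrix.mul_assoc, hLe, ← Matrix.mul_assoc]
        _ = _ := by rw [f1]
    rw [Units.val_one, Matrix.mul_one, sub_mul, e4, e5, ← sub_mul, hLp (by rw [sub_mul, f1, hee, sub_self])]
  have self : ∀ {p : M} {g : G}, (g : M) * p = p * g → (g, g) ∈ Agree p := fun hp => mem_agree.2 ⟨hp, hp, rfl⟩
  have cx : ∀ {g : G}, g * x = x * g → (g : M) * ez x = ez x * g := (comm_ez_iff h.two).2
  have cw : ∀ {g : G}, g * w = w * g → (g : M) * ez w = ez w * g := (comm_ez_iff h.two).2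
  have cz : ∀ {g : G}, g * x = x * g → g * w = w * g → (g : M) * ez (x * w) = ez (x * w) * g := fun {g} e1 e2 =>
    (comm_ez_iff h.two).2 (by rw [← mul_assoc, e1, mul_assoc, e2, ← mul_assoc])
  have E2 : (ez x - e) * (g : M) = ez x - e := by
    have := (mem_agree.1 (word (pf k1.1 (cx x₁) x₁ w₁ a₁) (self (pc (cx x₂) x₂ w₂)) (self (pc (cx x₃) x₃ w₃)))).2.2
    rwa [commutatorElement_one_left, commutatorElement_one_left, Units.val_one, Matrix.mul_one] at this
  have E3 : (ez w - e) * (g : M) = ez w - e := by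
    have := (mem_agree.1 (word (self (pc (cw w₁) x₁ w₁)) (pf k2.1 (cw w₂) x₂ w₂ a₂) (self (pc (cw w₃) x₃ w₃)))).2.2
    rwa [commutatorElement_one_right, commutatorElement_one_left, Units.val_one, Matrix.mul_one] at this
  have E4 : (ez (x * w) - e) * (g : M) = ez (x * w) - e := by
    have := (mem_agree.1 (word (self (pc (cz x₁ w₁) x₁ w₁)) (self (pc (cz x₂ w₂) x₂ w₂))
      (pf k3.1 (cz x₃ w₃) x₃ w₃ a₃))).2.2
    rwa [commutatorElement_one_right, Units.val_one, Matrix.mul_one] at this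
  have hsum : e + (ez x - e) + (ez w - e) + (ez (x * w) - e) = 1 := by
    rw [he, ez, ez, ez, smul_mul_smul_comm, Units.val_mul, mul_add, add_mul, add_mul, one_mul, one_mul, mul_one]
    ext i k
    simp only [Matrix.smul_apply, Matrix.add_apply, Matrix.sub_apply, smul_eq_mul]
    field_simp [h.two]
    ring
  have hgL : g = L T := by
    refine Units.ext ?_
    have f1 : (ez x - e) * (L T : M) = ez x - e := hLp (by rw [sub_mul, k1.1, hee, sub_self]) T
    have f2 : (ez w - e) * (L T : M) = ez w - e := hLp (by rw [sub_mul, k2.1, hee, sub_self]) T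
    have f3 : (ez (x * w) - e) * (L T : M) = ez (x * w) - e := hLp (by rw [sub_mul, k3.1, hee, sub_self]) T
    calc (g : M) = (e + (ez x - e) + (ez w - e) + (ez (x * w) - e)) * (g : M) := by rw [hsum, Matrix.one_mul]
      _ = (e + (ez x - e) + (ez w - e) + (ez (x * w) - e)) * (L T : M) := by
        rw [add_mul, add_mul, add_mul, E1, E2, E3, E4, add_mul, add_mul, add_mul, f1, f2, f3]
      _ = _ := by rw [hsum, Matrix.one_mul]
  have hLx : (L T : M) * ez x = ez x * L T := hLc k1.1 k1.2 T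
  have hLx' : L T * x = x * L T := (comm_ez_iff h.two).1 hLx
  refine ⟨ch.em.res ⟨L T, hLx⟩, fun c hc' => ?_, ?_⟩
  · rw [Emb.res_val] at hc'
    have e10 : (ez x - e) ≠ 0 := by
      intro e0
      have e2 : ez x * (1 - ez w) = 0 := by rw [mul_sub, mul_one, ← he]; exact e0
      have e3 : (1 : M) - ez w = ez (-w) := by
        rw [ez, ez, Units.val_neg]
        ext i k
        simp only [Matrix.smul_apply, Matrix.add_apply, Matrix.sub_apply, Matrix.neg_apply, smul_eq_mul]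
        field_simp [h.two]
        ring
      rw [e3, ez, ez, smul_mul_smul_comm] at e2
      exact h.proj_mul_ne (h.neg_mem hw) ch.mem (by rwa [pr_neg]) (ch.pr_ne h) (by rw [pr_neg]; exact hne.symm)
        ((smul_eq_zero.1 e2).resolve_left (mul_ne_zero (inv_ne_zero h.two) (inv_ne_zero h.two)))
    have e4 : ez x * (L T : M) = ez x * (c • 1) := ch.em.mul_of_val hLx (by rw [Matrix.smul_mul, Matrix.mul_smul,
      Matrix.mul_one, Matrix.one_mul]) (by rw [hc', ch.em.val_smul, ch.em.val_one])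
    have f0 : (ez x - e) * ez x = ez x - e := by rw [sub_mul, hxi, k1.2]
    have e5 : (c - 1) • (ez x - e) = 0 := by
      have f1 : (ez x - e) * (L T : M) = ez x - e := hLp (by rw [sub_mul, k1.1, hee, sub_self]) T
      rw [← f0, Matrix.mul_assoc, e4, ← Matrix.mul_assoc, f0, Matrix.mul_smul, Matrix.mul_one] at f1
      rw [sub_smul, one_smul, f1, sub_self]
    obtain rfl : c = 1 := sub_eq_zero.1 ((smul_eq_zero.1 e5).resolve_right e10)
    refine hT ?_
    refine Units.ext ?_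
    rw [← eb.val_lift, hLv, Units.val_one, ← eb.val_one]
    refine eb.val_of_mul ?_
    rw [← he, ← k1.2, Matrix.mul_assoc, e4, one_smul, ← Matrix.mul_assoc]
  · have f4 : (1 - ez x) * (L T : M) = 1 - ez x := hLp (by rw [sub_mul, one_mul, k1.1, sub_self]) T
    have e6 : ez x * ((ch.y : M) * (L T : M) * (ch.y : M)) = ez x * 1 := by
      have e7 : ez x * (ch.y : M) = (ch.y : M) * (1 - ez x) := by
        rw [mul_sub, mul_one, anti_ez ch.anti h.two, sub_mul, one_mul]; simp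
      rw [← Matrix.mul_assoc, ← Matrix.mul_assoc, e7, Matrix.mul_assoc (ch.y : M), f4, ← e7, Matrix.mul_assoc, ch.yy]
    have e8 : L T = ch.δ h (ch.em.res ⟨L T, hLx⟩) 1 :=
      ch.eq_δ h hLx' rfl (by rw [ch.em.val_of_mul e6, ch.em.val_one, Units.val_one])
    rw [← e8, ← hgL]
    exact hgK

/-- three commuting involutions cannot all induce everything without a kernel -/
theorem no_triple {x w : G} (h : PS R) (ch : Chart R x κ) (chw : Chart R w κ) (chz : Chart R (x * w) κ)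
    (hRK : R ≤ K) (hwx : w * x = x * w) (hw1 : pr w ≠ 1) (hne : pr w ≠ pr x) {d' : ℕ}
    (hd : Fintype.card κ = 2 * d') (hd2 : 2 ≤ d') (hb : ch.Big K) (hbw : chw.Big K) (hbz : chz.Big K)
    (hk : ¬ ch.Kernel h K) (hkw : ¬ chw.Kernel h K) (hkz : ¬ chz.Kernel h K) : False := by
  have hw := chw.mem
  have hcm := ez_comm hwx.symm
  have hez := ez_mul_self h ch.sq hwx
  obtain ⟨eb, -, -, -⟩ := ch.exists_corner h hd hw chw.sq hwx hw1 hne
  obtain ⟨j, hj⟩ := h.fourth
  haveI : Nontrivial (Fin d') := Fin.nontrivial_iff_two_le.2 hd2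
  have hperf : commutator (SpecialLinearGroup (Fin d') E) = ⊤ := by
    refine Classical.commutator_sl_eq_top (Or.inr ⟨j, fun e => by simp [e] at hj, fun e => ?_⟩)
    rw [pow_two, hj] at e
    exact h.two (by linear_combination -e)
  obtain ⟨a, ha, b, hb', c, hc, hT⟩ := exists_triple hperf ⟨Matrix.SpecialLinearGroup.transvection
    (show (⟨0, by omega⟩ : Fin d') ≠ ⟨1, by omega⟩ by simp) 1, fun e => by
      have := congrArg (fun m : SpecialLinearGroup (Fin d') E =>
        (m : Matrix (Fin d') (Fin d') E) ⟨0, by omega⟩ ⟨1, by omega⟩) e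
      simp [Matrix.SpecialLinearGroup.transvection, Matrix.transvection] at this⟩
  obtain ⟨g₁, hg₁, x₁, w₁, a₁⟩ := ch.corner_lift h hb hk (hRK ch.ymem) (hRK hw) chw.sq hwx eb rfl a ha
  obtain ⟨g₂, hg₂, w₂, x₂, a₂⟩ := chw.corner_lift h hbw hkw (hRK chw.ymem) (hRK ch.mem) ch.sq hwx.symm eb hcm.symm b hb'
  have hxz : x * (x * w) = x * w * x := by rw [mul_assoc x w x, hwx]
  obtain ⟨g₃, hg₃, z₃, x₃, a₃⟩ := chz.corner_lift h hbz hkz (hRK chz.ymem) (hRK ch.mem) ch.sq hxz eb hez c hc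
  have w₃ : g₃ * w = w * g₃ := by
    rw [← mul_assoc, x₃, mul_assoc, mul_assoc] at z₃
    exact mul_left_cancel z₃
  exact hk (triple_kernel h ch chw chz hwx hw1 hne eb
    (a := SpecialLinearGroup.toGL a) (b := SpecialLinearGroup.toGL b) (c := SpecialLinearGroup.toGL c)
    (by
      rw [← map_commutatorElement, ← map_commutatorElement]
      exact fun e => hT (SpecialLinearGroup.toGL_injective (e.trans (map_one _).symm)))
    hg₁ hg₂ hg₃ x₁ w₁ x₂ w₂ x₃ w₃ a₁ a₂ a₃)

end Cfsg.Agent.ClassicalMax.SympType
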