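import Cfsg.Agent.ClassicalMax.SympType.FourStd

/-!
Overgroups of the normaliser of the standard two-group in four dimensions, through the exterior square.
-/

set_option autoImplicit false
set_option linter.unusedSectionVars false

namespace Cfsg.Agent.ClassicalMax.SympType.Four

open Matrix Module QuadraticMap Cfsg.Agent.Classical

variable {F : Type*} [Field F] [Fintype F] {j : F}

local notation "M4" => Matrix (Fin 4) (Fin 4) F
local notation "G4" => GL (Fin 4) F
local notation "SL4" => SpecialLinearGroup (Fin 4) F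
local notation "I6" => (Fin 3 ⊕ Fin 3)
local notation "O6" => Quad.oG (Quad.plusQ F 3)
local notation "Kl" => Klein.kleinHom (F := F)

omit [Fintype F] in
theorem mem_SL_of (g : SL4) : (SpecialLinearGroup.toGL g : G4) ∈ Cfsg.Geo.specialLinear (Fin 4) F :=
  Units.ext (by rw [Matrix.GeneralLinearGroup.val_det_apply]; exact g.2)

omit [Fintype F] in
theorem exists_of_mem_SL {g : G4} (hg : g ∈ Cfsg.Geo.specialLinear (Fin 4) F) :
    ∃ g' : SL4, (SpecialLinearGroup.toGL g' : G4) = g :=
  ⟨⟨(g : M4), by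
    have := congrArg Units.val (show Matrix.GeneralLinearGroup.det g = 1 from hg)
    rwa [Matrix.GeneralLinearGroup.val_det_apply] at this⟩, Units.ext rfl⟩

omit [Fintype F] in
theorem eq_or_neg_of_klein {x y : SL4} (h : Kl x = Kl y) :
    (SpecialLinearGroup.toGL x : G4) = SpecialLinearGroup.toGL y ∨
      (SpecialLinearGroup.toGL x : G4) = -SpecialLinearGroup.toGL y := by
  obtain ⟨h1, h2⟩ := Exc.sl4_ker (g := x * y⁻¹) (MonoidHom.mem_ker.2 (by rw [map_mul, map_inv, h, mul_inv_cancel]))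
  have e : (SpecialLinearGroup.toGL x : G4) = SpecialLinearGroup.toGL (x * y⁻¹) * SpecialLinearGroup.toGL y := by
    rw [← map_mul, inv_mul_cancel_right]
  rcases mul_self_eq_one_iff.1 h2 with e1 | e1 <;> rw [e1] at h1
  · left
    rw [e, show (SpecialLinearGroup.toGL (x * y⁻¹) : G4) = 1 from Units.ext (h1.trans (map_one _)), one_mul]
  · right
    rw [e, show (SpecialLinearGroup.toGL (x * y⁻¹) : G4) = -1 from Units.ext (by
      rw [Units.val_neg, Units.val_one]
      exact h1.trans (by rw [map_neg, map_one])), neg_one_mul]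

theorem klein_range : (Kl).range = commutator O6 := by
  classical
  have hQ := Quad.nondeg_plusQ (F := F) (m := 3)
  have hd : finrank F (Fin 3 ⊕ Fin 3 → F) = 6 := Quad.finrank_plus
  haveI := Exc.oG_finite (Quad.plusQ F 3)
  have hp : commutator SL4 = ⊤ := commutator_sl_eq_top (Or.inl (by simp))
  have hle : (Kl).range ≤ commutator O6 := by
    rintro _ ⟨g, rfl⟩
    have hg : g ∈ commutator SL4 := by rw [hp]; trivial
    have h1 := Subgroup.mem_map_of_mem (Kl) hg
    rw [commutator_def, Subgroup.map_commutator] at h1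
    rw [commutator_def]
    exact Subgroup.commutator_mono le_top le_top h1
  refine Subgroup.eq_of_le_of_card_ge hle ?_
  have h1 := Exc.comm_card_bound hQ (by omega) (Exc.two_le_bound (Kl).ker (fun g => g.1 0 0)
    (fun x hx y hy e => Subtype.ext (by rw [(Exc.sl4_ker hx).1, (Exc.sl4_ker hy).1]; exact congrArg _ e))
    fun x hx => (Exc.sl4_ker hx).2) (L := Nat.card SL4) (by
      rw [Nat.card_congr (Quad.oCongr (Q₂ := Quad.hyp (Quad.zeroForm F) 3) (Quad.plusCoord 3) fun x => rfl).toEquiv,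
        Quad.card_oG_plus rfl 2]
      have h1 := card_sl_mul (F := F) rfl 4 (by norm_num)
      have hq : 2 ≤ Fintype.card F := Fintype.one_lt_card
      generalize Fintype.card F = q at h1 hq ⊢
      generalize Nat.card SL4 = L at h1 ⊢
      simp [Fin.prod_univ_four, Finset.prod_range_succ] at h1 ⊢
      obtain ⟨r, rfl⟩ : ∃ r, q = r + 1 := ⟨q - 1, by omega⟩
      have f1 : (r + 1) ^ 4 - (r + 1) = (r + 1) * ((r + 1) ^ 3 - 1) := by rw [Nat.mul_sub_one]; ring_nf
      have f2 : (r + 1) ^ 4 - (r + 1) ^ 2 = (r + 1) ^ 2 * ((r + 1) ^ 2 - 1) := by rw [Nat.mul_sub_one]; ring_nf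
      have f3 : (r + 1) ^ 4 - (r + 1) ^ 3 = (r + 1) ^ 3 * r := by
        rw [show (r + 1) ^ 4 = (r + 1) ^ 3 + (r + 1) ^ 3 * r by ring, Nat.add_sub_cancel_left]
      rw [f1, f2, f3, Nat.add_sub_cancel] at h1
      have hL : L = ((r + 1) ^ 4 - 1) * ((r + 1) * ((r + 1) ^ 3 - 1)) * ((r + 1) ^ 2 * ((r + 1) ^ 2 - 1)) * (r + 1) ^ 3 :=
        Nat.eq_of_mul_eq_mul_left (by omega : 0 < r) (h1.trans (by ring))
      rw [hL]
      ring) le_rfl
  have h2 : Nat.card (Kl).range * Nat.card (Kl).ker = Nat.card SL4 := by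
    rw [← Nat.card_congr (QuotientGroup.quotientKerEquivRange (Kl)).toEquiv,
      ← Subgroup.card_eq_card_quotient_mul_card_subgroup]
  exact Nat.le_of_mul_le_mul_right (h1.trans h2.ge) Nat.card_pos

/-- diagonal in the frame -/
def Dg (j : F) (g : O6) : Prop := ∀ s : I6, ∃ c : F, g.1 (bv j s) = c • bv j s

/-- monomial in the frame -/
def Mn (j : F) (g : O6) : Prop := ∀ s : I6, ∃ t : I6, ∃ c : F, g.1 (bv j s) = c • bv j t

omit [Fintype F] in
theorem klein_gen (j : F) (a : Fin 4) (s : I6) : (Kl (gen a)).1 (bv j s) = (sgnv (chi a s) : F) • bv j s :=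
  bv_eigen j a s

omit [Fintype F] in
theorem bv_ne (h2 : (2 : F) ≠ 0) (hj : j * j = -1) (s : I6) : bv j s ≠ 0 := fun e => by
  have := polar_bv hj s s
  rw [e, if_pos rfl] at this
  simp [polar] at this
  exact h2 this.symm

omit [Fintype F] in
/-- joint eigenvectors lie on the frame -/
theorem on_frame (h2 : (2 : F) ≠ 0) (hj : j * j = -1) {w : I6 → F} (hw : w ≠ 0)
    (he : ∀ a, ∃ c : F, (Kl (gen a)).1 w = c • w) : ∃ t : I6, ∃ c : F, w = c • bv j t := by
  classical
  have hchar : ∀ a s, polar (Quad.plusQ F 3) w (bv j s) ≠ 0 → (Kl (gen a)).1 w = (sgnv (chi a s) : F) • w := by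
    intro a s hs
    obtain ⟨c, hc⟩ := he a
    have h9 := Quad.polar_eq_of_mem (Kl (gen a)).2 w (bv j s)
    rw [hc, klein_gen, polar_smul_left, polar_smul_right, smul_eq_mul, smul_eq_mul, ← mul_assoc] at h9
    have hcs : c * sgnv (chi a s) = 1 := by
      refine mul_right_cancel₀ hs ?_
      rw [one_mul]; exact h9
    rw [hc]
    congr 1
    cases hb : chi a s <;> simp [hb, sgnv] at hcs ⊢
    · exact hcs
    · linear_combination -hcs
  obtain ⟨t, ht⟩ : ∃ t, polar (Quad.plusQ F 3) w (bv j t) ≠ 0 := by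
    by_contra! hc
    exact hw (eq_zero_of_perp h2 hj hc)
  refine ⟨t, (2 : F)⁻¹ * polar (Quad.plusQ F 3) w (bv j t), ?_⟩
  refine sub_eq_zero.1 (eq_zero_of_perp h2 hj fun s => ?_)
  rw [sub_eq_add_neg, ← neg_smul, polar_add_left, polar_smul_left, polar_bv hj, smul_eq_mul]
  rcases eq_or_ne t s with rfl | hts
  · rw [if_pos rfl]; field_simp; ring
  · rw [if_neg hts, mul_zero, add_zero]
    by_contra hs
    refine hts (chi_inj t s fun a => sgnv_inj h2 (smul_left_injective F hw ?_))
    exact ((hchar a t ht).symm.trans (hchar a s hs))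

omit [Fintype F] in
theorem dg_commute (h2 : (2 : F) ≠ 0) (hj : j * j = -1) {g g' : O6} (hg : Dg j g) (hg' : Dg j g') :
    g * g' = g' * g := by
  refine Subtype.ext (LinearEquiv.ext fun x => sub_eq_zero.1 (eq_zero_of_perp h2 hj fun s => ?_))
  have key : ∀ h : O6, ∀ c : F, h.1 (bv j s) = c • bv j s → c ≠ 0 → ∀ y,
      polar (Quad.plusQ F 3) (h.1 y) (bv j s) = c⁻¹ * polar (Quad.plusQ F 3) y (bv j s) := by
    intro h c hc hc0 y
    have h9 := Quad.polar_eq_of_mem h.2 y (bv j s)
    rw [hc, polar_smul_right, smul_eq_mul] at h9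
    rw [← h9, inv_mul_cancel_left₀ hc0]
  obtain ⟨c, hc⟩ := hg s
  obtain ⟨c', hc'⟩ := hg' s
  have nz : ∀ h : O6, ∀ c : F, h.1 (bv j s) = c • bv j s → c ≠ 0 := fun h c hc e =>
    bv_ne h2 hj s (h.1.injective (by rw [hc, e, zero_smul, map_zero]))
  rw [sub_eq_add_neg, ← neg_one_smul F, polar_add_left, polar_smul_left, smul_eq_mul]
  show polar (Quad.plusQ F 3) (g.1 (g'.1 x)) (bv j s) + -1 * polar (Quad.plusQ F 3) (g'.1 (g.1 x)) (bv j s) = 0
  rw [key g c hc (nz g c hc), key g' c' hc' (nz g' c' hc'), key g' c' hc' (nz g' c' hc'), key g c hc (nz g c hc)]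
  ring

omit [Fintype F] in
/-- the preimages of the diagonal elements form the two-group -/
theorem mem_R0_of_dg (h2 : (2 : F) ≠ 0) (hj : j * j = -1) {y : SL4} (hy : Dg j (Kl y)) :
    (SpecialLinearGroup.toGL y : G4) ∈ R0 F := by
  intro a
  have e : Kl (y * gen a) = Kl (gen a * y) := by
    rw [map_mul, map_mul]
    exact dg_commute h2 hj hy fun s => ⟨_, klein_gen j a s⟩
  rcases eq_or_neg_of_klein e with e1 | e1 <;> rw [map_mul, map_mul] at e1
  · exact Or.inl e1
  · exact Or.inr e1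

omit [Fintype F] in
theorem dg_of_mem_R0 (h2 : (2 : F) ≠ 0) (hj : j * j = -1) {y : SL4}
    (hy : (SpecialLinearGroup.toGL y : G4) ∈ R0 F) : Dg j (Kl y) := by
  intro s
  have hcomm : ∀ a, Kl (gen a) * Kl y = Kl y * Kl (gen a) := by
    intro a
    rw [← map_mul, ← map_mul]
    rcases hy a with e | e
    · congr 1
      exact SpecialLinearGroup.toGL_injective (by rw [map_mul, map_mul]; exact e.symm)
    · refine Subtype.ext (LinearEquiv.ext fun x => ?_)
      rw [Klein.kleinHom_apply, Klein.kleinHom_apply]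
      have e1 : ((y * gen a : SL4) : M4) = -((gen a * y : SL4) : M4) := by
        show (y : M4) * (gMat a : M4) = -((gMat a : M4) * (y : M4))
        have := congrArg Units.val e
        rw [Units.val_neg, Units.val_mul, Units.val_mul] at this
        exact this
      congr 1
      rw [show ((y * gen a : SL4) : M4) = -((gen a * y : SL4) : M4) from e1]
      ext t u
      simp [Klein.comp2, Klein.wedge]
  obtain ⟨t, c, hc⟩ := on_frame h2 hj (w := (Kl y).1 (bv j s))
    (fun e => bv_ne h2 hj s ((Kl y).1.injective (by rw [e, map_zero]))) fun a => ⟨(sgnv (chi a s) : F), by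
      show (Kl (gen a) * Kl y).1 (bv j s) = _
      rw [hcomm]
      show (Kl y).1 ((Kl (gen a)).1 (bv j s)) = _
      rw [klein_gen, map_smul]⟩
  have hts : s = t := by
    refine chi_inj s t fun a => sgnv_inj h2 ?_
    have h9 : (Kl (gen a)).1 ((Kl y).1 (bv j s)) = (sgnv (chi a s) : F) • (Kl y).1 (bv j s) := by
      show (Kl (gen a) * Kl y).1 (bv j s) = _
      rw [hcomm]
      show (Kl y).1 ((Kl (gen a)).1 (bv j s)) = _
      rw [klein_gen, map_smul]
    rw [hc, map_smul, klein_gen, smul_smul, smul_smul] at h9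
    have hc0 : c ≠ 0 := fun e => bv_ne h2 hj s ((Kl y).1.injective (by rw [hc, e, zero_smul, map_zero]))
    have := smul_left_injective F (bv_ne h2 hj t) h9
    exact mul_left_cancel₀ hc0 (by linear_combination -this)
  exact ⟨c, by rw [hc, hts]⟩

omit [Fintype F] in
theorem norm_of_mn (h2 : (2 : F) ≠ 0) (hj : j * j = -1) {g : SL4} (hg : Mn j (Kl g)) :
    ∀ r ∈ R0 F, (SpecialLinearGroup.toGL g : G4) * r * (SpecialLinearGroup.toGL g)⁻¹ ∈ R0 F := by
  choose π c hc using hg
  have hinj : Function.Injective π := fun s t e => by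
    by_contra hne
    have h9 := Quad.polar_eq_of_mem (Kl g).2 (bv j s) (bv j t)
    rw [hc, hc, e, polar_smul_left, polar_smul_right, polar_bv hj, polar_bv hj, if_pos rfl, if_neg hne,
      smul_eq_mul, smul_eq_mul] at h9
    have nz : ∀ u, c u ≠ 0 := fun u e' => bv_ne h2 hj u ((Kl g).1.injective (by rw [hc, e', zero_smul, map_zero]))
    exact mul_ne_zero (nz s) (mul_ne_zero (nz t) h2) h9
  have hsurj := Finite.injective_iff_surjective.1 hinj
  intro r hr
  obtain ⟨d, w, hw, rfl⟩ := R0_decomp h2 hr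
  rw [show (SpecialLinearGroup.toGL g : G4) * (sc d * SpecialLinearGroup.toGL w) * (SpecialLinearGroup.toGL g)⁻¹ =
    sc d * SpecialLinearGroup.toGL (g * w * g⁻¹) by rw [← mul_assoc, ← sc_comm, mul_assoc, mul_assoc, map_mul,
      map_mul, map_inv, mul_assoc]]
  refine mul_mem (sc_mem d) ?_
  clear hr
  induction hw using Subgroup.closure_induction with
  | mem x hx =>
    obtain ⟨a, rfl⟩ := hx
    refine mem_R0_of_dg h2 hj fun t => ?_
    obtain ⟨s, rfl⟩ := hsurj t
    refine ⟨(sgnv (chi a s) : F), ?_⟩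
    have hcs : c s ≠ 0 := fun e => bv_ne h2 hj s ((Kl g).1.injective (by rw [hc, e, zero_smul, map_zero]))
    refine smul_right_injective _ hcs ?_
    show c s • (Kl (g * gen a * g⁻¹)).1 (bv j (π s)) = c s • _
    rw [← map_smul, ← hc, map_mul, map_mul, map_inv]
    show (Kl g).1 ((Kl (gen a)).1 ((Kl g)⁻¹.1 ((Kl g).1 (bv j s)))) = _
    rw [Quad.oG_inv_apply, klein_gen, map_smul, hc, smul_comm]
  | one => rw [mul_one, mul_inv_cancel, map_one]; exact one_mem _
  | mul x y _ _ ihx ihy =>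
    rw [show g * (x * y) * g⁻¹ = g * x * g⁻¹ * (g * y * g⁻¹) by group, map_mul]
    exact mul_mem ihx ihy
  | inv x _ ih =>
    rw [show g * x⁻¹ * g⁻¹ = (g * x * g⁻¹)⁻¹ by group, map_inv]
    exact inv_mem ih

omit [Fintype F] in
theorem mn_of_norm (h2 : (2 : F) ≠ 0) (hj : j * j = -1) {g : SL4}
    (hg : ∀ r ∈ R0 F, (SpecialLinearGroup.toGL g : G4)⁻¹ * r * SpecialLinearGroup.toGL g ∈ R0 F) :
    Mn j (Kl g) := by
  intro s
  refine on_frame h2 hj (fun e => bv_ne h2 hj s ((Kl g).1.injective (by rw [e, map_zero]))) fun a => ?_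
  obtain ⟨c, hc⟩ := dg_of_mem_R0 h2 hj (y := g⁻¹ * gen a * g) (by
    rw [map_mul, map_mul, map_inv]; exact hg _ (ga_mem a)) s
  refine ⟨c, ?_⟩
  rw [← map_smul, ← hc, map_mul, map_mul, map_inv]
  show _ = (Kl g).1 ((Kl g)⁻¹.1 ((Kl (gen a)).1 ((Kl g).1 (bv j s))))
  rw [Quad.oG_apply_inv]

/-- the frame -/
def frame (j : F) (i : Fin 6) : Submodule F (I6 → F) := Submodule.span F {bv j (finSumFinEquiv.symm i)}

omit [Fintype F] in
theorem frame_decomp (h2 : (2 : F) ≠ 0) (hj : j * j = -1) :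
    Cfsg.Geo.IsOrthogonalMDecomposition (⇑(Quad.plusQ F 3)) 1 (frame j) := by
  classical
  obtain ⟨w, hw⟩ : ∃ w : Fin 6 → I6 → F, ∀ i, w i = bv j (finSumFinEquiv.symm i) := ⟨_, fun _ => rfl⟩
  have hframe : ∀ i, frame j i = Submodule.span F {w i} := fun i => by rw [hw]; rfl
  have hpol : ∀ i k, polar (Quad.plusQ F 3) (w i) (w k) = if i = k then 2 else 0 := fun i k => by
    rw [hw, hw, polar_bv hj]
    simp
  have hq : ∀ i, Quad.plusQ F 3 (w i) = 1 := fun i => by rw [hw]; exact plusQ_bv hj _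
  have hw0 : ∀ i, w i ≠ 0 := fun i => by rw [hw]; exact bv_ne h2 hj _
  have hli : LinearIndependent F w := by
    rw [Fintype.linearIndependent_iff]
    intro g hg i
    have := congrArg (fun x => polarBilin (Quad.plusQ F 3) (w i) x) hg
    simp [map_sum, polarBilin_apply_apply, hpol] at this
    exact this.resolve_right h2
  have htop : Submodule.span F (Set.range w) = ⊤ := hli.span_eq_top_of_card_eq_finrank (by simp)
  refine ⟨⟨⟨by norm_num, by norm_num, fun i => by rw [hframe]; exact finrank_span_singleton (hw0 i), ?_, ?_⟩,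
    fun i x hx hx0 => ?_, fun i k hik x hx y hy => ?_⟩, fun i k => ?_⟩
  · rw [show frame j = fun i => Submodule.span F {w i} from funext hframe]
    exact hli.iSupIndep_span_singleton
  · rw [eq_top_iff, ← htop, Submodule.span_le]
    rintro _ ⟨i, rfl⟩
    exact le_iSup (frame j) i (by rw [hframe]; exact Submodule.mem_span_singleton_self _)
  · rw [hframe] at hx ⊢
    obtain ⟨c, rfl⟩ := Submodule.mem_span_singleton.1 hx
    have hc : c ≠ 0 := fun e => hx0 (by rw [e, zero_smul])
    have : polar (Quad.plusQ F 3) (c • w i) (w i) ≠ 0 := by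
      rw [polar_smul_left, hpol, if_pos rfl]; exact mul_ne_zero hc h2
    exact ⟨⟨w i, Submodule.mem_span_singleton_self _, by rwa [polar_comm]⟩,
      ⟨w i, Submodule.mem_span_singleton_self _, this⟩⟩
  · rw [hframe] at hx hy
    obtain ⟨a, rfl⟩ := Submodule.mem_span_singleton.1 hx
    obtain ⟨b, rfl⟩ := Submodule.mem_span_singleton.1 hy
    rw [polar_smul_left, polar_smul_right, hpol, if_neg hik]; simp
  · rw [hframe, hframe]
    refine ⟨(LinearEquiv.toSpanNonzeroSingleton F _ (w i) (hw0 i)).symm.trans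
      (LinearEquiv.toSpanNonzeroSingleton F _ (w k) (hw0 k)), fun x => ?_⟩
    obtain ⟨c, rfl⟩ := (LinearEquiv.toSpanNonzeroSingleton F _ (w i) (hw0 i)).surjective x
    rw [LinearEquiv.trans_apply, LinearEquiv.symm_apply_apply]
    show Quad.plusQ F 3 (c • w k) = Quad.plusQ F 3 (c • w i)
    simp [Quad.map_smul', hq]

omit [Fintype F] in
theorem stab_iff (h2 : (2 : F) ≠ 0) (hj : j * j = -1) (g : O6) :
    (glEquiv I6 F).symm g.1 ∈ Cfsg.Geo.decompositionStabilizer (frame j) ↔ Mn j g := by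
  classical
  have e0 : Matrix.toLin' ((((glEquiv I6 F).symm g.1 : GL I6 F)) : Matrix I6 I6 F) = g.1.toLinearMap :=
    LinearMap.ext fun x => by
      conv_rhs => rw [← (glEquiv I6 F).apply_symm_apply g.1]
      rw [LinearEquiv.coe_coe, glEquiv_apply, Matrix.toLin'_apply]
  show (∃ σ : Equiv.Perm (Fin 6), ∀ i, _) ↔ _
  rw [e0]
  constructor
  · rintro ⟨σ, hσ⟩ s
    have h1 : g.1 (bv j s) ∈ frame j (σ (finSumFinEquiv s)) := hσ (finSumFinEquiv s) ▸ Submodule.mem_map_of_mem
      (by show bv j s ∈ Submodule.span F {bv j (finSumFinEquiv.symm (finSumFinEquiv s))}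
          rw [Equiv.symm_apply_apply]; exact Submodule.mem_span_singleton_self _)
    obtain ⟨r, hr⟩ := Submodule.mem_span_singleton.1 h1
    exact ⟨_, r, hr.symm⟩
  · intro hm
    choose π c hc using hm
    have nz : ∀ s, c s ≠ 0 := fun s e => bv_ne h2 hj s (g.1.injective (by rw [hc, e, zero_smul, map_zero]))
    have hinj : Function.Injective π := fun s t e => by
      by_contra hne
      have h9 := Quad.polar_eq_of_mem g.2 (bv j s) (bv j t)
      rw [hc, hc, e, polar_smul_left, polar_smul_right, polar_bv hj, polar_bv hj, if_pos rfl, if_neg hne,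
        smul_eq_mul, smul_eq_mul] at h9
      exact mul_ne_zero (nz s) (mul_ne_zero (nz t) h2) h9
    refine ⟨finSumFinEquiv.symm.trans ((Equiv.ofBijective π (Finite.injective_iff_bijective.1 hinj)).trans
      finSumFinEquiv), fun i => ?_⟩
    simp only [frame, Equiv.trans_apply, Equiv.ofBijective_apply, Equiv.symm_apply_apply]
    rw [Submodule.map_span, Set.image_singleton, LinearEquiv.coe_coe, hc]
    exact Submodule.span_singleton_smul_eq (Ne.isUnit (nz _)) _

/-- overgroups in the special linear group -/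
theorem std_base (h2 : (2 : F) ≠ 0) (hp : (Fintype.card F).Prime) (hj : j * j = -1) (K : Subgroup G4)
    (hK : ∀ g ∈ Cfsg.Geo.specialLinear (Fin 4) F, (∀ r ∈ R0 F, g * r * g⁻¹ ∈ R0 F) →
      (∀ r ∈ R0 F, g⁻¹ * r * g ∈ R0 F) → g ∈ K) :
    (∀ g ∈ K, g ∈ Cfsg.Geo.specialLinear (Fin 4) F → ∀ r ∈ R0 F, g * r * g⁻¹ ∈ R0 F) ∨
      Cfsg.Geo.specialLinear (Fin 4) F ≤ K := by
  classical
  let χ : O6 →* GL I6 F := (glEquiv I6 F).symm.toMonoidHom.comp (Quad.oG (Quad.plusQ F 3)).subtype
  let M : Subgroup (GL I6 F) :=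
    (K.comap (SpecialLinearGroup.toGL (n := Fin 4) (R := F))).map (χ.comp (Kl))
  have hmax := OrthMono.isMaximalIn_frame_gen (Quad.plusQ F 3) Quad.nondeg_plusQ h2 hp
    (Or.inr (Or.inr (by simp))) (frame j) (frame_decomp h2 hj)
  have hM2 : M ≤ Cfsg.Geo.omegaGL ⇑(Quad.plusQ F 3) := by
    rintro _ ⟨g, -, rfl⟩
    refine (Subfield.RootOrth.mem_omegaGL _ (Kl g)).2 ?_
    rw [← klein_range]
    exact ⟨g, rfl⟩
  have hM1 : Cfsg.Geo.decompositionStabilizer (frame j) ⊓ Cfsg.Geo.omegaGL ⇑(Quad.plusQ F 3) ≤ M := by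
    rintro x ⟨hx1, hx2⟩
    obtain ⟨k, hk, hkx⟩ := Subfield.RootOrth.exists_oG_of_omega _ hx2
    rw [← klein_range] at hk
    obtain ⟨g, rfl⟩ := hk
    have hxg : (glEquiv I6 F).symm (Kl g).1 = x := by rw [hkx, MulEquiv.symm_apply_apply]
    have hm : Mn j (Kl g) := (stab_iff h2 hj _).1 (hxg ▸ hx1)
    refine ⟨g, hK _ (mem_SL_of g) (norm_of_mn h2 hj hm) ?_, hxg⟩
    -- the inverse is monomial as well
    have hm' : Mn j (Kl g⁻¹) := by
      refine (stab_iff h2 hj _).1 ?_
      have := inv_mem (hxg ▸ hx1 : (glEquiv I6 F).symm (Kl g).1 ∈ Cfsg.Geo.decompositionStabilizer (frame j))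
      rwa [← map_inv, show ((Kl g).1)⁻¹ = (Kl g⁻¹).1 by rw [map_inv]; rfl] at this
    intro r hr
    have := norm_of_mn h2 hj hm' r hr
    rwa [map_inv, inv_inv] at this
  rcases hmax.2 M hM1 hM2 with e | e
  · left
    intro g hg hgS
    obtain ⟨g', rfl⟩ := exists_of_mem_SL hgS
    refine norm_of_mn h2 hj ((stab_iff h2 hj _).1 ?_)
    have : χ (Kl g') ∈ M := ⟨g', hg, rfl⟩
    rw [e] at this
    exact this.1
  · right
    intro g hgS
    obtain ⟨g', rfl⟩ := exists_of_mem_SL hgS
    have : χ (Kl g') ∈ M := by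
      rw [e]
      refine (Subfield.RootOrth.mem_omegaGL _ (Kl g')).2 ?_
      rw [← klein_range]
      exact ⟨g', rfl⟩
    obtain ⟨y, hy, hyx⟩ := this
    have e1 : Kl y = Kl g' := Subtype.ext ((glEquiv I6 F).symm.injective hyx)
    have hneg : (-1 : G4) ∈ K := by
      have hR : ∀ r ∈ R0 F, (-1 : G4) * r * (-1)⁻¹ = r := fun r _ => by simp
      refine hK _ (Units.ext ?_) (fun r hr => by rw [hR r hr]; exact hr) fun r hr => by simpa using hr
      rw [Matrix.GeneralLinearGroup.val_det_apply, Units.val_neg, Units.val_one, Matrix.det_neg]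
      simp
      ring
    rcases eq_or_neg_of_klein e1 with e2 | e2
    · exact e2 ▸ hy
    · have := mul_mem hneg (show (SpecialLinearGroup.toGL y : G4) ∈ K from hy)
      rwa [e2, neg_mul_neg, one_mul] at this

end Cfsg.Agent.ClassicalMax.SympType.Four
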