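import Cfsg.Agent.ClassicalMax.SympType.Lift
import Cfsg.Agent.ClassicalMax.OrthMono.Bridge
import Cfsg.Agent.Classical.KleinIso

/-!
The standard two-group of symplectic type in four dimensions and its six orthogonal eigenvectors in the exterior
square.
-/

set_option autoImplicit false
set_option linter.unusedSectionVars false

namespace Cfsg.Agent.ClassicalMax.SympType.Four

open Matrix Module QuadraticMap Cfsg.Agent.Classical

variable {F : Type*} [Field F]

local notation "M4" => Matrix (Fin 4) (Fin 4) F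
local notation "G4" => GL (Fin 4) F
local notation "I6" => (Fin 3 ⊕ Fin 3)

/-- up to a sign the two elements commute -/
def Sgn (g x : G4) : Prop := g * x = x * g ∨ g * x = -(x * g)

theorem Sgn.symm {g x : G4} (h : Sgn g x) : Sgn x g :=
  h.elim (fun e => Or.inl e.symm) fun e => Or.inr (by rw [e, neg_neg])

theorem Sgn.one (x : G4) : Sgn 1 x := Or.inl (by rw [one_mul, mul_one])

theorem Sgn.mul {g g' x : G4} (h : Sgn g x) (h' : Sgn g' x) : Sgn (g * g') x := by
  rcases h' with e' | e' <;> rcases h with e | e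
  · exact Or.inl (by rw [mul_assoc, e', ← mul_assoc, e, mul_assoc])
  · exact Or.inr (by rw [mul_assoc, e', ← mul_assoc, e, neg_mul, mul_assoc])
  · exact Or.inr (by rw [mul_assoc, e', mul_neg, ← mul_assoc, e, mul_assoc])
  · exact Or.inl (by rw [mul_assoc, e', mul_neg, ← mul_assoc, e, neg_mul, neg_neg, mul_assoc])

theorem Sgn.inv {g x : G4} (h : Sgn g x) : Sgn g⁻¹ x := by
  rcases h with e | e
  · refine Or.inl ?_
    calc g⁻¹ * x = g⁻¹ * (x * g) * g⁻¹ := by group
      _ = g⁻¹ * (g * x) * g⁻¹ := by rw [e]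
      _ = x * g⁻¹ := by group
  · refine Or.inr ?_
    calc g⁻¹ * x = -(g⁻¹ * -(x * g) * g⁻¹) := by rw [mul_neg, neg_mul, neg_neg]; group
      _ = -(g⁻¹ * (g * x) * g⁻¹) := by rw [e]
      _ = -(x * g⁻¹) := by rw [inv_mul_cancel_left]

theorem Sgn.sc (c : Fˣ) (x : G4) : Sgn (sc c) x := Or.inl (sc_comm c x)

/-- the integral generators -/
def gZ : Fin 4 → Matrix (Fin 4) (Fin 4) ℤ :=
  ![!![1, 0, 0, 0; 0, 1, 0, 0; 0, 0, -1, 0; 0, 0, 0, -1], !![1, 0, 0, 0; 0, -1, 0, 0; 0, 0, 1, 0; 0, 0, 0, -1],
    !![0, 0, 1, 0; 0, 0, 0, 1; 1, 0, 0, 0; 0, 1, 0, 0], !![0, 1, 0, 0; 1, 0, 0, 0; 0, 0, 0, 1; 0, 0, 1, 0]]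

/-- which generators anticommute -/
def anti (a b : Fin 4) : Bool := (a.1 + 2) % 4 == b.1

theorem gZ_sq : ∀ a, gZ a * gZ a = 1 := by decide

theorem gZ_comm : ∀ a b, gZ a * gZ b = (if anti a b then (-1 : ℤ) else 1) • (gZ b * gZ a) := by decide

theorem gZ_det : ∀ a, (gZ a).det = 1 := by decide

/-- the generators -/
def gMat (a : Fin 4) : M4 := (gZ a).map (Int.castRingHom F)

theorem gMat_sq (a : Fin 4) : gMat a * gMat a = (1 : M4) := by
  rw [gMat, ← Matrix.map_mul, gZ_sq, Matrix.map_one _ (map_zero _) (map_one _)]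

theorem gMat_det (a : Fin 4) : (gMat a : M4).det = 1 := by
  rw [gMat, ← RingHom.mapMatrix_apply, ← RingHom.map_det, gZ_det, map_one]

theorem gMat_comm (a b : Fin 4) :
    (gMat a : M4) * gMat b = (if anti a b then (-1 : F) else 1) • (gMat b * gMat a) := by
  rw [gMat, gMat, ← Matrix.map_mul, gZ_comm, Matrix.map_smul' _ _ _ (map_mul _), ← Matrix.map_mul]
  congr 1
  split_ifs <;> simp

theorem gMat_eq : (gMat : Fin 4 → M4) =
    ![!![1, 0, 0, 0; 0, 1, 0, 0; 0, 0, -1, 0; 0, 0, 0, -1], !![1, 0, 0, 0; 0, -1, 0, 0; 0, 0, 1, 0; 0, 0, 0, -1],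
      !![0, 0, 1, 0; 0, 0, 0, 1; 1, 0, 0, 0; 0, 1, 0, 0], !![0, 1, 0, 0; 1, 0, 0, 0; 0, 0, 0, 1; 0, 0, 1, 0]] := by
  funext a; fin_cases a <;> · ext u v; fin_cases u <;> fin_cases v <;> simp [gMat, gZ]

/-- the four generators -/
def gen (a : Fin 4) : SpecialLinearGroup (Fin 4) F := ⟨gMat a, gMat_det a⟩

/-- the generators as invertible matrices -/
def ga (a : Fin 4) : G4 := SpecialLinearGroup.toGL (gen a)

theorem ga_val (a : Fin 4) : ((ga a : G4) : M4) = gMat a := rfl

theorem ga_sq (a : Fin 4) : (ga a : G4) * ga a = 1 := Units.ext (by rw [Units.val_mul, ga_val]; exact gMat_sq a)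

theorem ga_comm (a b : Fin 4) : (ga a : G4) * ga b = if anti a b then -((ga b : G4) * ga a) else (ga b : G4) * ga a := by
  refine Units.ext ?_
  rw [Units.val_mul, ga_val, ga_val, gMat_comm]
  split_ifs <;> simp [ga_val]

theorem ga_sgn (a b : Fin 4) : Sgn (ga a : G4) (ga b) := by
  have := ga_comm (F := F) a b
  split_ifs at this
  · exact Or.inr this
  · exact Or.inl this

variable (F) in
/-- the standard two-group with all scalars -/
def R0 : Subgroup G4 where
  carrier := {g | ∀ a, Sgn g (ga a)}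
  one_mem' := fun a => Sgn.one _
  mul_mem' := fun hg hh a => (hg a).mul (hh a)
  inv_mem' := fun hg a => (hg a).inv

theorem mem_R0 {g : G4} : g ∈ R0 F ↔ ∀ a, Sgn g (ga a) := Iff.rfl

theorem ga_mem (a : Fin 4) : (ga a : G4) ∈ R0 F := fun b => ga_sgn a b

theorem sc_mem (c : Fˣ) : (sc c : G4) ∈ R0 F := fun _ => Sgn.sc c _

theorem eq_scalar_of_comm {m : M4} (h2 : (2 : F) ≠ 0) (h : ∀ a, m * gMat a = gMat a * m) : ∃ c : F, m = c • 1 := by
  have e : ∀ (a : Fin 4) (u v : Fin 4), (m * (gMat a : M4)) u v = ((gMat a : M4) * m) u v := fun a u v => by rw [h a]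
  rw [gMat_eq] at e
  have z : ∀ u v, u ≠ v → m u v = 0 := by
    intro u v huv
    have e0 := e 0 u v
    have e1 := e 1 u v
    fin_cases u <;> fin_cases v <;> simp [Matrix.mul_apply, Fin.sum_univ_four] at e0 e1 huv ⊢ <;>
      first
      | exact mul_left_cancel₀ h2 (by linear_combination e0) | exact mul_left_cancel₀ h2 (by linear_combination -e0)
      | exact mul_left_cancel₀ h2 (by linear_combination e1) | exact mul_left_cancel₀ h2 (by linear_combination -e1)
  refine ⟨m 0 0, ?_⟩
  have e2 := e 2 0 2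
  have e3 := e 3 0 1
  have e2' := e 2 1 3
  simp [Matrix.mul_apply, Fin.sum_univ_four] at e2 e3 e2'
  ext u v
  rcases eq_or_ne u v with rfl | huv
  · fin_cases u <;> simp <;>
      first | rfl | exact e2.symm | exact e3.symm | exact (e2'.symm.trans e3.symm) | exact (e3.trans e2').symm
  · simp [z u v huv, huv]

theorem R0_decomp (h2 : (2 : F) ≠ 0) {g : G4} (hg : g ∈ R0 F) :
    ∃ c : Fˣ, ∃ w : SpecialLinearGroup (Fin 4) F, w ∈ Subgroup.closure (Set.range (gen (F := F))) ∧
      g = sc c * SpecialLinearGroup.toGL w := by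
  classical
  -- correct the four signs
  let t : Fin 4 → SpecialLinearGroup (Fin 4) F := fun a => gen (a + 2)
  have hanti : ∀ a b : Fin 4, anti (a + 2) b = decide (a = b) := by decide
  have ht : ∀ a b, (SpecialLinearGroup.toGL (t a) : G4) * ga b =
      (if a = b then -1 else 1) * (ga b * SpecialLinearGroup.toGL (t a)) := by
    intro a b
    show ga (a + 2) * ga b = _ * (ga b * ga (a + 2))
    rw [ga_comm, hanti]
    by_cases hab : a = b <;> simp [hab]
  have step : ∀ (T : Finset (Fin 4)), ∀ g ∈ R0 F, (∀ b, b ∉ T → g * ga b = ga b * g) →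
      ∃ c : Fˣ, ∃ w : SpecialLinearGroup (Fin 4) F, w ∈ Subgroup.closure (Set.range (gen (F := F))) ∧
        g = sc c * SpecialLinearGroup.toGL w := by
    intro T
    induction T using Finset.induction_on with
    | empty =>
      intro g _ hg'
      obtain ⟨c, hc⟩ := eq_scalar_of_comm h2 (m := (g : M4)) fun a => by
        simpa only [Units.val_mul, ga_val] using congrArg Units.val (hg' a (Finset.notMem_empty a))
      obtain ⟨d, hd⟩ := exists_sc_of_smul hc
      exact ⟨d, 1, one_mem _, by rw [map_one, mul_one, hd]⟩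
    | insert a T haT ih =>
      intro g hgR hg'
      rcases hgR a with e | e
      · refine ih g hgR fun b hb => ?_
        rcases eq_or_ne b a with rfl | hba
        · exact e
        · exact hg' b (by simp [hba, hb])
      · have htc : t a ∈ Subgroup.closure (Set.range (gen (F := F))) := Subgroup.subset_closure ⟨_, rfl⟩
        have htR : (SpecialLinearGroup.toGL (t a) : G4) ∈ R0 F := ga_mem _
        obtain ⟨c, w, hw, hgw⟩ := ih (g * SpecialLinearGroup.toGL (t a)) (mul_mem hgR htR) fun b hb => by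
          rw [mul_assoc, ht]
          rcases eq_or_ne b a with rfl | hba
          · rw [if_pos rfl, neg_one_mul, mul_neg, ← mul_assoc, e, neg_mul, neg_neg, mul_assoc]
          · rw [if_neg (Ne.symm hba), one_mul, ← mul_assoc, hg' b (by simp [hba, hb]), mul_assoc]
        refine ⟨c, w * (t a)⁻¹, mul_mem hw (inv_mem htc), ?_⟩
        rw [map_mul, map_inv, ← mul_assoc, ← hgw, mul_inv_cancel_right]
  exact step Finset.univ g hg fun b hb => absurd (Finset.mem_univ b) hb

theorem R0_sgn (h2 : (2 : F) ≠ 0) {g g' : G4} (hg : g ∈ R0 F) (hg' : g' ∈ R0 F) : Sgn g g' := by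
  obtain ⟨c, w, hw, rfl⟩ := R0_decomp h2 hg
  refine (Sgn.sc c _).mul ?_
  clear hg
  induction hw using Subgroup.closure_induction with
  | mem x hx =>
    obtain ⟨a, rfl⟩ := hx
    exact (hg' a).symm
  | one => rw [map_one]; exact Sgn.one _
  | mul x y _ _ ihx ihy => rw [map_mul]; exact ihx.mul ihy
  | inv x _ ih => rw [map_inv]; exact ih.inv

/-! ### the frame in the exterior square -/

/-- the six eigenvectors -/
def bv (j : F) : I6 → I6 → F :=
  Sum.elim (fun k => Pi.single (.inl k) 1 + Pi.single (.inr k) 1)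
    (fun k => j • (Pi.single (.inl k) 1 - Pi.single (.inr k) 1))

/-- the signs of the eigenvectors -/
def chi : Fin 4 → I6 → Bool :=
  ![Sum.elim ![false, true, true] ![false, true, true], Sum.elim ![true, false, true] ![true, false, true],
    Sum.elim ![false, true, true] ![true, true, false], Sum.elim ![true, true, false] ![true, false, true]]

/-- the value of a sign -/
def sgnv (b : Bool) : F := if b then -1 else 1

theorem chi_inj : ∀ s t : I6, (∀ a, chi a s = chi a t) → s = t := by decide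

theorem sgnv_inj (h2 : (2 : F) ≠ 0) {b b' : Bool} (h : (sgnv b : F) = sgnv b') : b = b' := by
  cases b <;> cases b' <;> simp [sgnv] at h ⊢
  · exact h2 (by linear_combination h)
  · exact h2 (by linear_combination -h)

/-- the eigenvectors before scaling -/
def bz : I6 → I6 → ℤ :=
  Sum.elim (fun k => Pi.single (.inl k) 1 + Pi.single (.inr k) 1)
    (fun k => Pi.single (.inl k) 1 - Pi.single (.inr k) 1)

theorem bz_eigen : ∀ a s, Klein.comp2 (gZ a) *ᵥ bz s = (if chi a s then (-1 : ℤ) else 1) • bz s := by decide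

theorem bv_eigen (j : F) (a : Fin 4) (s : I6) :
    Klein.comp2 (gMat a : M4) *ᵥ bv j s = (sgnv (chi a s) : F) • bv j s := by
  have e := congrArg (fun v : I6 → ℤ => ⇑(Int.castRingHom F) ∘ v) (bz_eigen a s)
  have e' : Klein.comp2 (gMat a : M4) *ᵥ (⇑(Int.castRingHom F) ∘ bz s) =
      (sgnv (chi a s) : F) • (⇑(Int.castRingHom F) ∘ bz s) := by
    rw [gMat, ← Klein.comp2_map]
    funext t
    have e1 := congrFun e t
    simp only [Function.comp_apply, RingHom.map_mulVec] at e1
    rw [e1]
    cases chi a s <;> simp [sgnv]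
  have hb : bv j s = (Sum.elim (fun _ => (1 : F)) (fun _ => j) s) • (⇑(Int.castRingHom F) ∘ bz s) := by
    rcases s with k | k <;> funext t <;> rcases t with t | t <;> fin_cases k <;> fin_cases t <;> simp [bv, bz]
  rw [hb, Matrix.mulVec_smul, e', smul_comm]

theorem polar_bv {j : F} (hj : j * j = -1) (s t : I6) :
    polar (Quad.plusQ F 3) (bv j s) (bv j t) = if s = t then 2 else 0 := by
  rw [Quad.polar_plusQ]
  rcases s with k | k <;> rcases t with l | l <;> fin_cases k <;> fin_cases l <;>
    simp [bv, Fin.sum_univ_three] <;>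
      first | linear_combination -2 * hj | linear_combination 2 * hj | linear_combination (0 : F) * hj

theorem plusQ_bv {j : F} (hj : j * j = -1) (s : I6) : Quad.plusQ F 3 (bv j s) = 1 := by
  rw [Quad.plusQ_apply]
  rcases s with k | k <;> fin_cases k <;> simp [bv, Fin.sum_univ_three] <;> linear_combination -hj

theorem eq_zero_of_perp (h2 : (2 : F) ≠ 0) {j : F} (hj : j * j = -1) {x : I6 → F}
    (h : ∀ s, polar (Quad.plusQ F 3) x (bv j s) = 0) : x = 0 := by
  have hj0 : j ≠ 0 := fun e => by simp [e] at hj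
  have key : ∀ k : Fin 3, x (.inl k) + x (.inr k) = 0 ∧ x (.inr k) - x (.inl k) = 0 := fun k => by
    have e1 := h (.inl k)
    have e2 := h (.inr k)
    rw [Quad.polar_plusQ] at e1 e2
    fin_cases k <;> simp [bv, Fin.sum_univ_three] at e1 e2 ⊢ <;>
      exact ⟨by linear_combination e1, mul_left_cancel₀ hj0 (by linear_combination e2)⟩
  funext s
  rcases s with k | k <;> refine mul_left_cancel₀ h2 ?_ <;> simp only [Pi.zero_apply, mul_zero]
  · linear_combination (key k).1 - (key k).2
  · linear_combination (key k).1 + (key k).2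

end Cfsg.Agent.ClassicalMax.SympType.Four
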