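import Cfsg.Agent.ClassicalMax.SympType.Step

/-!
The determinant of a lift, and a group over the scalars whose elements are normalised by enough lifts is normal.
-/

set_option autoImplicit false
set_option linter.unusedSectionVars false

namespace Cfsg.Agent.ClassicalMax.SympType

open Matrix

variable {ι : Type*} [Fintype ι] [DecidableEq ι] {E : Type*} [Field E]

local notation "G" => GL ι E
local notation "M" => Matrix ι ι E

theorem det_one_add_idem {e : M} (he : e * e = e) (c : E) :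
    (1 + c • e).det = (1 + c) ^ e.rank := by
  obtain ⟨f, hf⟩ : ∃ f, f = Matrix.toLin' e := ⟨_, rfl⟩
  have hproj : LinearMap.IsProj (LinearMap.range f) f :=
    LinearMap.IsIdempotentElem.isProj_range f (by
      show f * f = f
      rw [hf, Module.End.mul_eq_comp, ← Matrix.toLin'_mul, he])
  obtain ⟨Φ, hΦ⟩ : ∃ Φ, Φ = (LinearMap.range f).prodEquivOfIsCompl (LinearMap.ker f) hproj.isCompl := ⟨_, rfl⟩
  have hf' : f = Φ.conj (LinearMap.prodMap LinearMap.id 0) := by rw [hΦ]; exact hproj.eq_conj_prodMap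
  have e1 : Matrix.toLin' (1 + c • e) = Φ.conj (LinearMap.prodMap ((1 + c) • LinearMap.id) LinearMap.id) := by
    rw [map_add, map_smul, Matrix.toLin'_one, ← hf]
    conv_lhs => rw [hf']
    have : (LinearMap.prodMap ((1 + c) • LinearMap.id) LinearMap.id :
        LinearMap.range f × LinearMap.ker f →ₗ[E] LinearMap.range f × LinearMap.ker f) =
        LinearMap.id + c • LinearMap.prodMap LinearMap.id 0 := by
      refine LinearMap.ext fun x => Prod.ext ?_ ?_ <;> simp [add_smul]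
    rw [this, map_add, map_smul, LinearEquiv.conj_id]
  rw [← LinearMap.det_toLin', e1, LinearEquiv.conj_apply, LinearMap.comp_assoc, LinearMap.det_conj,
    LinearMap.det_prodMap, LinearMap.det_smul, LinearMap.det_id, mul_one, LinearMap.det_id, mul_one,
    Matrix.rank, hf]
  rfl

/-- The determinant of a lift. -/
theorem det_lift [Finite E] {R : Subgroup G} (hR : PS R) {a : G} (ha : a ∈ R) (ha2 : a * a = -1)
    (hns : pr a ≠ 1) : ∃ d : ℕ, 2 * d = Fintype.card ι ∧ (1 + (a : M)).det = 2 ^ d := by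
  obtain ⟨y, -, hay⟩ := hR.exists_anti ha hns
  obtain ⟨j, hj⟩ := hR.fourth
  have h2 := hR.two
  have hj0 : j ≠ 0 := fun e => by simp [e] at hj
  obtain ⟨e, he'⟩ : ∃ e : M, e = (2 : E)⁻¹ • (1 - j • (a : M)) := ⟨_, rfl⟩
  have haa : (a : M) * (a : M) = -1 := by rw [← Units.val_mul, ha2, Units.val_neg, Units.val_one]
  have he : e * e = e := by
    rw [he', smul_mul_smul_comm, sub_mul, one_mul, mul_sub, mul_one, smul_mul_smul_comm, haa, hj, smul_neg,
      neg_one_smul, neg_neg, show (1 : M) - j • (a : M) - (j • (a : M) - 1) = (2 : E) • (1 - j • (a : M)) by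
        rw [two_smul]; abel, smul_smul]
    congr 1
    field_simp
  -- the complementary idempotent is conjugate
  have hcompl : (y : M) * e * ((y⁻¹ : G) : M) = 1 - e := by
    have e1 : (y : M) * (a : M) * ((y⁻¹ : G) : M) = -(a : M) := by
      rw [← Units.val_mul, ← Units.val_mul, show y * a = -(a * y) by rw [hay, neg_neg], neg_mul, mul_inv_cancel_right,
        Units.val_neg]
    rw [he', Matrix.mul_smul, Matrix.smul_mul, mul_sub, sub_mul, mul_one, Matrix.mul_smul, Matrix.smul_mul, e1,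
      ← Units.val_mul, mul_inv_cancel, Units.val_one, smul_neg, sub_neg_eq_add]
    ext u v
    simp only [Matrix.smul_apply, Matrix.sub_apply, Matrix.add_apply, smul_eq_mul]
    field_simp
    ring
  have hu : ∀ g : G, IsUnit (g : M).det := fun g => (Matrix.isUnit_iff_isUnit_det _).1 g.isUnit
  have hrank : (1 - e).rank = e.rank := by
    rw [← hcompl, Matrix.rank_mul_eq_left_of_isUnit_det _ _ (hu _),
      Matrix.rank_mul_eq_right_of_isUnit_det _ _ (hu _)]
  have hsum : e.rank + (1 - e).rank = Fintype.card ι := by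
    obtain ⟨f, hf⟩ : ∃ f, f = Matrix.toLin' e := ⟨_, rfl⟩
    have hid : IsIdempotentElem f := by
      show f * f = f
      rw [hf, Module.End.mul_eq_comp, ← Matrix.toLin'_mul, he]
    have h1 := f.finrank_range_add_finrank_ker
    rw [LinearMap.IsIdempotentElem.ker_eq_range_one_sub hid, Module.finrank_pi] at h1
    rw [← h1, Matrix.rank, Matrix.rank, hf]
    rw [show (1 - e).mulVecLin = 1 - Matrix.toLin' e from
      LinearMap.ext fun v => by simp [Matrix.sub_mulVec]]
    rfl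
  refine ⟨e.rank, by rw [two_mul]; omega, ?_⟩
  have hd0 : (1 : E) - j ≠ 0 := fun e0 => h2 (by
    rw [show j = 1 by linear_combination -e0] at hj; linear_combination hj)
  have hT : (1 + (a : M)) = (1 - j) • (1 + ((1 + j) / (1 - j) - 1) • e) := by
    rw [smul_add, smul_smul, show (1 - j) * ((1 + j) / (1 - j) - 1) = 2 * j by field_simp; ring, he', smul_smul,
      show (2 * j) * (2 : E)⁻¹ = j by field_simp, smul_sub, smul_smul, hj, sub_smul, one_smul, neg_one_smul]
    abel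
  rw [hT, Matrix.det_smul, det_one_add_idem he, add_sub_cancel, show Fintype.card ι = 2 * e.rank by omega, pow_mul,
    ← mul_pow]
  congr 1
  field_simp
  linear_combination -hj

/-- The product of two lifts, scaled to determinant one. -/
theorem det_lift_mul [Finite E] {R : Subgroup G} (hR : PS R) {a b : G} (ha : a ∈ R) (hb : b ∈ R) (ha2 : a * a = -1)
    (hb2 : b * b = -1) (hna : pr a ≠ 1) (hnb : pr b ≠ 1) :
    ((2 : E)⁻¹ • ((1 + (a : M)) * (1 + (b : M)))).det = 1 := by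
  obtain ⟨d, hd, e1⟩ := det_lift hR ha ha2 hna
  obtain ⟨d', hd', e2⟩ := det_lift hR hb hb2 hnb
  rw [Matrix.det_smul, Matrix.det_mul, e1, e2, ← pow_add, show d + d' = Fintype.card ι by omega, ← mul_pow,
    inv_mul_cancel₀ hR.two, one_pow]

/-- The products of two lifts, up to a scalar. -/
def Lifts₂ (R N : Subgroup G) : Prop :=
  ∀ a ∈ R, ∀ b ∈ R, a * a = -1 → b * b = -1 → pr a ≠ 1 → pr b ≠ 1 → ∀ T U : G, (T : M) = 1 + (a : M) →
    (U : M) = 1 + (b : M) → ∃ c : Eˣ, sc c * (T * U) ∈ N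

/-- An overgroup with a normal subgroup normalising `R` and containing the lifts normalises `R`. -/
theorem normal_of_normal [Finite E] {R N K : Subgroup G} (h : PS R) (hN : ∀ n ∈ N, ∀ r ∈ R, n * r * n⁻¹ ∈ R)
    (hKN : ∀ k ∈ K, ∀ n ∈ N, k * n * k⁻¹ ∈ N) (hRN : ∀ r ∈ R, ∃ c : Eˣ, ∃ n ∈ N, r = sc c * n)
    (hl : Lifts₂ R N) : ∀ g ∈ K, ∀ r ∈ R, g * r * g⁻¹ ∈ R := by
  classical
  haveI := h.nonempty
  intro g hg r₀ hr₀
  obtain ⟨R', hR'⟩ : ∃ R', R' = R.map (MulAut.conj g).toMonoidHom := ⟨_, rfl⟩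
  have hmem : ∀ {x : G}, x ∈ R' ↔ g⁻¹ * x * g ∈ R := fun {x} => by
    rw [hR', Subgroup.mem_map]
    constructor
    · rintro ⟨y, hy, rfl⟩
      simpa [mul_assoc] using hy
    · intro hx
      exact ⟨_, hx, by simp [mul_assoc]⟩
  have hscal : ∀ c : Eˣ, sc c ∈ R' := fun c => hmem.2 (by
    rw [← sc_comm, mul_assoc, inv_mul_cancel, mul_one]; exact h.scal c)
  have hnorm : ∀ n ∈ N, ∀ x ∈ R', n * x * n⁻¹ ∈ R' := fun n hn x hx => hmem.2 (by
    have hn' : g⁻¹ * n * g ∈ N := by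
      have := hKN g⁻¹ (inv_mem hg) n hn
      rwa [inv_inv] at this
    have := hN _ hn' _ (hmem.1 hx)
    rwa [show g⁻¹ * (n * x * n⁻¹) * g = g⁻¹ * n * g * (g⁻¹ * x * g) * (g⁻¹ * n * g)⁻¹ by group])
  have hscn : ∀ (c : Eˣ) (n x : G), sc c * n * x * (sc c * n)⁻¹ = n * x * n⁻¹ := fun c n x => by
    calc sc c * n * x * (sc c * n)⁻¹ = sc c * (n * x * n⁻¹) * (sc c)⁻¹ := by group
      _ = _ := sc_conj _ _
  have hRR' : ∀ r ∈ R, ∀ x ∈ R', r * x * r⁻¹ ∈ R' := fun r hr x hx => by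
    obtain ⟨c, n, hn, rfl⟩ := hRN r hr
    rw [hscn]; exact hnorm n hn x hx
  have hR'R : ∀ x ∈ R', ∀ r ∈ R, x * r * x⁻¹ ∈ R := fun x hx r hr => by
    obtain ⟨c, n, hn, e⟩ := hRN _ (hmem.1 hx)
    have ex : x = sc c * (g * n * g⁻¹) := by
      calc x = g * (g⁻¹ * x * g) * g⁻¹ := by group
        _ = sc c * (g * n * g⁻¹) := by rw [e, ← mul_assoc, ← mul_assoc, ← sc_comm, mul_assoc (sc c) g n, mul_assoc]
    rw [ex, hscn]; exact hN _ (hKN g hg n hn) r hr
  have hx₀ : g * r₀ * g⁻¹ ∈ R' := hmem.2 (by simpa [mul_assoc] using hr₀)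
  obtain ⟨x, hx⟩ : ∃ x, x = g * r₀ * g⁻¹ := ⟨_, rfl⟩
  rw [← hx] at hx₀ ⊢
  refine h.mem_of_signs fun r hr => ?_
  by_contra hcon
  rw [not_or] at hcon
  obtain ⟨δ, hδ⟩ : ∃ δ, δ = x * r * x⁻¹ * r⁻¹ := ⟨_, rfl⟩
  have hδR : δ ∈ R := hδ ▸ mul_mem (hR'R x hx₀ r hr) (inv_mem hr)
  have hδR' : δ ∈ R' := by
    rw [hδ, show x * r * x⁻¹ * r⁻¹ = x * (r * x⁻¹ * r⁻¹) by group]
    exact mul_mem hx₀ (hRR' r hr _ (inv_mem hx₀))
  have hδ1 : pr δ ≠ 1 := fun e1 => by
    obtain ⟨c, hc⟩ := pr_eq_one_iff.1 e1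
    have e2 : x * r * x⁻¹ = sc c * r := by rw [← hc, hδ, inv_mul_cancel_right]
    obtain ⟨d, hd⟩ := pr_eq_one_iff.1 (h.pr_sq hr)
    have e3 : sc c * r * (sc c * r) = r * r := by
      rw [← e2, show x * r * x⁻¹ * (x * r * x⁻¹) = x * (r * r) * x⁻¹ by group, hd, ← sc_comm, mul_inv_cancel_right]
    rw [mul_assoc, ← mul_assoc r, ← sc_comm, mul_assoc (sc c) r r, ← mul_assoc, sc_mul] at e3
    rcases sc_sq_one (mul_eq_right.1 e3) with rfl | rfl
    · exact hcon.1 (by
        rw [sc_one, one_mul] at e2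
        exact mul_inv_eq_iff_eq_mul.1 e2 |>.trans rfl)
    · exact hcon.2 (by
        rw [sc_neg_one, neg_one_mul] at e2
        rw [mul_inv_eq_iff_eq_mul.1 e2, neg_mul])
  obtain ⟨cd, d0, hd0, hdd, hd2⟩ := h.scaled hδR
  have hd0' : d0 ∈ R' := by
    have := mul_mem (hscal cd⁻¹) hδR'
    rwa [hdd, ← mul_assoc, sc_mul, inv_mul_cancel, sc_one, one_mul] at this
  have hd01 : pr d0 ≠ 1 := fun e1 => hδ1 (by rw [hdd, map_mul, pr_sc, e1, one_mul])
  -- everything anticommuting with the common element is common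
  have anti : ∀ a ∈ R, a * d0 = -(d0 * a) → a ∈ R' := by
    intro a ha had
    obtain ⟨ca, a0, ha0, haa, ha2⟩ := h.scaled ha
    have had0 : a0 * d0 = -(d0 * a0) := by
      rw [haa, mul_assoc, ← mul_assoc d0, ← sc_comm, mul_assoc (sc ca) d0, ← mul_neg] at had
      exact mul_left_cancel had
    obtain ⟨T, hT⟩ := h.exists_unit ha2
    obtain ⟨U, hU⟩ := h.exists_unit hd2
    obtain ⟨c, hc⟩ := hl a0 ha0 d0 hd0 ha2 hd2 (h.pr_anti_ne_one had0) hd01 T U hT hU
    have h1 := hnorm _ hc d0 hd0'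
    rw [hscn, show T * U * d0 * (T * U)⁻¹ = T * (U * d0 * U⁻¹) * T⁻¹ by group,
      (h.lift_conj hd0 hd0 hd2 hU).1 rfl, (h.lift_conj hd0 ha0 ha2 hT).2 had0] at h1
    have h2 := mul_mem h1 (inv_mem hd0')
    rw [mul_inv_cancel_right] at h2
    rw [haa]
    exact mul_mem (hscal ca) h2
  have hle : ∀ b ∈ R, b ∈ R' := by
    intro b hb
    rcases h.comm b hb d0 hd0 with e1 | e1
    · obtain ⟨a, ha, hda⟩ := h.exists_anti hd0 hd01
      have ha' : a * d0 = -(d0 * a) := by rw [hda, neg_neg]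
      have h1 : a * b ∈ R' := anti _ (mul_mem ha hb) (by
        rw [mul_assoc, e1, ← mul_assoc, ha', neg_mul, mul_assoc])
      have := mul_mem (inv_mem (anti a ha ha')) h1
      rwa [inv_mul_cancel_left] at this
    · exact anti b hb e1
  rcases h.comm _ (hmem.1 hx₀) _ (hmem.1 (hle r hr)) with e1 | e1
  · refine hcon.1 ?_
    have := congrArg (fun z => g * z * g⁻¹) e1
    simpa [mul_assoc] using this
  · refine hcon.2 ?_
    have := congrArg (fun z => g * z * g⁻¹) e1
    simp only [mul_neg, neg_mul] at this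
    simpa [mul_assoc] using this

end Cfsg.Agent.ClassicalMax.SympType
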