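import Mathlib
import Cfsg.Agent.ClassicalMax.SympType.Core

/-!
Two-groups of symplectic type with all scalars adjoined: classes modulo scalars and their commutation signs.
-/

set_option autoImplicit false
set_option linter.unusedSectionVars false

namespace Cfsg.Agent.ClassicalMax.SympType

open Matrix

variable {ι : Type*} [Fintype ι] [DecidableEq ι] {E : Type*} [Field E]

/-- A scalar. -/
def sc (c : Eˣ) : GL ι E := Units.map (Matrix.scalar ι).toMonoidHom c

theorem sc_val (c : Eˣ) : ((sc c : GL ι E) : Matrix ι ι E) = (c : E) • 1 := by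
  show Matrix.scalar ι (c : E) = _
  rw [Matrix.scalar_apply, Matrix.smul_one_eq_diagonal]

theorem sc_comm (c : Eˣ) (g : GL ι E) : sc c * g = g * sc c := Units.ext (by
  simp [sc_val])

theorem sc_mul (c d : Eˣ) : (sc c : GL ι E) * sc d = sc (c * d) := by
  simp [sc, map_mul]

theorem sc_one : (sc 1 : GL ι E) = 1 := by simp [sc]

theorem sc_neg_one : (sc (-1) : GL ι E) = -1 := Units.ext (by simp [sc_val])

theorem neg_eq_sc (g : GL ι E) : -g = sc (-1) * g := by rw [sc_neg_one, neg_one_mul]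

theorem sc_mul_left (c : Eˣ) (x y : GL ι E) : sc c * x * y = sc c * (x * y) := mul_assoc _ _ _

theorem sc_mem_center (c : Eˣ) : (sc c : GL ι E) ∈ Subgroup.center (GL ι E) :=
  Subgroup.mem_center_iff.2 fun g => (sc_comm c g).symm

theorem exists_sc_of_center {z : GL ι E} (hz : z ∈ Subgroup.center (GL ι E)) : ∃ c : Eˣ, sc c = z := by
  rw [Matrix.GeneralLinearGroup.center_eq_range_scalar] at hz
  obtain ⟨c, rfl⟩ := hz
  exact ⟨c, Units.ext (by rw [sc_val, Matrix.GeneralLinearGroup.coe_scalar, Matrix.smul_one_eq_diagonal]; rfl)⟩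

theorem exists_sc_of_smul [Nonempty ι] {g : GL ι E} {c : E} (h : (g : Matrix ι ι E) = c • 1) : ∃ d : Eˣ, g = sc d := by
  have hc : c ≠ 0 := by
    rintro rfl
    rw [zero_smul] at h
    exact g.ne_zero h
  exact ⟨Units.mk0 c hc, Units.ext (by rw [h, sc_val]; rfl)⟩

variable (ι E) in
/-- The projective group. -/
abbrev PG : Type _ := GL ι E ⧸ Subgroup.center (GL ι E)

/-- The projection. -/
abbrev pr : GL ι E →* PG ι E := QuotientGroup.mk' _

theorem pr_eq_iff {x y : GL ι E} : pr x = pr y ↔ ∃ c : Eˣ, y = sc c * x := by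
  rw [QuotientGroup.mk'_eq_mk']
  constructor
  · rintro ⟨z, hz, rfl⟩
    obtain ⟨c, rfl⟩ := exists_sc_of_center hz
    exact ⟨c, (sc_comm c x).symm⟩
  · rintro ⟨c, rfl⟩
    exact ⟨sc c, sc_mem_center c, (sc_comm c x).symm⟩

theorem pr_sc (c : Eˣ) : pr (sc c : GL ι E) = 1 := (QuotientGroup.eq_one_iff _).2 (sc_mem_center c)

theorem pr_eq_one_iff {x : GL ι E} : pr x = 1 ↔ ∃ c : Eˣ, x = sc c := by
  rw [← map_one (pr (ι := ι) (E := E)), eq_comm, pr_eq_iff]
  simp

theorem pr_neg (x : GL ι E) : pr (-x) = pr x := by rw [neg_eq_sc, map_mul, pr_sc, one_mul]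

/-- A two-group of symplectic type with the scalars adjoined. -/
structure PS (R : Subgroup (GL ι E)) : Prop where
  two : (2 : E) ≠ 0
  dim : (Fintype.card ι : E) ≠ 0
  fourth : ∃ j : E, j * j = -1
  scal : ∀ c : Eˣ, sc c ∈ R
  comm : ∀ x ∈ R, ∀ y ∈ R, x * y = y * x ∨ x * y = -(y * x)
  irr : ∀ M : Matrix ι ι E, (∀ x ∈ R, M * (x : Matrix ι ι E) = x * M) → ∃ c : E, M = c • 1
  root : ∀ x ∈ R, ∃ c : Eˣ, ∃ y ∈ R, x = sc c * y ∧ y * y = 1

namespace PS

variable {R : Subgroup (GL ι E)} (h : PS R)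
include h

theorem nonempty : Nonempty ι := by
  by_contra hn
  rw [not_nonempty_iff] at hn
  exact h.dim (by simp)

theorem neg_one : (-1 : GL ι E) ∈ R := sc_neg_one (ι := ι) (E := E) ▸ h.scal (-1)

theorem neg_mem {x : GL ι E} (hx : x ∈ R) : -x ∈ R := by
  rw [← neg_one_mul]; exact mul_mem h.neg_one hx

theorem mem_of_pr {x y : GL ι E} (hx : x ∈ R) (e : pr x = pr y) : y ∈ R := by
  obtain ⟨c, rfl⟩ := pr_eq_iff.1 e
  exact mul_mem (h.scal c) hx

theorem pr_mem_iff {x : GL ι E} : pr x ∈ R.map pr ↔ x ∈ R :=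
  ⟨fun ⟨_, hy, e⟩ => h.mem_of_pr hy e, fun hx => ⟨x, hx, rfl⟩⟩

theorem ne_neg (x : GL ι E) : x ≠ -x := fun e => by
  haveI := h.nonempty
  have e1 : (2 : E) • (x : Matrix ι ι E) = 0 := by
    rw [two_smul]
    nth_rw 2 [e]
    rw [Units.val_neg, add_neg_cancel]
  exact x.ne_zero (by simpa [h.two] using e1) |> fun f => f

theorem not_comm_of_anti {x y : GL ι E} (e : x * y = -(y * x)) : x * y ≠ y * x := fun e' =>
  h.ne_neg (y * x) (e'.symm.trans e)

theorem pr_sq {x : GL ι E} (hx : x ∈ R) : pr (x * x) = 1 := by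
  obtain ⟨c, y, -, rfl, hyy⟩ := h.root x hx
  rw [map_mul, map_mul, pr_sc, one_mul, ← map_mul, hyy, map_one]

theorem map_sq {a : PG ι E} (ha : a ∈ R.map pr) : a * a = 1 := by
  obtain ⟨x, hx, rfl⟩ := ha
  rw [← map_mul, h.pr_sq hx]

theorem map_comm {a b : PG ι E} (ha : a ∈ R.map pr) (hb : b ∈ R.map pr) : a * b = b * a := by
  have hi : ∀ c ∈ R.map (pr (ι := ι) (E := E)), c⁻¹ = c := fun c hc => inv_eq_of_mul_eq_one_right (h.map_sq hc)
  rw [← hi _ (mul_mem ha hb), _root_.mul_inv_rev, hi a ha, hi b hb]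

end PS

open Classical in
/-- The commutation sign. -/
noncomputable def sg (x y : GL ι E) : ℤ := if x * y = y * x then 1 else -1

theorem sg_sc (c d : Eˣ) (x y : GL ι E) : sg (sc c * x) (sc d * y) = sg x y := by
  have e1 : sc c * x * (sc d * y) = sc (c * d) * (x * y) := by
    rw [mul_assoc, ← mul_assoc x, ← sc_comm, mul_assoc (sc d), ← mul_assoc, sc_mul]
  have e2 : sc d * y * (sc c * x) = sc (c * d) * (y * x) := by
    rw [mul_assoc, ← mul_assoc y, ← sc_comm, mul_assoc (sc c), ← mul_assoc, sc_mul, mul_comm d c]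
  by_cases hh : x * y = y * x <;> simp [sg, e1, e2, hh]

theorem sg_comm (x y : GL ι E) : sg x y = sg y x := by
  by_cases hh : x * y = y * x
  · simp [sg, hh]
  · simp [sg, hh, Ne.symm hh]

theorem sg_self (x : GL ι E) : sg x x = 1 := by simp [sg]

theorem sg_eq_one_iff {x y : GL ι E} : sg x y = 1 ↔ x * y = y * x := by
  unfold sg; split_ifs with hh <;> simp [hh]

theorem sg_ne_iff {x y : GL ι E} : sg x y = -1 ↔ x * y ≠ y * x := by
  unfold sg; split_ifs with hh <;> simp [hh]

/-- The pairing of classes. -/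
noncomputable def pw (a b : PG ι E) : ℤ := sg (Quotient.out a) (Quotient.out b)

theorem pw_pr (x y : GL ι E) : pw (pr x) (pr y) = sg x y := by
  obtain ⟨c, hc⟩ := pr_eq_iff.1 (show pr x = pr (Quotient.out (pr x)) from (QuotientGroup.out_eq' (pr x)).symm)
  obtain ⟨d, hd⟩ := pr_eq_iff.1 (show pr y = pr (Quotient.out (pr y)) from (QuotientGroup.out_eq' (pr y)).symm)
  rw [pw, hc, hd, sg_sc]

namespace PS

variable {R : Subgroup (GL ι E)} (h : PS R)
include h

theorem sg_mul {x x' y : GL ι E} (hx : x ∈ R) (hx' : x' ∈ R) (hy : y ∈ R) :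
    sg (x * x') y = sg x y * sg x' y := by
  rcases h.comm x hx y hy with e | e <;> rcases h.comm x' hx' y hy with e' | e'
  · have : x * x' * y = y * (x * x') := by rw [mul_assoc, e', ← mul_assoc, e, mul_assoc]
    simp [sg_eq_one_iff.2 e, sg_eq_one_iff.2 e', sg_eq_one_iff.2 this]
  · have : x * x' * y = -(y * (x * x')) := by rw [mul_assoc, e', mul_neg, ← mul_assoc, e, mul_assoc]
    simp [sg_eq_one_iff.2 e, sg_ne_iff.2 (h.not_comm_of_anti e'), sg_ne_iff.2 (h.not_comm_of_anti this)]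
  · have : x * x' * y = -(y * (x * x')) := by rw [mul_assoc, e', ← mul_assoc, e, neg_mul, mul_assoc]
    simp [sg_ne_iff.2 (h.not_comm_of_anti e), sg_eq_one_iff.2 e', sg_ne_iff.2 (h.not_comm_of_anti this)]
  · have : x * x' * y = y * (x * x') := by rw [mul_assoc, e', mul_neg, ← mul_assoc, e, neg_mul, neg_neg, mul_assoc]
    simp [sg_ne_iff.2 (h.not_comm_of_anti e), sg_ne_iff.2 (h.not_comm_of_anti e'), sg_eq_one_iff.2 this]

theorem pw_mul {a a' b : PG ι E} (ha : a ∈ R.map pr) (ha' : a' ∈ R.map pr) (hb : b ∈ R.map pr) :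
    pw (a * a') b = pw a b * pw a' b := by
  obtain ⟨x, hx, rfl⟩ := ha
  obtain ⟨x', hx', rfl⟩ := ha'
  obtain ⟨y, hy, rfl⟩ := hb
  rw [← map_mul, pw_pr, pw_pr, pw_pr, h.sg_mul hx hx' hy]

end PS

theorem pw_comm (a b : PG ι E) : pw a b = pw b a := sg_comm _ _

theorem pw_sign (a b : PG ι E) : pw a b = 1 ∨ pw a b = -1 := by unfold pw sg; split_ifs <;> simp

/-- A non-trivial sign character sums to zero. -/
theorem sum_sign {G : Type*} [Group G] [Fintype G] (f : G → ℤ) (hf : ∀ a b, f (a * b) = f a * f b) {a₀ : G}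
    (ha₀ : f a₀ = -1) : ∑ a, f a = 0 := by
  have e : ∑ a, f a = ∑ a, f (a₀ * a) := (Fintype.sum_equiv (Equiv.mulLeft a₀) _ _ fun a => rfl).symm
  simp only [hf, ha₀, neg_one_mul, Finset.sum_neg_distrib] at e
  omega

namespace PS

variable [Finite E] {R : Subgroup (GL ι E)} (h : PS R)
include h

theorem exists_anti {x : GL ι E} (hx : x ∈ R) (hns : pr x ≠ 1) : ∃ y ∈ R, x * y = -(y * x) := by
  by_contra hc
  push Not at hc
  obtain ⟨c, hc'⟩ := h.irr (x : Matrix ι ι E) fun y hy => by
    rcases h.comm x hx y hy with e | e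
    · exact congrArg Units.val e
    · exact absurd e (hc y hy)
  haveI := h.nonempty
  exact hns (pr_eq_one_iff.2 (exists_sc_of_smul hc'))

/-- An element acting on the group by signs belongs to it. -/
theorem mem_of_signs {g : GL ι E} (hg : ∀ x ∈ R, g * x = x * g ∨ g * x = -(x * g)) : g ∈ R := by
  classical
  haveI := h.nonempty
  haveI : Fintype (R.map (pr (ι := ι) (E := E))) := Fintype.ofFinite _
  let χ : R.map (pr (ι := ι) (E := E)) → ℤ := fun a => pw (pr g) a.1
  have hχ : ∀ a b, χ (a * b) = χ a * χ b := by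
    intro a b
    obtain ⟨_, x, hx, rfl⟩ := a
    obtain ⟨_, y, hy, rfl⟩ := b
    show pw (pr g) (pr x * pr y) = pw (pr g) (pr x) * pw (pr g) (pr y)
    rw [← map_mul, pw_pr, pw_pr, pw_pr]
    have na : ∀ {u v : GL ι E}, u * v = -(v * u) → u * v ≠ v * u := fun e => h.not_comm_of_anti e
    rcases hg x hx with e | e <;> rcases hg y hy with e' | e'
    · have : g * (x * y) = x * y * g := by rw [← mul_assoc, e, mul_assoc, e', mul_assoc]
      simp [sg_eq_one_iff.2 e, sg_eq_one_iff.2 e', sg_eq_one_iff.2 this]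
    · have : g * (x * y) = -(x * y * g) := by rw [← mul_assoc, e, mul_assoc, e', mul_neg, mul_assoc]
      simp [sg_eq_one_iff.2 e, sg_ne_iff.2 (na e'), sg_ne_iff.2 (na this)]
    · have : g * (x * y) = -(x * y * g) := by rw [← mul_assoc, e, neg_mul, mul_assoc, e', mul_assoc]
      simp [sg_ne_iff.2 (na e), sg_eq_one_iff.2 e', sg_ne_iff.2 (na this)]
    · have : g * (x * y) = x * y * g := by rw [← mul_assoc, e, neg_mul, mul_assoc, e', mul_neg, neg_neg, mul_assoc]
      simp [sg_ne_iff.2 (na e), sg_ne_iff.2 (na e'), sg_eq_one_iff.2 this]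
  -- some twist of the character is trivial
  obtain ⟨s, hs⟩ : ∃ s : R.map (pr (ι := ι) (E := E)), ∀ a, χ a * pw s.1 a.1 = 1 := by
    by_contra hc
    push Not at hc
    have hz : ∀ s : R.map (pr (ι := ι) (E := E)), ∑ a, χ a * pw s.1 a.1 = 0 := fun s => by
      obtain ⟨a₀, ha₀⟩ := hc s
      refine sum_sign _ (fun a b => ?_) (a₀ := a₀) ?_
      · rw [hχ, pw_comm s.1, pw_comm s.1 a.1, pw_comm s.1 b.1, Subgroup.coe_mul, h.pw_mul a.2 b.2 s.2]; ring
      · rcases pw_sign (pr g) a₀.1 with e | e <;> rcases pw_sign s.1 a₀.1 with e' | e' <;>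
          simp only [χ, e, e'] at ha₀ ⊢ <;> omega
    have h1 : ∑ a, ∑ s : R.map (pr (ι := ι) (E := E)), χ a * pw s.1 a.1 = 0 := by
      rw [Finset.sum_comm]; exact Finset.sum_eq_zero fun s _ => hz s
    rw [Finset.sum_eq_single 1 (fun a _ ha => ?_) (by simp)] at h1
    · have e0 : χ 1 = 1 := by
        show pw (pr g) (1 : PG ι E) = 1
        rw [← map_one (pr (ι := ι) (E := E)), pw_pr]; simp [sg]
      have e1 : ∀ s : R.map (pr (ι := ι) (E := E)), pw s.1 (1 : PG ι E) = 1 := fun s => by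
        obtain ⟨_, x, -, rfl⟩ := s
        rw [← map_one (pr (ι := ι) (E := E)), pw_pr]; simp [sg]
      simp [e0, e1] at h1
    · obtain ⟨_, x, hx, rfl⟩ := a
      obtain ⟨y, hy, hxy⟩ := h.exists_anti hx fun e => ha (Subtype.ext e)
      rw [← Finset.mul_sum, sum_sign (fun s : R.map (pr (ι := ι) (E := E)) => pw s.1 (pr x))
        (fun a b => h.pw_mul a.2 b.2 ⟨x, hx, rfl⟩) (a₀ := ⟨pr y, y, hy, rfl⟩)
        (by rw [pw_pr, sg_comm, sg_ne_iff]; exact h.not_comm_of_anti hxy), mul_zero]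
  obtain ⟨_, y, hy, rfl⟩ := s
  obtain ⟨c, hc⟩ := h.irr ((g * y : GL ι E) : Matrix ι ι E) fun x hx => congrArg Units.val (show g * y * x = x * (g * y) by
    have := hs ⟨pr x, x, hx, rfl⟩
    simp only [χ, pw_pr] at this
    rcases hg x hx with e | e <;> rcases h.comm y hy x hx with e' | e'
    · rw [mul_assoc, e', ← mul_assoc, e, mul_assoc]
    · rw [sg_eq_one_iff.2 e, sg_ne_iff.2 (h.not_comm_of_anti e')] at this; norm_num at this
    · rw [sg_ne_iff.2 (h.not_comm_of_anti e), sg_eq_one_iff.2 e'] at this; norm_num at this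
    · rw [mul_assoc, e', mul_neg, ← mul_assoc, e, neg_mul, neg_neg, mul_assoc])
  obtain ⟨d, hd⟩ := exists_sc_of_smul hc
  rw [eq_mul_inv_of_mul_eq hd]
  exact mul_mem (h.scal d) (inv_mem hy)

/-- The exact count for perpendicular classes. -/
theorem card_perp [Fintype (R.map (pr (ι := ι) (E := E)))] (W : Subgroup (PG ι E)) (hW : W ≤ R.map pr) :
    Nat.card {a : R.map (pr (ι := ι) (E := E)) // ∀ w ∈ W, pw a.1 w = 1} * Nat.card W =
      Nat.card (R.map (pr (ι := ι) (E := E))) := by
  classical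
  haveI : Fintype W := Fintype.ofFinite _
  have h1 : ∀ a : R.map (pr (ι := ι) (E := E)),
      ∑ w : W, pw a.1 w.1 = if ∀ w ∈ W, pw a.1 w = 1 then (Nat.card W : ℤ) else 0 := by
    intro a
    split_ifs with hp
    · simp [hp, Nat.card_eq_fintype_card]
    · push Not at hp
      obtain ⟨w₀, hw₀, hne⟩ := hp
      refine sum_sign _ (fun u v => ?_) (a₀ := ⟨w₀, hw₀⟩) ((pw_sign _ _).resolve_left hne)
      rw [pw_comm a.1, pw_comm a.1 u.1, pw_comm a.1 v.1, Subgroup.coe_mul, h.pw_mul (hW u.2) (hW v.2) a.2]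
  have h2 : ∀ w : W, ∑ a : R.map (pr (ι := ι) (E := E)), pw a.1 w.1 =
      if w = 1 then (Nat.card (R.map (pr (ι := ι) (E := E))) : ℤ) else 0 := by
    intro w
    obtain ⟨x, hx, hxw⟩ := hW w.2
    split_ifs with hw
    · have : ∀ a : R.map (pr (ι := ι) (E := E)), pw a.1 (1 : PG ι E) = 1 := fun a => by
        obtain ⟨_, y, -, rfl⟩ := a
        rw [← map_one (pr (ι := ι) (E := E)), pw_pr]; simp [sg]
      subst hw
      rw [Nat.card_eq_fintype_card, Finset.sum_congr rfl fun a _ => (show pw a.1 ((1 : W) : PG ι E) = 1 from this a)]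
      simp
    · obtain ⟨y, hy, hxy⟩ := h.exists_anti hx fun e => hw (Subtype.ext (hxw.symm.trans e))
      refine sum_sign _ (fun u v => h.pw_mul u.2 v.2 (hW w.2)) (a₀ := ⟨pr y, y, hy, rfl⟩) ?_
      rw [← hxw, pw_pr, sg_comm, sg_ne_iff]
      exact h.not_comm_of_anti hxy
  have h3 := Finset.sum_comm (s := (Finset.univ : Finset (R.map (pr (ι := ι) (E := E)))))
    (t := (Finset.univ : Finset W)) (f := fun a w => pw a.1 w.1)
  simp only [h1, h2, Finset.sum_ite, Finset.sum_const_zero, add_zero, Finset.sum_const, nsmul_eq_mul] at h3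
  rw [Finset.filter_eq', if_pos (Finset.mem_univ _), Finset.card_singleton, Nat.cast_one, one_mul,
    ← Fintype.card_subtype, ← Nat.card_eq_fintype_card] at h3
  exact_mod_cast h3

/-- Separation of classes. -/
theorem sep {S : Set (GL ι E)} (hS : ∀ s ∈ S, s ∈ R) {b : GL ι E} (hb : b ∈ R)
    (hnb : pr b ∉ Subgroup.closure (pr '' S)) : ∃ u ∈ R, (∀ s ∈ S, u * s = s * u) ∧ u * b = -(b * u) := by
  classical
  haveI : Fintype (R.map (pr (ι := ι) (E := E))) := Fintype.ofFinite _
  set W := Subgroup.closure (pr '' S) with hWdef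
  set W' := W ⊔ Subgroup.zpowers (pr b) with hW'def
  have hW : W ≤ R.map pr := (Subgroup.closure_le _).2 (by rintro _ ⟨s, hs, rfl⟩; exact ⟨s, hS s hs, rfl⟩)
  have hW' : W' ≤ R.map pr := sup_le hW (Subgroup.zpowers_le.2 ⟨b, hb, rfl⟩)
  have hlt : Nat.card W < Nat.card W' := lt_of_not_ge fun hle =>
    hnb ((Subgroup.eq_of_le_of_card_ge (le_sup_left : W ≤ W') hle) ▸ Subgroup.mem_sup_right (Subgroup.mem_zpowers _))
  have h1 := h.card_perp W hW
  have h2 := h.card_perp W' hW'
  by_contra hc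
  push Not at hc
  have hle : Nat.card {a : R.map (pr (ι := ι) (E := E)) // ∀ w ∈ W, pw a.1 w = 1} ≤
      Nat.card {a : R.map (pr (ι := ι) (E := E)) // ∀ w ∈ W', pw a.1 w = 1} := by
    refine Nat.card_le_card_of_injective (Subtype.map id fun a ha w hw => ?_) (Subtype.map_injective _ Function.injective_id)
    obtain ⟨u, hu, hua⟩ := a.2
    have hub : pw a.1 (pr b) = 1 := by
      rw [← hua, pw_pr, sg_eq_one_iff]
      refine (h.comm u hu b hb).resolve_right (hc u hu fun s hs => ?_)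
      rw [← sg_eq_one_iff, ← pw_pr, hua]
      exact ha _ (Subgroup.subset_closure ⟨s, hs, rfl⟩)
    let C : Subgroup (PG ι E) :=
      { carrier := {w | w ∈ R.map pr ∧ pw a.1 w = 1}
        one_mem' := ⟨one_mem _, by rw [← hua, ← map_one (pr (ι := ι) (E := E)), pw_pr]; simp [sg]⟩
        mul_mem' := fun {v w} hv hw => ⟨mul_mem hv.1 hw.1, by
          rw [pw_comm, h.pw_mul hv.1 hw.1 a.2, pw_comm v, pw_comm w, hv.2, hw.2, one_mul]⟩
        inv_mem' := fun {v} hv => by
          rw [inv_eq_of_mul_eq_one_right (h.map_sq hv.1)]; exact hv }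
    exact ((sup_le (fun v hv => ⟨hW hv, ha v hv⟩) (Subgroup.zpowers_le.2 ⟨⟨b, hb, rfl⟩, hub⟩) : W' ≤ C) hw).2
  have hpos : 0 < Nat.card {a : R.map (pr (ι := ι) (E := E)) // ∀ w ∈ W', pw a.1 w = 1} := by
    rcases Nat.eq_zero_or_pos (Nat.card {a : R.map (pr (ι := ι) (E := E)) // ∀ w ∈ W', pw a.1 w = 1}) with e | e
    · rw [e, zero_mul] at h2
      exact absurd h2.symm Nat.card_pos.ne'
    · exact e
  have h3 := Nat.mul_lt_mul_of_pos_left hlt hpos
  have h4 := Nat.mul_le_mul_right (Nat.card W) hle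
  omega

/-- Adjoining a class. -/
theorem mem_closure_insert {a t : PG ι E} {S : Set (PG ι E)} (ha : a ∈ R.map pr) (hS : S ⊆ R.map pr)
    (ht : t ∈ Subgroup.closure (insert a S)) : t ∈ Subgroup.closure S ∨ a * t ∈ Subgroup.closure S := by
  have hA : Subgroup.closure (insert a S) ≤ R.map pr := (Subgroup.closure_le _).2 (Set.insert_subset ha hS)
  induction ht using Subgroup.closure_induction with
  | mem x hx =>
    rcases hx with rfl | hx
    · exact Or.inr (by rw [h.map_sq ha]; exact one_mem _)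
    · exact Or.inl (Subgroup.subset_closure hx)
  | one => exact Or.inl (one_mem _)
  | mul x y hx hy ihx ihy =>
    have hxA := hA hx
    rcases ihx with e | e <;> rcases ihy with e' | e'
    · exact Or.inl (mul_mem e e')
    · refine Or.inr ?_
      rw [← mul_assoc, h.map_comm ha hxA, mul_assoc]
      exact mul_mem e e'
    · exact Or.inr (by rw [← mul_assoc]; exact mul_mem e e')
    · refine Or.inl ?_
      have := mul_mem e e'
      rwa [h.map_comm ha hxA, mul_assoc, ← mul_assoc a a, h.map_sq ha, one_mul] at this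
  | inv x hx ihx =>
    rwa [inv_eq_of_mul_eq_one_right (h.map_sq (hA hx))]

/-- The classes span the matrices. -/
theorem card_sq_le : Fintype.card ι * Fintype.card ι ≤ Nat.card (R.map (pr (ι := ι) (E := E))) := by
  classical
  haveI := h.nonempty
  haveI : Fintype (R.map (pr (ι := ι) (E := E))) := Fintype.ofFinite _
  let r : R.map (pr (ι := ι) (E := E)) → GL ι E := fun a => Quotient.out a.1
  have hr : ∀ a, pr (r a) = a.1 := fun a => QuotientGroup.out_eq' a.1
  have hrR : ∀ a, r a ∈ R := fun a => h.pr_mem_iff.1 ((hr a).symm ▸ a.2)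
  set N : E := (Fintype.card (R.map (pr (ι := ι) (E := E))) : E)
  have hN : N ≠ 0 := by
    obtain ⟨p, _⟩ := CharP.exists E
    have hp2 : IsPGroup 2 (R.map (pr (ι := ι) (E := E))) := fun a => ⟨1, by rw [pow_one, pow_two]; exact Subtype.ext (h.map_sq a.2)⟩
    haveI : Fact (Nat.Prime 2) := ⟨Nat.prime_two⟩
    obtain ⟨l, hl⟩ := IsPGroup.iff_card.1 hp2
    show ((Fintype.card (R.map (pr (ι := ι) (E := E))) : ℕ) : E) ≠ 0
    rw [← Nat.card_eq_fintype_card, hl, Nat.cast_pow]
    exact pow_ne_zero _ (by exact_mod_cast h.two)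
  -- the averaged conjugates are scalar
  have hav : ∀ M : Matrix ι ι E, ∃ c : E,
      ∑ a, (r a : Matrix ι ι E) * M * ((r a)⁻¹ : GL ι E) = c • 1 := by
    intro M
    refine h.irr _ fun x hx => ?_
    rw [Finset.sum_mul, Finset.mul_sum]
    symm
    refine Fintype.sum_equiv (Equiv.mulLeft (⟨pr x, x, hx, rfl⟩ : R.map (pr (ι := ι) (E := E)))) _ _ fun a => ?_
    obtain ⟨c, hc⟩ := pr_eq_iff.1 (show pr (x * r a) = pr (r (⟨pr x, x, hx, rfl⟩ * a)) by rw [map_mul, hr, hr]; rfl)
    simp only [Equiv.coe_mulLeft]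
    rw [hc]
    have e : sc c * (x * r a) = x * r a * sc c := sc_comm _ _
    have e' : (x * r a * sc c : GL ι E)⁻¹ = sc c⁻¹ * (r a)⁻¹ * x⁻¹ := by
      rw [_root_.mul_inv_rev, _root_.mul_inv_rev, ← mul_assoc]
      congr 2
    rw [e, e']
    simp only [Units.val_mul, sc_val, Matrix.mul_smul, Matrix.smul_mul, mul_one, one_mul, smul_smul,
      Matrix.mul_assoc, Units.inv_mul_cancel_left, Units.inv_mul, Units.val_inv_eq_inv_val]
    rw [inv_mul_cancel₀ c.ne_zero, one_smul]
  -- the reproducing formula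
  have hent : ∀ i j b d : ι, ∑ a, (r a : Matrix ι ι E) b i * ((r a)⁻¹ : GL ι E).val j d =
      if b = d then if i = j then N / (Fintype.card ι : E) else 0 else 0 := by
    intro i j b d
    obtain ⟨c, hc⟩ := hav (Matrix.single i j 1)
    have htr := congrArg Matrix.trace hc
    rw [Matrix.trace_sum, Matrix.trace_smul, Matrix.trace_one, smul_eq_mul] at htr
    have hc' : c = if i = j then N / (Fintype.card ι : E) else 0 := by
      have e1 : ∀ a, ((r a : Matrix ι ι E) * Matrix.single i j (1 : E) * (((r a)⁻¹ : GL ι E) : Matrix ι ι E)).trace =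
          if i = j then 1 else 0 := fun a => by
        rw [Matrix.trace_mul_cycle, ← Units.val_mul, inv_mul_cancel, Units.val_one, one_mul]
        split_ifs with hij
        · subst hij; exact Matrix.trace_single_eq_same _ _
        · exact Matrix.trace_single_eq_of_ne _ _ _ hij
      simp only [e1, Finset.sum_const, Finset.card_univ, nsmul_eq_mul] at htr
      split_ifs at htr ⊢ with hij
      · rw [eq_div_iff h.dim, ← htr, mul_one]
      · rw [mul_zero] at htr
        exact (mul_eq_zero.1 htr.symm).resolve_right h.dim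
    have := congrFun (congrFun hc b) d
    rw [Matrix.sum_apply, Matrix.smul_apply, Matrix.one_apply, smul_eq_mul] at this
    rw [← hc', show (if b = d then c else 0) = c * (if b = d then 1 else 0) by split_ifs <;> simp, ← this]
    refine Finset.sum_congr rfl fun a _ => ?_
    rw [Matrix.mul_apply, Finset.sum_eq_single j]
    · simp
    · intro x _ hx
      rw [Matrix.mul_single_apply_of_ne (c := (1 : E)) (hbj := hx), zero_mul]
    · simp
  let Φ : ((R.map (pr (ι := ι) (E := E))) → E) →ₗ[E] Matrix ι ι E :=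
    Fintype.linearCombination E fun a => (r a : Matrix ι ι E)
  have hsurj : Function.Surjective Φ := by
    intro M
    refine ⟨fun a => ((Fintype.card ι : E) / N) * (M * ((r a)⁻¹ : GL ι E).val).trace, Matrix.ext fun b i => ?_⟩
    rw [Fintype.linearCombination_apply, Matrix.sum_apply]
    simp only [Matrix.smul_apply, smul_eq_mul, Matrix.trace, Matrix.diag_apply, Matrix.mul_apply, Finset.mul_sum,
      Finset.sum_mul]
    rw [Finset.sum_comm]
    calc ∑ d, ∑ a, ∑ j, (Fintype.card ι : E) / N * (M d j * ((r a)⁻¹ : GL ι E).val j d) * (r a : Matrix ι ι E) b i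
        = ∑ d, ∑ j, (Fintype.card ι : E) / N * M d j *
            ∑ a, (r a : Matrix ι ι E) b i * ((r a)⁻¹ : GL ι E).val j d := by
          refine Finset.sum_congr rfl fun d _ => ?_
          rw [Finset.sum_comm]
          refine Finset.sum_congr rfl fun j _ => ?_
          rw [Finset.mul_sum]
          exact Finset.sum_congr rfl fun a _ => by ring
      _ = M b i := by
          simp only [hent]
          simp only [mul_ite, mul_zero]
          rw [Finset.sum_eq_single b (fun d _ hd => Finset.sum_eq_zero fun j _ => by rw [if_neg (Ne.symm hd)]) (by simp)]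
          simp only [if_true]
          rw [Finset.sum_ite_eq, if_pos (Finset.mem_univ _)]
          field_simp [h.dim, hN]
  have := LinearMap.finrank_le_finrank_of_surjective hsurj
  rw [Module.finrank_matrix, Module.finrank_self, mul_one, Module.finrank_fintype_fun_eq_card,
    ← Nat.card_eq_fintype_card (α := R.map (pr (ι := ι) (E := E)))] at this
  exact this

end PS

end Cfsg.Agent.ClassicalMax.SympType
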