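import Cfsg.Agent.ClassicalMax.SympType.Corner

/-!
The overgroups of the normaliser of a two-group of symplectic type in the special linear group: from half the
dimension to the whole.
-/

set_option autoImplicit false
set_option linter.unusedSectionVars false

namespace Cfsg.Agent.ClassicalMax.SympType

open Matrix
open scoped commutatorElement

variable {ι κ : Type*} [Fintype ι] [DecidableEq ι] [Fintype κ] [DecidableEq κ] {E : Type*} [Field E]

local notation "G" => GL ι E
local notation "M" => Matrix ι ι E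

/-- upper unipotent blocks -/
def upb (N : Matrix κ κ E) : GL (κ ⊕ κ) E :=
  ⟨Matrix.fromBlocks 1 N 0 1, Matrix.fromBlocks 1 (-N) 0 1, by simp [Matrix.fromBlocks_multiply],
    by simp [Matrix.fromBlocks_multiply]⟩

/-- the interchange of the blocks -/
def swapb : GL (κ ⊕ κ) E :=
  ⟨Matrix.fromBlocks 0 1 1 0, Matrix.fromBlocks 0 1 1 0, by simp [Matrix.fromBlocks_multiply],
    by simp [Matrix.fromBlocks_multiply]⟩

theorem upb_add (N N' : Matrix κ κ E) : upb N * upb N' = upb (N + N') :=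
  Units.ext (by simp [upb, Matrix.fromBlocks_multiply, add_comm])

open Chart in
/-- Diagonal blocks and one rotation give every element of determinant one. -/
theorem blocks_generate [Finite E] (hd : 3 ≤ Fintype.card κ) (h2 : (2 : E) ≠ 0) {j : E} (hj : j * j = -1)
    (Kb : Subgroup (GL (κ ⊕ κ) E))
    (hdia : ∀ s t : SpecialLinearGroup κ E, dia (SpecialLinearGroup.toGL s) (SpecialLinearGroup.toGL t) ∈ Kb)
    (hswap : swapb ∈ Kb) {τ : GL (κ ⊕ κ) E}
    (hτ : (τ : Matrix (κ ⊕ κ) (κ ⊕ κ) E) = Matrix.fromBlocks 1 (j • (1 : Matrix κ κ E)) (j • (1 : Matrix κ κ E)) 1)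
    (hτK : τ ∈ Kb) : ∀ g : GL (κ ⊕ κ) E, (g : Matrix (κ ⊕ κ) (κ ⊕ κ) E).det = 1 → g ∈ Kb := by
  classical
  have hj0 : j ≠ 0 := fun e => by simp [e] at hj
  obtain ⟨U, hU⟩ : ∃ U : AddSubgroup (Matrix κ κ E), ∀ N, N ∈ U ↔ upb N ∈ Kb :=
    ⟨{ carrier := {N | upb N ∈ Kb}
       zero_mem' := by
        show upb (0 : Matrix κ κ E) ∈ Kb
        rw [show upb (0 : Matrix κ κ E) = (1 : GL (κ ⊕ κ) E) from Units.ext (by simp [upb, Matrix.fromBlocks_one])]
        exact one_mem _
       add_mem' := fun {a b} ha hb => by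
        show upb (a + b) ∈ Kb
        rw [← upb_add]; exact mul_mem ha hb
       neg_mem' := fun {a} ha => by
        show upb (-a) ∈ Kb
        rw [show upb (-a) = (upb a)⁻¹ from Units.ext rfl]
        exact inv_mem ha }, fun N => Iff.rfl⟩
  have hbi : ∀ (s t : SpecialLinearGroup κ E) N, N ∈ U →
      (s : Matrix κ κ E) * N * ((t⁻¹ : SpecialLinearGroup κ E) : Matrix κ κ E) ∈ U := by
    intro s t N hN
    rw [hU] at hN ⊢
    have e : upb ((s : Matrix κ κ E) * N * ((t⁻¹ : SpecialLinearGroup κ E) : Matrix κ κ E)) =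
        dia (SpecialLinearGroup.toGL s) (SpecialLinearGroup.toGL t) * upb N * dia (SpecialLinearGroup.toGL s⁻¹)
          (SpecialLinearGroup.toGL t⁻¹) := by
      refine Units.ext ?_
      have e1 : (s : Matrix κ κ E) * ((s⁻¹ : SpecialLinearGroup κ E) : Matrix κ κ E) = 1 := by
        exact congrArg Subtype.val (mul_inv_cancel s)
      have e2 : (t : Matrix κ κ E) * ((t⁻¹ : SpecialLinearGroup κ E) : Matrix κ κ E) = 1 := by
        exact congrArg Subtype.val (mul_inv_cancel t)
      simp only [upb, dia, Units.val_mul, Matrix.fromBlocks_multiply, SpecialLinearGroup.coe_GL_coe_matrix,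
        Matrix.mul_zero, Matrix.zero_mul, Matrix.mul_one, Matrix.one_mul, add_zero, zero_add, e1, e2]
    rw [e]
    exact mul_mem (mul_mem (hdia s t) hN) (hdia _ _)
  have hleft : ∀ (s : SpecialLinearGroup κ E) N, N ∈ U → (s : Matrix κ κ E) * N ∈ U := fun s N hN => by
    simpa using hbi s 1 N hN
  have hright : ∀ (s : SpecialLinearGroup κ E) N, N ∈ U → N * (s : Matrix κ κ E) ∈ U := fun s N hN => by
    simpa using hbi 1 s⁻¹ N hN
  obtain ⟨a, b, c, hab, hac, hbc⟩ := Fintype.two_lt_card_iff.1 (show 2 < Fintype.card κ by omega)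
  have hNab : (Matrix.single a b (1 : E)) * Matrix.single a b (1 : E) = 0 :=
    Matrix.single_mul_single_of_ne _ a b a hab.symm 1
  have hfirst : Matrix.single a b j ∈ U := by
    obtain ⟨N, hN⟩ : ∃ N, N = Matrix.single a b (1 : E) := ⟨_, rfl⟩
    rw [← hN] at hNab
    obtain ⟨P, hP⟩ : ∃ P : SpecialLinearGroup κ E, (P : Matrix κ κ E) = 1 + N :=
      ⟨SpecialLinearGroup.transvection hab 1, by rw [hN]; rfl⟩
    obtain ⟨P', hP'⟩ : ∃ P : SpecialLinearGroup κ E, (P : Matrix κ κ E) = 1 + (-(2 : E)⁻¹) • N :=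
      ⟨SpecialLinearGroup.transvection hab (-(2 : E)⁻¹), by rw [hN, Matrix.smul_single, smul_eq_mul, mul_one]; rfl⟩
    obtain ⟨v, hv⟩ : ∃ v : κ → E, v = fun i => if i = a ∨ i = c then -1 else 1 := ⟨_, rfl⟩
    obtain ⟨D, hD⟩ : ∃ D : SpecialLinearGroup κ E, (D : Matrix κ κ E) = Matrix.diagonal v := by
      refine ⟨⟨Matrix.diagonal v, ?_⟩, rfl⟩
      rw [Matrix.det_diagonal, hv, Finset.prod_ite, Finset.prod_const, Finset.prod_const_one, mul_one,
        show (Finset.univ.filter fun i => i = a ∨ i = c) = {a, c} by ext i; simp, Finset.card_pair hac]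
      simp
    have hDD : (D : Matrix κ κ E) * D = 1 := by
      rw [hD, Matrix.diagonal_mul_diagonal, ← Matrix.diagonal_one]
      congr 1; funext i; rw [hv]; by_cases hi : i = a ∨ i = c <;> simp [hi]
    have hDN : (D : Matrix κ κ E) * N = -N := by
      rw [hN, hD]; ext r s
      rw [Matrix.diagonal_mul, Matrix.neg_apply, Matrix.single_apply]
      by_cases hr : a = r ∧ b = s
      · rw [hv]; simp [hr.1.symm, hr.2]
      · simp [hr]
    have hND : N * (D : Matrix κ κ E) = N := by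
      rw [hN, hD]; ext r s
      rw [Matrix.mul_diagonal, Matrix.single_apply]
      by_cases hr : a = r ∧ b = s
      · rw [hv]; simp [hr.2.symm, hab.symm, hbc]
      · simp [hr]
    obtain ⟨X, hX⟩ : ∃ X, X = τ * dia (SpecialLinearGroup.toGL P) (SpecialLinearGroup.toGL 1) * τ⁻¹ *
        dia (SpecialLinearGroup.toGL P') (SpecialLinearGroup.toGL P') := ⟨_, rfl⟩
    have hXK : X ∈ Kb := hX ▸ mul_mem (mul_mem (mul_mem hτK (hdia _ _)) (inv_mem hτK)) (hdia _ _)
    have hτi : ((τ⁻¹ : GL (κ ⊕ κ) E) : Matrix (κ ⊕ κ) (κ ⊕ κ) E) =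
        (2 : E)⁻¹ • Matrix.fromBlocks 1 (-j • (1 : Matrix κ κ E)) (-j • (1 : Matrix κ κ E)) 1 := by
      refine Units.inv_eq_of_mul_eq_one_right ?_
      rw [hτ, Matrix.mul_smul, Matrix.fromBlocks_multiply, Matrix.fromBlocks_smul, ← Matrix.fromBlocks_one]
      congr 1 <;>
      · simp only [Matrix.one_mul, Matrix.mul_one, Matrix.smul_mul, smul_smul, ← add_smul, mul_neg, hj, neg_smul,
          one_smul, neg_neg, smul_neg, neg_add_cancel, add_neg_cancel, smul_zero]
        try rw [← two_smul E, smul_smul, inv_mul_cancel₀ h2, one_smul]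
    have hXv : (X : Matrix (κ ⊕ κ) (κ ⊕ κ) E) =
        Matrix.fromBlocks 1 ((-(j * (2 : E)⁻¹)) • N) ((j * (2 : E)⁻¹) • N) 1 := by
      simp only [hX, Units.val_mul, hτ, hτi, dia, Matrix.fromBlocks_multiply, Matrix.fromBlocks_smul,
        SpecialLinearGroup.coe_GL_coe_matrix, map_one, Units.val_one, hP, hP']
      simp only [Matrix.mul_add, Matrix.add_mul, Matrix.mul_one, Matrix.one_mul, Matrix.mul_zero, Matrix.zero_mul,
        Matrix.smul_mul, Matrix.mul_smul, smul_add, smul_smul, hNab, smul_zero, add_zero, zero_add]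
      congr 1 <;>
      · ext r s
        simp only [Matrix.add_apply, Matrix.smul_apply, smul_eq_mul, Matrix.one_apply]
        field_simp
        try rw [show j ^ 2 = -1 by rw [pow_two, hj]]
        try ring
    obtain ⟨Y, hY⟩ : ∃ Y, Y = dia (SpecialLinearGroup.toGL D) (SpecialLinearGroup.toGL 1) * X *
        dia (SpecialLinearGroup.toGL D) (SpecialLinearGroup.toGL 1) := ⟨_, rfl⟩
    have hYK : Y ∈ Kb := hY ▸ mul_mem (mul_mem (hdia _ _) hXK) (hdia _ _)
    have hYX : upb (j • N) * X = Y := by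
      refine Units.ext ?_
      simp only [hY, Units.val_mul, hXv, upb, dia, Matrix.fromBlocks_multiply, SpecialLinearGroup.coe_GL_coe_matrix,
        map_one, Units.val_one]
      simp only [Matrix.mul_one, Matrix.one_mul, Matrix.mul_zero, Matrix.zero_mul, Matrix.smul_mul, Matrix.mul_smul,
        smul_smul, hNab, hDD, hDN, hND, smul_zero, add_zero, zero_add, smul_neg]
      congr 1
      rw [← neg_smul, ← add_smul]
      congr 1
      field_simp
      ring
    rw [show Matrix.single a b j = j • N by rw [hN, Matrix.smul_single, smul_eq_mul, mul_one], hU,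
      show upb (j • N) = Y * X⁻¹ by rw [← hYX, mul_inv_cancel_right]]
    exact mul_mem hYK (inv_mem hXK)
  -- every elementary block
  have tl : ∀ {k i : κ} (hki : k ≠ i) (m : E) {l : κ} {c : E}, Matrix.single i l c ∈ U → Matrix.single k l (m * c) ∈ U := by
    intro k i hki m l c hc
    have e := U.sub_mem (hleft (SpecialLinearGroup.transvection hki m) _ hc) hc
    have : ((SpecialLinearGroup.transvection hki m : SpecialLinearGroup κ E) : Matrix κ κ E) = 1 + Matrix.single k i m := rfl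
    rwa [this, Matrix.add_mul, Matrix.one_mul, add_sub_cancel_left, Matrix.single_mul_single_same] at e
  have tr : ∀ {l i : κ} (hil : i ≠ l) (m : E) {k : κ} {c : E}, Matrix.single k i c ∈ U → Matrix.single k l (c * m) ∈ U := by
    intro l i hil m k c hc
    have e := U.sub_mem (hright (SpecialLinearGroup.transvection hil m) _ hc) hc
    have : ((SpecialLinearGroup.transvection hil m : SpecialLinearGroup κ E) : Matrix κ κ E) = 1 + Matrix.single i l m := rfl
    rwa [this, Matrix.mul_add, Matrix.mul_one, add_sub_cancel_left, Matrix.single_mul_single_same] at e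
  have hcol : ∀ k m, Matrix.single k b m ∈ U := by
    have hne : ∀ k, k ≠ a → ∀ m, Matrix.single k b m ∈ U := fun k hk m => by
      have := tl hk (m * j⁻¹) hfirst
      rwa [inv_mul_cancel_right₀ hj0] at this
    intro k m
    rcases eq_or_ne k a with rfl | hk
    · have := tl hac m (hne c hac.symm 1)
      rwa [mul_one] at this
    · exact hne k hk m
  have hall : ∀ k l m, Matrix.single k l m ∈ U := by
    intro k l m
    rcases eq_or_ne b l with rfl | hl
    · exact hcol k m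
    · have := tr hl m (hcol k 1)
      rwa [one_mul] at this
  have hone : ∀ s : SpecialLinearGroup κ E, dia (SpecialLinearGroup.toGL s) 1 ∈ Kb ∧ dia 1 (SpecialLinearGroup.toGL s) ∈ Kb :=
    fun s => ⟨by simpa using hdia s 1, by simpa using hdia 1 s⟩
  have htop : Kb.comap (SpecialLinearGroup.toGL (n := κ ⊕ κ) (R := E)) = ⊤ := by
    refine Classical.sl_eq_top_of_transvection _ fun p q hpq m => ?_
    rw [Subgroup.mem_comap]
    rcases p with k | k <;> rcases q with l | l
    · have hkl : k ≠ l := fun e => hpq (by rw [e])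
      convert (hone (SpecialLinearGroup.transvection hkl m)).1 using 1
      refine Units.ext ?_
      show (1 : Matrix (κ ⊕ κ) (κ ⊕ κ) E) + Matrix.single (Sum.inl k) (Sum.inl l) m =
        Matrix.fromBlocks (1 + Matrix.single k l m) 0 0 1
      ext (r | r) (s | s) <;> simp [Matrix.single_apply, Matrix.one_apply]
    · convert (hU _).1 (hall k l m) using 1
      refine Units.ext ?_
      show (1 : Matrix (κ ⊕ κ) (κ ⊕ κ) E) + Matrix.single (Sum.inl k) (Sum.inr l) m =
        Matrix.fromBlocks 1 (Matrix.single k l m) 0 1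
      ext (r | r) (s | s) <;> simp [Matrix.single_apply, Matrix.one_apply]
    · convert mul_mem (mul_mem hswap ((hU _).1 (hall k l m))) hswap using 1
      refine Units.ext ?_
      show (1 : Matrix (κ ⊕ κ) (κ ⊕ κ) E) + Matrix.single (Sum.inr k) (Sum.inl l) m =
        Matrix.fromBlocks 0 1 1 0 * Matrix.fromBlocks 1 (Matrix.single k l m) 0 1 * Matrix.fromBlocks 0 1 1 0
      simp only [Matrix.fromBlocks_multiply, Matrix.mul_zero, Matrix.zero_mul, Matrix.mul_one, Matrix.one_mul,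
        add_zero, zero_add]
      ext (r | r) (s | s) <;> simp [Matrix.single_apply, Matrix.one_apply]
    · have hkl : k ≠ l := fun e => hpq (by rw [e])
      convert (hone (SpecialLinearGroup.transvection hkl m)).2 using 1
      refine Units.ext ?_
      show (1 : Matrix (κ ⊕ κ) (κ ⊕ κ) E) + Matrix.single (Sum.inr k) (Sum.inr l) m =
        Matrix.fromBlocks 1 0 0 (1 + Matrix.single k l m)
      ext (r | r) (s | s) <;> simp [Matrix.single_apply, Matrix.one_apply]
  intro g hg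
  obtain ⟨s, hs⟩ : ∃ s : SpecialLinearGroup (κ ⊕ κ) E, SpecialLinearGroup.toGL s = g := ⟨⟨_, hg⟩, Units.ext rfl⟩
  rw [← hs, ← Subgroup.mem_comap, htop]
  trivial

variable [Finite E] {R K : Subgroup (GL ι E)}

namespace Chart

variable {x : GL ι E} (ch : Chart R x κ) (h : PS R)

include h in
/-- Everything on one eigenspace with a kernel gives the special linear group. -/
theorem finish (hbig : ch.Big K) (hker : ch.Kernel h K) (hyK : ch.y ∈ K) (hl : Lifts R K)
    (hd : 3 ≤ Fintype.card κ) : ∀ g : G, (g : M).det = 1 → g ∈ K := by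
  classical
  haveI : Fintype E := Fintype.ofFinite E
  obtain ⟨j, hj⟩ := h.fourth
  obtain ⟨a, ha, haK⟩ := hker
  obtain ⟨L, hL⟩ : ∃ L : Subgroup (GL κ E), ∀ a, a ∈ L ↔ ch.δ h a 1 ∈ K :=
    ⟨K.comap (MonoidHom.mk' (fun a => ch.δ h a 1) fun a b => by rw [ch.δ_mul, one_mul]), fun a => Iff.rfl⟩
  have hA : ∀ s : SpecialLinearGroup κ E, ch.δ h (SpecialLinearGroup.toGL s) 1 ∈ K := fun s => by
    rw [← hL]
    refine le_of_normalised (Or.inl hd) L (fun l hl' t => ?_) ⟨a, (hL a).2 haK, ha⟩ s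
    rw [hL] at hl' ⊢
    obtain ⟨g, hg, hge, hgv⟩ := ch.em.mem_restrict.1 (hbig (SpecialLinearGroup.toGL t) t.2)
    have hgx : g * x = x * g := (comm_ez_iff h.two).1 hge
    have hc : ch.y * g * ch.y * x = x * (ch.y * g * ch.y) := by
      have a1 : ch.y * x = -(x * ch.y) := by rw [ch.anti, neg_neg]
      calc ch.y * g * ch.y * x = ch.y * g * (ch.y * x) := by simp only [mul_assoc]
        _ = -(ch.y * (g * x) * ch.y) := by rw [a1, mul_neg]; simp only [mul_assoc]
        _ = -(ch.y * x * (g * ch.y)) := by rw [hgx]; simp only [mul_assoc]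
        _ = x * (ch.y * g * ch.y) := by rw [a1, neg_mul, neg_neg]; simp only [mul_assoc]
    have e := ch.eq_δ h hgx hgv (b := ch.em.res ⟨_, (comm_ez_iff h.two).2 hc⟩)
      (by rw [Emb.res_val, Units.val_mul, Units.val_mul])
    have := mul_mem (mul_mem hg hl') (inv_mem hg)
    rwa [e, ch.δ_inv, ch.δ_mul, ch.δ_mul, mul_one, mul_inv_cancel] at this
  have hB : ∀ s : SpecialLinearGroup κ E, ch.δ h 1 (SpecialLinearGroup.toGL s) ∈ K := fun s => by
    rw [← ch.y_δ h]; exact mul_mem (mul_mem hyK (hA s)) hyK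
  obtain ⟨Kb, hKb⟩ : ∃ Kb, Kb = K.comap (ch.Ψ h) := ⟨_, rfl⟩
  have hσ : ch.Ψ h swapb = ch.y := by
    refine Units.ext ?_
    rw [ch.Ψ_val, swapb, Q, Q', Matrix.fromCols_mul_fromBlocks, Matrix.mul_zero, Matrix.mul_zero, Matrix.mul_one,
      Matrix.mul_one, add_zero, zero_add, Matrix.fromCols_mul_fromRows, Matrix.mul_assoc (ch.y : M),
      ← Matrix.mul_assoc ch.em.inc, ch.em.ip, anti_ez ch.anti h.two, sub_mul, one_mul, sub_add_cancel]
  have hyn : ((ch.y : M) * ch.y) = 1 := ch.yy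
  have hjy : (sc (Units.mk0 j fun e => by simp [e] at hj) * ch.y) * (sc (Units.mk0 j fun e => by simp [e] at hj) * ch.y) = -1 := by
    refine Units.ext ?_
    rw [Units.val_mul, Units.val_mul, sc_val, Units.val_mk0, Matrix.smul_mul, Matrix.one_mul, smul_mul_smul_comm,
      hyn, hj, neg_one_smul, Units.val_neg, Units.val_one]
  obtain ⟨τ, hτ⟩ : ∃ τ : GL (κ ⊕ κ) E, (τ : Matrix (κ ⊕ κ) (κ ⊕ κ) E) =
      Matrix.fromBlocks 1 (j • (1 : Matrix κ κ E)) (j • (1 : Matrix κ κ E)) 1 := by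
    refine ⟨⟨Matrix.fromBlocks 1 (j • (1 : Matrix κ κ E)) (j • (1 : Matrix κ κ E)) 1,
      (2 : E)⁻¹ • Matrix.fromBlocks 1 (-j • (1 : Matrix κ κ E)) (-j • (1 : Matrix κ κ E)) 1, ?_, ?_⟩, rfl⟩ <;>
    · first
        | rw [Matrix.mul_smul]
        | rw [Matrix.smul_mul]
      rw [Matrix.fromBlocks_multiply, Matrix.fromBlocks_smul, ← Matrix.fromBlocks_one]
      congr 1 <;>
      · simp only [Matrix.one_mul, Matrix.mul_one, Matrix.smul_mul, smul_smul, ← add_smul, mul_neg, neg_mul, hj,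
          neg_smul, one_smul, neg_neg, smul_neg, neg_add_cancel, add_neg_cancel, smul_zero]
        try rw [← two_smul E, smul_smul, inv_mul_cancel₀ h.two, one_smul]
  have hτv : ((ch.Ψ h τ : G) : M) =
      1 + ((sc (Units.mk0 j fun e => by simp [e] at hj) * ch.y : G) : M) := by
    rw [ch.Ψ_val, hτ, show Matrix.fromBlocks 1 (j • (1 : Matrix κ κ E)) (j • (1 : Matrix κ κ E)) 1 =
      1 + j • Matrix.fromBlocks 0 (1 : Matrix κ κ E) 1 0 by
        rw [← Matrix.fromBlocks_one, Matrix.fromBlocks_smul, Matrix.fromBlocks_add]; simp,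
      Matrix.mul_add, Matrix.add_mul, Matrix.mul_one, ch.Q_Q' h, Matrix.mul_smul, Matrix.smul_mul]
    congr 1
    have := congrArg Units.val hσ
    rw [ch.Ψ_val] at this
    rw [Units.val_mul, sc_val, Units.val_mk0, Matrix.smul_mul, Matrix.one_mul, ← this]
    rfl
  have hblocks := blocks_generate hd h.two hj Kb (fun s t => by
      rw [hKb, Subgroup.mem_comap]
      show ch.δ h _ _ ∈ K
      have := mul_mem (hA s) (hB t)
      rwa [ch.δ_mul, one_mul, mul_one] at this)
    (by rw [hKb, Subgroup.mem_comap, hσ]; exact hyK) hτ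
    (by rw [hKb, Subgroup.mem_comap]; exact hl _ (mul_mem (h.scal _) ch.ymem) hjy _ hτv)
  intro g hg
  have inv : ∀ g g' : G, g * g' = 1 → ch.Q' * (g : M) * ch.Q * (ch.Q' * (g' : M) * ch.Q) = 1 := fun g g' e => by
    calc ch.Q' * (g : M) * ch.Q * (ch.Q' * (g' : M) * ch.Q) = ch.Q' * ((g : M) * (ch.Q * ch.Q') * (g' : M)) * ch.Q := by
          simp only [Matrix.mul_assoc]
      _ = _ := by rw [ch.Q_Q' h, Matrix.mul_one, ← Units.val_mul, e, Units.val_one, Matrix.mul_one, ch.Q'_Q h]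
  obtain ⟨m, hm⟩ : ∃ m : GL (κ ⊕ κ) E, (m : Matrix (κ ⊕ κ) (κ ⊕ κ) E) = ch.Q' * (g : M) * ch.Q :=
    ⟨⟨_, _, inv g g⁻¹ (mul_inv_cancel g), inv g⁻¹ g (inv_mul_cancel g)⟩, rfl⟩
  have hmg : ch.Ψ h m = g := by
    refine Units.ext ?_
    rw [ch.Ψ_val, hm]
    calc ch.Q * (ch.Q' * (g : M) * ch.Q) * ch.Q' = ch.Q * ch.Q' * (g : M) * (ch.Q * ch.Q') := by
          simp only [Matrix.mul_assoc]
      _ = _ := by rw [ch.Q_Q' h, Matrix.one_mul, Matrix.mul_one]
  have := hblocks m (by rw [← ch.Ψ_det h, hmg, hg])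
  rwa [hKb, Subgroup.mem_comap, hmg] at this

end Chart

/-- The dichotomy passes from half the dimension to the whole. -/
theorem dichotomy_step {d : ℕ} (hd : 4 ∣ d) (hd0 : d ≠ 0) (hι : Fintype.card ι = 2 * d) (hT : Dichotomy (Fin d) E) :
    Dichotomy ι E := by
  classical
  haveI : Fintype E := Fintype.ofFinite E
  intro R h K₀ hK₀
  haveI := h.nonempty
  obtain ⟨K, hK'⟩ : ∃ K : Subgroup G, ∀ g, g ∈ K ↔ ∃ c : Eˣ, sc c * g ∈ K₀ := by
    refine ⟨{ carrier := {g | ∃ c : Eˣ, sc c * g ∈ K₀}, one_mem' := ⟨1, by rw [sc_one, one_mul]; exact one_mem _⟩,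
              mul_mem' := ?_, inv_mem' := ?_ }, fun g => Iff.rfl⟩
    · rintro a b ⟨c, hc⟩ ⟨e, he⟩
      refine ⟨c * e, ?_⟩
      have := mul_mem hc he
      rwa [mul_assoc, ← mul_assoc a, ← sc_comm, mul_assoc (sc e) a, ← mul_assoc, sc_mul] at this
    · rintro a ⟨c, hc⟩
      refine ⟨c⁻¹, ?_⟩
      have := inv_mem hc
      rwa [_root_.mul_inv_rev, show (sc c : G)⁻¹ = sc c⁻¹ from inv_eq_of_mul_eq_one_right (by
        rw [sc_mul, mul_inv_cancel, sc_one]), ← sc_comm] at this
  have hK0 : ∀ g ∈ K₀, g ∈ K := fun g hg => (hK' g).2 ⟨1, by rwa [sc_one, one_mul]⟩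
  have hsc : ∀ c : Eˣ, sc c ∈ K := fun c => (hK' _).2 ⟨c⁻¹, by rw [sc_mul, inv_mul_cancel, sc_one]; exact one_mem _⟩
  have hK : ∀ g : G, (g : M).det = 1 → (∀ r ∈ R, g * r * g⁻¹ ∈ R) → g ∈ K := fun g h1 h2 => hK0 g (hK₀ g h1 h2)
  suffices (∀ g ∈ K, ∀ r ∈ R, g * r * g⁻¹ ∈ R) ∨ ∀ g : G, (g : M).det = 1 → g ∈ K by
    rcases this with h1 | h1
    · exact Or.inl fun g hg => h1 g (hK0 g hg)
    · refine Or.inr fun g hg => ?_
      have htop : K₀.comap (SpecialLinearGroup.toGL (n := ι) (R := E)) = ⊤ := by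
        rw [eq_top_iff, ← Classical.commutator_sl_eq_top (ι := ι) (F := E) (Or.inl (by omega)), commutator_eq_closure,
          Subgroup.closure_le]
        rintro _ ⟨u, v, rfl⟩
        obtain ⟨c, hc⟩ := (hK' _).1 (h1 (SpecialLinearGroup.toGL u) u.2)
        obtain ⟨e, he⟩ := (hK' _).1 (h1 (SpecialLinearGroup.toGL v) v.2)
        have := mul_mem (mul_mem (mul_mem hc he) (inv_mem hc)) (inv_mem he)
        show SpecialLinearGroup.toGL ⁅u, v⁆ ∈ K₀
        rw [map_commutatorElement]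
        have cm : ∀ (c e : Eˣ) (a b : G), sc c * a * (sc e * b) * (sc c * a)⁻¹ * (sc e * b)⁻¹ = ⁅a, b⁆ := fun c e a b => by
          have cc : ∀ (c : Eˣ) (a b : G), sc c * a * b * (sc c * a)⁻¹ = a * b * a⁻¹ := fun c a b => by
            calc sc c * a * b * (sc c * a)⁻¹ = sc c * (a * b * a⁻¹) * (sc c)⁻¹ := by group
              _ = _ := sc_conj _ _
          rw [cc, ← mul_assoc a, ← sc_comm, commutatorElement_def]
          calc sc e * a * b * a⁻¹ * (sc e * b)⁻¹ = sc e * (a * b * a⁻¹ * b⁻¹) * (sc e)⁻¹ := by group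
            _ = _ := sc_conj _ _
        rwa [cm] at this
      obtain ⟨s, hs⟩ : ∃ s : SpecialLinearGroup ι E, SpecialLinearGroup.toGL s = g := ⟨⟨_, hg⟩, Units.ext rfl⟩
      rw [← hs, ← Subgroup.mem_comap, htop]
      trivial
  obtain ⟨j, hj⟩ := h.fourth
  have hj1 : 1 + j ≠ 0 := fun e => h.two (by
    have : j = -1 := by linear_combination e
    rw [this] at hj; linear_combination hj)
  have hj0 : j ≠ 0 := fun e => by simp [e] at hj
  have hTn : ∀ {a T : G}, a ∈ R → a * a = -1 → (T : M) = 1 + (a : M) → ∀ r ∈ R, T * r * T⁻¹ ∈ R := by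
    intro a T ha ha2 hT r hr
    rcases h.comm a ha r hr with e | e
    · rw [(h.lift_conj hr ha ha2 hT).1 e]; exact hr
    · rw [(h.lift_conj hr ha ha2 hT).2 e]; exact mul_mem ha hr
  have hdet : ∀ {a : G}, a ∈ R → a * a = -1 → pr a ≠ 1 → (1 + (a : M)).det = 2 ^ d := fun ha ha2 ha1 => by
    obtain ⟨d', hd', e⟩ := det_lift h ha ha2 ha1
    rw [e, show d' = d by omega]
  have hRK : R ≤ K := by
    intro r hr
    obtain ⟨c, a, ha, rfl, ha2⟩ := h.scaled hr
    refine mul_mem (hsc c) ?_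
    by_cases ha1 : pr a = 1
    · obtain ⟨e, rfl⟩ := pr_eq_one_iff.1 ha1; exact hsc e
    refine hK a ?_ fun r hr => mul_mem (mul_mem ha hr) (inv_mem ha)
    have e : (1 + (a : M)) * (1 + (a : M)) = (2 : E) • (a : M) := by
      rw [add_mul, mul_add, mul_add, one_mul, mul_one, one_mul, ← Units.val_mul, ha2, Units.val_neg, Units.val_one,
        two_smul]
      abel
    have e' := congrArg Matrix.det e
    rw [Matrix.det_mul, hdet ha ha2 ha1, Matrix.det_smul, hι, ← pow_add, ← two_mul] at e'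
    exact mul_left_cancel₀ (pow_ne_zero (2 * d) h.two) (by rw [← e', mul_one])
  have hl : Lifts R K := by
    intro a ha ha2 T hT
    by_cases ha1 : pr a = 1
    · obtain ⟨c, rfl⟩ := pr_eq_one_iff.1 ha1
      obtain ⟨e, rfl⟩ := exists_sc_of_smul (g := T) (c := 1 + (c : E)) (by rw [hT, sc_val, add_smul, one_smul])
      exact hsc e
    obtain ⟨c, hc⟩ : ∃ c : Eˣ, (c : E) = j / (1 + j) := ⟨Units.mk0 _ (div_ne_zero hj0 hj1), rfl⟩
    have h4 : ((sc c * T : G) : M).det = 1 := by
      rw [Units.val_mul, sc_val, Matrix.smul_mul, Matrix.one_mul, Matrix.det_smul, hT, hdet ha ha2 ha1, hι,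
        pow_mul, ← mul_pow]
      obtain ⟨m, rfl⟩ := hd
      rw [pow_mul, show ((c : E) ^ 2 * 2) = j by
        rw [hc]; field_simp; linear_combination -hj]
      rw [show j ^ 4 = 1 by linear_combination (j * j - 1) * hj, one_pow]
    have h5 := mul_mem (hsc c⁻¹) (hK _ h4 fun r hr => by
      rw [show sc c * T * r * (sc c * T)⁻¹ = sc c * (T * r * T⁻¹) * (sc c)⁻¹ by group, sc_conj]
      exact hTn ha ha2 hT r hr)
    rwa [← mul_assoc, sc_mul, inv_mul_cancel, sc_one, one_mul] at h5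
  have h4d : 4 ≤ d := Nat.le_of_dvd (Nat.pos_of_ne_zero hd0) hd
  have hbig : 16 < Nat.card (R.map (pr (ι := ι) (E := E))) := by
    have := h.card_sq_le
    have : 8 ≤ Fintype.card ι := by omega
    have := Nat.mul_le_mul this this
    omega
  by_cases hall : ∀ x ∈ R, x * x = 1 → pr x ≠ 1 → Small R K x
  · exact Or.inl (h.normal_of_local hbig hl hall hRK)
  refine Or.inr ?_
  push Not at hall
  obtain ⟨x, hx, hxx, hx1, hns⟩ := hall
  have hchart : ∀ x, x ∈ R → x * x = 1 → pr x ≠ 1 → Nonempty (Chart R x (Fin d)) := fun x hx hxx hx1 =>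
    h.exists_chart hx hxx hx1 hι
  have hd3 : 3 ≤ Fintype.card (Fin d) := by simp; omega
  have hd2 : Fintype.card (Fin d) = 2 * (d / 2) := by simp; omega
  have hd' : 2 ≤ d / 2 := by omega
  obtain ⟨ch⟩ := hchart x hx hxx hx1
  have hb : ch.Big K := (ch.small_or_big h hT hK).resolve_left hns
  by_cases hk : ch.Kernel h K
  · exact ch.finish h hb hk (hRK ch.ymem) hl hd3
  obtain ⟨w, hw, hww, hwx, hw1, hne⟩ : ∃ w ∈ R, w * w = 1 ∧ w * x = x * w ∧ pr w ≠ 1 ∧ pr w ≠ pr x := by
    have hP := ch.PS_restrict h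
    obtain ⟨r, hr, hr1⟩ : ∃ r ∈ ch.em.restrict R, pr r ≠ 1 := by
      by_contra! hc
      have : Nat.card ((ch.em.restrict R).map (pr (ι := Fin d) (E := E))) ≤ 1 :=
        Finite.card_le_one_iff_subsingleton.2 ⟨fun u v => Subtype.ext (by
          obtain ⟨_, ru, hru, rfl⟩ := u
          obtain ⟨_, rv, hrv, rfl⟩ := v
          show pr ru = pr rv
          rw [hc ru hru, hc rv hrv])⟩
      have := hP.card_sq_le
      have := Nat.mul_le_mul hd3 hd3
      omega
    obtain ⟨u, hu, hue, hur⟩ := ch.em.mem_restrict.1 hr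
    obtain ⟨c, w, hw, rfl, hww⟩ := h.root u hu
    have hwx : w * x = x * w := by
      have e := (comm_ez_iff h.two).1 hue
      rw [mul_assoc, ← mul_assoc x, ← sc_comm, mul_assoc (sc c) x] at e
      exact mul_left_cancel e
    refine ⟨w, hw, hww, hwx, fun e => ?_, fun e => ?_⟩
    · obtain ⟨b, rfl⟩ := pr_eq_one_iff.1 e
      refine hr1 (pr_eq_one_iff.2 ⟨c * b, Units.ext ?_⟩)
      rw [← hur, sc_mul, sc_val, sc_val, ch.em.val_smul, ch.em.val_one]
    · obtain ⟨b, rfl⟩ := pr_eq_iff.1 e.symm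
      refine hr1 (pr_eq_one_iff.2 ⟨c * b, Units.ext ?_⟩)
      rw [← hur, ← mul_assoc, sc_mul, Units.val_mul, sc_val, sc_val, Matrix.smul_mul, Matrix.one_mul,
        ch.em.val_smul, ch.em.val_of_mul (m' := 1) (by rw [(z_mul_ez hxx).2, Matrix.mul_one]), ch.em.val_one]
  have hw' := ch.not_small h hb hk hRK hd2 hd' hw hww hwx hw1 hne
  obtain ⟨chw⟩ := hchart w hw hww hw1
  have hbw : chw.Big K := (chw.small_or_big h hT hK).resolve_left hw'
  by_cases hkw : chw.Kernel h K
  · exact chw.finish h hbw hkw (hRK chw.ymem) hl hd3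
  have hzz : x * w * (x * w) = 1 := by rw [mul_assoc, ← mul_assoc w, hwx, mul_assoc x w w, hww, mul_one, hxx]
  have hzx : x * w * x = x * (x * w) := by rw [mul_assoc, hwx]
  have hz1 : pr (x * w) ≠ 1 := fun e => hne (by
    rw [map_mul] at e
    rw [← inv_eq_of_mul_eq_one_right e, inv_eq_of_mul_eq_one_right (show pr x * pr x = 1 by
      rw [← map_mul, hxx, map_one])])
  have hzne : pr (x * w) ≠ pr x := fun e => hw1 (by rw [map_mul] at e; exact mul_eq_left.1 e)
  have hz' := ch.not_small h hb hk hRK hd2 hd' (mul_mem hx hw) hzz hzx hz1 hzne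
  obtain ⟨chz⟩ := hchart _ (mul_mem hx hw) hzz hz1
  have hbz : chz.Big K := (chz.small_or_big h hT hK).resolve_left hz'
  by_cases hkz : chz.Kernel h K
  · exact chz.finish h hbz hkz (hRK chz.ymem) hl hd3
  exact (no_triple h ch chw chz hRK hwx hw1 hne hd2 hd' hb hbw hbz hk hkw hkz).elim

end Cfsg.Agent.ClassicalMax.SympType
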